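import Cfsg.Agent.Lib.FgsC.LocalBalance.PlusOut
import Cfsg.Agent.Lib.Geometry.D4Normal
import Cfsg.Agent.Lib.Geometry.EvenGraph
import Cfsg.Agent.Lib.Geometry.FieldCriterion

/-!
The order three triality, related triples under it, and the automorphisms of the octonion algebra.
-/

set_option autoImplicit false
set_option maxHeartbeats 1000000

namespace CfsgLib.FgsC.LocalBalance.Tri

open Matrix QuadraticMap CfsgLib.Geometry
open CfsgLib.Geometry.Oct (V G8 Q Sim ap Trip pi0 pi1 pi2 R8 V8 Phi8)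

variable {F : Type*} [Field F] [Finite F]

local notation "R" => R8 F

/-- Scalars act trivially. -/
theorem simAut_scalar (c : Fˣ) : simAut ⇑(Q F) (simScalar (Q F) c) = 1 :=
  (simAut_eq_one_iff (Oct.evenHyp8 (F := F)).nondeg (Oct.evenHyp8 (F := F)).five_le _).2
    (simScalar_mem_scalars _ c)

theorem ap_R8_conj (g : Sim F) (v : V F) : ap (R * g * R) v = Oct.conj (ap g (Oct.conj v)) := by
  rw [Oct.ap_mul, Oct.ap_mul, Oct.ap_R8, Oct.ap_R8, ← neg_one_smul F (Oct.conj v), Oct.ap_smul, neg_one_smul,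
    Oct.conj_neg, neg_neg]

/-- The multiplier of a similarity. -/
noncomputable abbrev mu (g : Sim F) : Fˣ := simMult (Oct.evenHyp8 (F := F)).ne g

omit [Finite F] in
theorem conj_add (x y : V F) : Oct.conj (x + y) = Oct.conj x + Oct.conj y := by
  apply Oct.ext8 <;> simp [Oct.conj] <;> ring

omit [Finite F] in
theorem conj_smul (c : F) (x : V F) : Oct.conj (c • x) = c • Oct.conj x := by
  apply Oct.ext8 <;> simp [Oct.conj]

omit [Finite F] in
theorem conj_one : Oct.conj (Oct.one : V F) = Oct.one := by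
  apply Oct.ext8 <;> simp [Oct.conj, Oct.one]

/-- The shift of a related triple. -/
theorem trip1_mem (t : Trip F) :
    ((t.1.2.2, simScalar (Q F) (mu t.1.2.1)⁻¹ * (R * t.1.2.1 * R), t.1.1) : Sim F × Sim F × Sim F) ∈ Trip F := by
  obtain ⟨⟨g0, g1, g2⟩, ht⟩ := t
  intro u z
  simp only [Oct.ap_mul g0, Oct.ap_mul (simScalar _ _), Oct.ap_scalar, ap_R8_conj, Oct.smul_mul']
  set μ : Fˣ := mu g1
  have key : ∀ x, (μ : F) • ap g2 (Oct.mul (Oct.conj x) z) = Oct.mul (Oct.conj (ap g1 x)) (ap g0 z) := by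
    let L : V F →ₗ[F] V F :=
      { toFun := fun x => (μ : F) • ap g2 (Oct.mul (Oct.conj x) z) - Oct.mul (Oct.conj (ap g1 x)) (ap g0 z)
        map_add' := fun a b => by
          rw [conj_add, Oct.add_mul', ap, mulVec_add, smul_add, ap, mulVec_add, conj_add, Oct.add_mul']
          simp only [ap]; abel
        map_smul' := fun c a => by
          rw [conj_smul, Oct.smul_mul', Oct.ap_smul, Oct.ap_smul, conj_smul, Oct.smul_mul', smul_comm,
            RingHom.id_apply, smul_sub] }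
    have han : ∀ x, Q F x ≠ 0 → L x = 0 := by
      intro x hx
      refine sub_eq_zero.2 (smul_right_injective (V F) hx ?_)
      show Q F x • _ = Q F x • _
      have e : Oct.mul x (Oct.mul (Oct.conj x) z) = Q F x • z := by
        have := Oct.conj_mul_cancel (Oct.conj x) z
        rwa [Oct.conj_conj, Oct.Q8_conj] at this
      rw [← Oct.mul_smul' (Q F x), ← Oct.ap_smul g0, ← e, ht, Oct.conj_mul_cancel, Oct.Q_ap, smul_smul,
        mul_comm (Q F x)]
    suffices hL : L = 0 from fun x => sub_eq_zero.1 (LinearMap.congr_fun hL x)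
    refine (Pi.basisFun F _).ext fun i => ?_
    rw [Pi.basisFun_apply, LinearMap.zero_apply]
    obtain ⟨j, hj⟩ : ∃ j : Fin 4, i ≠ .inl j ∧ i ≠ .inr j := by
      rcases i with k | k
      · exact ⟨k + 1, fun h => by simp at h, fun h => by simp at h⟩
      · exact ⟨k + 1, fun h => by simp at h, fun h => by simp at h⟩
    let e : Fin 4 ⊕ Fin 4 → V F := fun a => Pi.single a 1
    have h1 : Q F (e (.inl j) + e (.inr j)) ≠ 0 := by
      rw [show Q F (e (.inl j) + e (.inr j)) = 1 by fin_cases j <;> simp [Oct.Q8_apply, e]]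
      exact one_ne_zero
    have h2 : Q F (e i + (e (.inl j) + e (.inr j))) ≠ 0 := by
      rw [show Q F (e i + (e (.inl j) + e (.inr j))) = 1 by
        rcases i with k | k <;> fin_cases k <;> fin_cases j <;> simp [Oct.Q8_apply, e] at hj ⊢]
      exact one_ne_zero
    have := han _ h2
    rwa [map_add, han _ h1, add_zero] at this
  rw [← key, Oct.conj_conj, smul_smul, Units.val_inv_eq_inv_val, inv_mul_cancel₀ μ.ne_zero, one_smul]

/-- The triality on triples. -/
noncomputable def rot (t : Trip F) : Trip F := ⟨_, Oct.trip_R8 ⟨_, trip1_mem t⟩⟩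

theorem rot_fst (t : Trip F) : (rot t).1.1 = R * t.1.2.2 * R := rfl

theorem rot_snd (t : Trip F) : (rot t).1.2.1 = R * t.1.1 * R := rfl

theorem rot_thd (t : Trip F) :
    (rot t).1.2.2 = R * (simScalar (Q F) (mu t.1.2.1)⁻¹ * (R * t.1.2.1 * R)) * R := rfl

/-- The triality of order three. -/
noncomputable def tau (F : Type*) [Field F] [Finite F] : MulAut (G8 F) := Oct.theta F * Oct.sRefl F

theorem sRefl_inv : (Oct.sRefl F)⁻¹ = Oct.sRefl F := inv_eq_of_mul_eq_one_left Oct.sRefl_mul_self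

theorem tau_conj (t : Trip F) : tau F * pi0 F t * (tau F)⁻¹ = pi0 F (rot t) := by
  have e : Oct.sRefl F * pi0 F t * Oct.sRefl F = pi0 F ⟨_, Oct.trip_R8 t⟩ := by
    show _ = simAut _ (R * t.1.1 * R)
    rw [map_mul, map_mul]; rfl
  have h : pi0 F (rot t) = pi1 F ⟨_, Oct.trip_R8 t⟩ := rfl
  rw [h, tau, _root_.mul_inv_rev, sRefl_inv, ← mul_inv_eq_iff_eq_mul.2 (Oct.theta_conj ⟨_, Oct.trip_R8 t⟩), ← e]
  group

theorem tau_conj_pow3 (t : Trip F) : tau F ^ 3 * pi0 F t * (tau F ^ 3)⁻¹ = pi0 F t := by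
  have e : tau F ^ 3 * pi0 F t * (tau F ^ 3)⁻¹ = pi0 F (rot (rot (rot t))) := by
    rw [← tau_conj (rot (rot t)), ← tau_conj (rot t), ← tau_conj t]
    simp only [pow_succ, pow_zero, one_mul, _root_.mul_inv_rev, mul_assoc]
  rw [e]
  show simAut _ ((rot (rot (rot t))).1.1) = simAut _ t.1.1
  rw [rot_fst, rot_thd, rot_snd]
  simp only [map_mul, simAut_scalar, one_mul, show simAut _ (R8 F) = Oct.sRefl F from rfl, ← mul_assoc,
    Oct.sRefl_mul_self]
  simp only [mul_assoc, Oct.sRefl_mul_self, mul_one]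

theorem tau_cube : tau F ^ 3 = 1 := by
  refine eq_one_of_comm_conj Oct.conj_injective fun k => ?_
  obtain ⟨t, ht⟩ := Oct.inn_le_range (F := F) ⟨k, rfl⟩
  rw [← ht, ← mul_inv_eq_iff_eq_mul, tau_conj_pow3]

/-- The field automorphism. -/
noncomputable def phi (σ : F ≃+* F) : MulAut (G8 F) := autOmega ⇑(Q F) (plusFld 4 σ)

omit [Finite F] in
theorem plusFld_mul (σ τ : F ≃+* F) : plusFld 4 (σ * τ) = plusFld 4 σ * plusFld 4 τ :=
  Subtype.ext (map_mul SemidirectProduct.inr σ τ)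

theorem phi_mul (σ τ : F ≃+* F) : phi (σ * τ) = phi σ * phi τ := by rw [phi, plusFld_mul, map_mul]; rfl

theorem phi_one : phi (1 : F ≃+* F) = 1 := by
  rw [phi, show plusFld 4 (1 : F ≃+* F) = 1 from Subtype.ext (map_one _), map_one]

theorem tau_phi (σ : F ≃+* F) : Commute (tau F) (phi σ) :=
  (Oct.theta_comm_fld σ).mul_left ((plusFld_comm (m := 4) σ).map (autOmega _))

theorem tau_not_range : tau F ∉ (autOmega ⇑(Q F)).range := by
  intro h
  refine Oct.not_mem_range_autOmega (F := F) ?_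
  have : tau F * Oct.sRefl F = Oct.theta F := by rw [tau, mul_assoc, Oct.sRefl_mul_self, mul_one]
  exact this ▸ mul_mem h ⟨_, rfl⟩

/-- The image of the related triples. -/
theorem range_pi0_eq : (pi0 F).range = (clsSub (plusMat 4 F) 4).map (simAut ⇑(Q F)) := by
  have hle : (clsSub (plusMat 4 F) 4).map (simAut ⇑(Q F)) ≤ (pi0 F).range := by
    rintro _ ⟨g, hg, rfl⟩
    have hmod : ∀ h : Sim F, simAut _ h ∈ (pi0 F).range → outHom ⇑(Q F) g = outHom ⇑(Q F) h →
        simAut _ g ∈ (pi0 F).range := fun h hh he => by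
      have h1 : (simAut ⇑(Q F) h)⁻¹ * simAut _ g ∈ Cfsg.Inn (G8 F) := (QuotientGroup.eq).1 he.symm
      simpa using mul_mem hh (Oct.inn_le_range h1)
    by_cases h2 : (2 : F) = 0
    · exact Oct.inn_le_range (((Oct.evenHyp8 (F := F)).map_clsSub_two h2).le ⟨g, hg, rfl⟩)
    obtain ⟨ν, -, -, -, -, -, hc⟩ := Oct.exists_classes8 h2
    have ha : simAut _ (Oct.clsA ν) ∈ (pi0 F).range :=
      ⟨⟨_, Oct.trip_mem _ (Oct.dvec_ne ν)⟩, Oct.simAut_sandwich (Oct.dvec (ν : F)) (Oct.dvec_ne ν)⟩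
    have hb : simAut _ (Oct.clsB ν) ∈ (pi0 F).range := ⟨⟨_, Oct.trip_mem' ν⟩, rfl⟩
    rcases hc g hg with e | e | e | e
    · exact hmod 1 (by rw [map_one]; exact one_mem _) (by rw [e, map_one])
    · exact hmod _ ha e
    · exact hmod _ hb e
    · exact hmod (Oct.clsA ν * Oct.clsB ν) (by rw [map_mul]; exact mul_mem ha hb) (by rw [e, map_mul])
  refine le_antisymm ?_ hle
  rintro _ ⟨t, rfl⟩
  refine ⟨t.1.1, ?_, rfl⟩
  by_contra hg
  have E := Oct.evenHyp8 (F := F)
  have hgR : t.1.1 * R ∈ clsSub (plusMat 4 F) 4 := (E.mul_mem_iff _ _).2 (iff_of_false hg Oct.R8_not_mem)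
  obtain ⟨u, hu⟩ := hle ⟨_, hgR, rfl⟩
  have hs : Oct.sRefl F = pi0 F (t⁻¹ * u) := by
    rw [map_mul, map_inv, hu, map_mul, ← mul_assoc, show simAut _ t.1.1 = pi0 F t from rfl, inv_mul_cancel, one_mul]
    rfl
  have hmem : tau F * Oct.sRefl F * (tau F)⁻¹ ∈ (autOmega ⇑(Q F)).range := by
    rw [hs, tau_conj]; exact ⟨_, rfl⟩
  obtain ⟨T, _, q, hr, -, hc1, hc3, hs1, hss, -, -⟩ := exists_triQuot F
  have e : tau F * Oct.sRefl F * (tau F)⁻¹ = triCyc F * Oct.sRefl F := by
    rw [tau, triCyc, _root_.mul_inv_rev, sRefl_inv]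
    simp only [mul_assoc]
    rw [← mul_assoc (Oct.sRefl F) (Oct.sRefl F), Oct.sRefl_mul_self, one_mul, mul_one]
  rw [e] at hmem
  rcases (hr _).1 hmem with h | h <;> rw [map_mul] at h
  · have hcs : q (triCyc F) = q (Oct.sRefl F) := by
      rw [eq_inv_of_mul_eq_one_left h, inv_eq_of_mul_eq_one_left hss]
    exact hc1 (by rw [← hc3, hcs, pow_succ, pow_two, hss, one_mul])
  · exact hc1 (mul_eq_right.1 h)

theorem pi0_normal : (pi0 F).range.Normal := by
  rw [range_pi0_eq]; exact normal_map_clsSub8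

theorem mk_pi0_mem (t : Trip F) : QuotientGroup.mk' (Cfsg.Inn (G8 F)) (pi0 F t) ∈ V8 F := by
  obtain ⟨g, hg, he⟩ := (range_pi0_eq (F := F)).le ⟨t, rfl⟩
  exact ⟨g, hg, by rw [← he]; rfl⟩

theorem V8_sq : ∀ v ∈ V8 F, v * v = 1 := by
  rintro _ ⟨g, hg, rfl⟩
  by_cases h2 : (2 : F) = 0
  · rw [show outHom ⇑(Q F) g = 1 from
      (QuotientGroup.eq_one_iff _).2 (((Oct.evenHyp8 (F := F)).map_clsSub_two h2).le ⟨g, hg, rfl⟩), one_mul]
  obtain ⟨ν, -, -, -, haa, hab, hc⟩ := Oct.exists_classes8 h2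
  obtain ⟨hTa, -⟩ := Oct.T8_classes ν
  have hbb : outHom ⇑(Q F) (Oct.clsB ν) * outHom ⇑(Q F) (Oct.clsB ν) = 1 := by
    rw [← hTa, ← map_one (MulAut.conj (Oct.T8 F)), ← haa, map_mul]; rfl
  rcases hc g hg with e | e | e | e <;> rw [e]
  · exact one_mul 1
  · exact haa
  · exact hbb
  · rw [hab.symm.mul_mul_mul_comm, haa, hbb, one_mul]

theorem V8_fpf : ∀ v ∈ V8 F, Commute v (QuotientGroup.mk' (Cfsg.Inn (G8 F)) (tau F)) → v = 1 := by
  intro v hv hcm
  by_cases h2 : (2 : F) = 0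
  · rwa [Oct.V8_two h2, Subgroup.mem_bot] at hv
  obtain ⟨ν, ha1, hb1, hab', haa, hab, hc⟩ := Oct.exists_classes8 h2
  obtain ⟨hTa, hTb⟩ := Oct.T8_classes ν
  obtain ⟨hSa, hSb⟩ := Oct.S8_classes ν haa
  obtain ⟨g, hg, rfl⟩ := hv
  set a := outHom ⇑(Q F) (Oct.clsA ν)
  set b := outHom ⇑(Q F) (Oct.clsB ν)
  let C : MulAut (Oct.O8 F) := MulAut.conj (Oct.T8 F * Oct.S8 F)
  have hC : ∀ z, C z = Oct.T8 F * (Oct.S8 F * z * Oct.S8 F) * (Oct.T8 F)⁻¹ := fun z => by
    have hi : (Oct.S8 F)⁻¹ = Oct.S8 F := inv_eq_of_mul_eq_one_left (Oct.S8_sq (F := F))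
    calc C z = Oct.T8 F * Oct.S8 F * z * (Oct.T8 F * Oct.S8 F)⁻¹ := MulAut.conj_apply _ _
      _ = Oct.T8 F * (Oct.S8 F * z * (Oct.S8 F)⁻¹) * (Oct.T8 F)⁻¹ := by group
      _ = _ := by rw [hi]
  have hfix : C (outHom ⇑(Q F) g) = outHom ⇑(Q F) g := by
    rw [MulAut.conj_apply, show Oct.T8 F * Oct.S8 F = QuotientGroup.mk' (Cfsg.Inn (G8 F)) (tau F) from
      (map_mul _ _ _).symm, ← hcm.eq, mul_inv_cancel_right]
  have hCa : C a = b := by rw [hC, hSa, hTa]
  have hCb : C b = a * b := by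
    rw [hC, hSb, show Oct.T8 F * (a * b) * (Oct.T8 F)⁻¹ = (Oct.T8 F * a * (Oct.T8 F)⁻¹) * (Oct.T8 F * b * (Oct.T8 F)⁻¹)
      by group, hTa, hTb, hab.symm.eq]
  rcases hc g hg with e | e | e | e <;> rw [e] at hfix ⊢
  · exact absurd (hCa.symm.trans hfix) hab'.symm
  · exact absurd (mul_eq_right.1 (hCb.symm.trans hfix)) ha1
  · rw [map_mul, hCa, hCb, ← mul_assoc, ← hab.eq, mul_assoc] at hfix
    exact absurd (mul_eq_left.1 (mul_left_cancel hfix)) hb1

/-- An element of order three outside the semisimilarities, up to inversion. -/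
theorem exists_form {x : MulAut (G8 F)} (hx : x ∉ (autOmega ⇑(Q F)).range) (hord : orderOf x = 3) :
    ∃ (t : Trip F) (σ : F ≃+* F), σ ^ 3 = 1 ∧
      (pi0 F t * tau F * phi σ = x ∨ pi0 F t * tau F * phi σ = x⁻¹) := by
  obtain ⟨T, _, q, hr, hK, hc1, hc3, hs1, hss, hscs, hall⟩ := exists_triQuot F
  set c := q (triCyc F)
  have hpow : ∀ z : MulAut (G8 F), z ^ 3 = 1 → z ∉ (autOmega ⇑(Q F)).range → q z = c ∨ q z = c ^ 2 := by
    intro z hz hzr
    have h3 : q z ^ 3 = 1 := by rw [← map_pow, hz, map_one]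
    have hn1 : q z ≠ 1 := fun h => hzr ((hr z).2 (Or.inl h))
    obtain ⟨j, hj | hj⟩ := hall z
    · have hj' : q z = c ^ (j % 3) := by
        rw [hj]; conv_lhs => rw [← Nat.mod_add_div j 3, pow_add, pow_mul, hc3, one_pow, mul_one]
      have : j % 3 < 3 := Nat.mod_lt _ (by norm_num)
      interval_cases h : j % 3
      · exact absurd (by simpa using hj') hn1
      · exact Or.inl (by simpa using hj')
      · exact Or.inr hj'
    · refine absurd ?_ hn1
      have h2 : q z * q z = 1 := by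
        rw [hj]
        have e' := conj_pow (a := q (Oct.sRefl F)) (b := c) (i := j)
        rw [inv_eq_of_mul_eq_one_left hss, hscs, inv_pow] at e'
        rw [mul_assoc, ← mul_assoc (q (Oct.sRefl F)), ← e', mul_inv_cancel]
      rwa [pow_succ, pow_two, h2, one_mul] at h3
  have htau := hpow (tau F) tau_cube tau_not_range
  have hx3 : x ^ 3 = 1 := hord ▸ pow_orderOf_eq_one x
  have hxi : x⁻¹ ∉ (autOmega ⇑(Q F)).range := fun h => hx (by simpa using inv_mem h)
  obtain ⟨y, hy3, hy, hqy⟩ : ∃ y, y ^ 3 = 1 ∧ (y = x ∨ y = x⁻¹) ∧ q y = q (tau F) := by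
    rcases htau with h | h <;> rcases hpow x hx3 hx with h' | h'
    · exact ⟨x, hx3, Or.inl rfl, h'.trans h.symm⟩
    · refine ⟨x⁻¹, by rw [inv_pow, hx3, inv_one], Or.inr rfl, ?_⟩
      rw [map_inv, h', h, inv_eq_iff_mul_eq_one, ← pow_succ, hc3]
    · refine ⟨x⁻¹, by rw [inv_pow, hx3, inv_one], Or.inr rfl, ?_⟩
      rw [map_inv, h', h, inv_eq_iff_mul_eq_one, ← pow_succ', hc3]
    · exact ⟨x, hx3, Or.inl rfl, h'.trans h.symm⟩
  obtain ⟨v, ⟨g, hg, rfl⟩, σ, he⟩ := (hK (y * (tau F)⁻¹)).1 (by rw [map_mul, map_inv, hqy, mul_inv_cancel])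
  obtain ⟨t, ht⟩ : y * (tau F)⁻¹ * (phi σ)⁻¹ ∈ (pi0 F).range := by
    have h1 : (simAut ⇑(Q F) g)⁻¹ * (y * (tau F)⁻¹ * (phi σ)⁻¹) ∈ Cfsg.Inn (G8 F) := by
      refine (QuotientGroup.eq).1 (?_ : QuotientGroup.mk' (Cfsg.Inn (G8 F)) (simAut ⇑(Q F) g) = QuotientGroup.mk' _ _)
      rw [map_mul, he, map_inv, show QuotientGroup.mk' (Cfsg.Inn (G8 F)) (phi σ) = Phi8 σ from rfl,
        mul_inv_cancel_right]
      rfl
    simpa using mul_mem ((range_pi0_eq (F := F)).ge ⟨g, hg, rfl⟩) (Oct.inn_le_range h1)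
  have hye : y = pi0 F t * tau F * phi σ := by
    rw [ht, mul_assoc, mul_assoc, (tau_phi σ).eq]; group
  refine ⟨t, σ, ?_, hye ▸ hy⟩
  have hy1 : (autOmega ⇑(Q F)) (plusFld 4 (σ ^ 3)) ∈ (pi0 F).range := by
    have hN : ((pi0 F).range).Normal := pi0_normal
    have e : (tau F * phi σ) ^ 3 = phi (σ ^ 3) := by
      rw [(tau_phi σ).mul_pow, tau_cube, one_mul]
      simp only [pow_succ, pow_zero, one_mul, phi_mul]
    have key : ∀ (p a : MulAut (G8 F)), p ∈ (pi0 F).range → (p * a) ^ 3 = 1 → a ^ 3 ∈ (pi0 F).range := by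
      intro p a hp hpa
      have : a ^ 3 = (p * (a * p * a⁻¹) * (a ^ 2 * p * (a ^ 2)⁻¹))⁻¹ := by
        refine eq_inv_of_mul_eq_one_right ?_
        rw [← hpa]
        simp only [pow_succ, pow_zero, one_mul, mul_assoc, inv_mul_cancel_left, _root_.mul_inv_rev]
      rw [this]
      exact inv_mem (mul_mem (mul_mem hp (hN.conj_mem p hp a)) (hN.conj_mem p hp (a ^ 2)))
    have := key _ _ ⟨t, rfl⟩ (by rw [← mul_assoc, ← hye]; exact hy3)
    rwa [e] at this
  obtain ⟨u, hu⟩ := hy1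
  have h := congrArg (fun z => (autOmega ⇑(Q F) (simIncl _ u.1.1))⁻¹ * z) hu
  simp only [show pi0 F u = autOmega ⇑(Q F) (simIncl _ u.1.1) from rfl, inv_mul_cancel, ← map_inv, ← map_mul] at h
  rw [map_one (simIncl _), map_one] at h
  have h2 := ((autOmega_eq_one_iff (Oct.evenHyp8 (F := F)).nondeg (Oct.evenHyp8 (F := F)).five_le _).1 h.symm).1
  rwa [Subgroup.coe_mul, SemidirectProduct.mul_right, plusFld_right,
    show ((simIncl ⇑(Q F) (u.1.1)⁻¹ : semiSim ⇑(Q F)) : GammaL (Fin 4 ⊕ Fin 4) F).right = 1 from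
      SemidirectProduct.right_inl _, one_mul] at h2

/-- The centraliser elements of order prime to three. -/
theorem exists_decomp {t₀ : Trip F} {σ : F ≃+* F} {n : MulAut (G8 F)} (hn : (orderOf n).Coprime 3)
    (hc : n * (pi0 F t₀ * tau F * phi σ) = pi0 F t₀ * tau F * phi σ * n) :
    ∃ (t : Trip F) (ρ : F ≃+* F), n = pi0 F t * phi ρ := by
  obtain ⟨T, _, q, hr, hK, hc1, hc3, hs1, hss, hscs, hall⟩ := exists_triQuot F
  have hq0 : q (pi0 F t₀) = 1 := (hK _).2 ⟨_, mk_pi0_mem t₀, 1, by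
    rw [show Phi8 (1 : F ≃+* F) = 1 by
      rw [Phi8, show plusFld 4 (1 : F ≃+* F) = 1 from Subtype.ext (map_one _), map_one], mul_one]⟩
  have hqφ : q (phi σ) = 1 := (hK _).2 ⟨1, one_mem _, σ, by rw [one_mul]; rfl⟩
  have h := congrArg q hc
  simp only [map_mul, hq0, hqφ, one_mul, mul_one] at h
  have hqn : q n = 1 := by
    set c := q (triCyc F)
    set s := q (Oct.sRefl F)
    have hs : ∀ j : ℕ, s * c ^ j * s = (c ^ j)⁻¹ := fun j => by
      have e' := conj_pow (a := s) (b := c) (i := j)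
      rw [inv_eq_of_mul_eq_one_left hss, hscs, inv_pow] at e'
      exact e'.symm
    have h2 : ∀ j : ℕ, c ^ j * c ^ j = 1 → c ^ j = 1 := fun j hj => by
      have h3 : (c ^ j) ^ 3 = 1 := by rw [← pow_mul, mul_comm, pow_mul, hc3, one_pow]
      rwa [pow_succ, pow_two, hj, one_mul] at h3
    obtain ⟨k, hk | hk⟩ := hall (tau F)
    swap
    · exfalso
      refine tau_not_range (F := F) ((hr _).2 ?_)
      have h3 : q (tau F) ^ 3 = 1 := by rw [← map_pow, tau_cube, map_one]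
      have h4 : q (tau F) * q (tau F) = 1 := by
        rw [hk, mul_assoc, ← mul_assoc s, hs, mul_inv_cancel]
      rw [pow_succ, pow_two, h4, one_mul] at h3
      exact Or.inl h3
    obtain ⟨j, hj | hj⟩ := hall n
    · have hno : q n ^ orderOf n = 1 := by rw [← map_pow, pow_orderOf_eq_one, map_one]
      have h3 : q n ^ 3 = 1 := by rw [hj, ← pow_mul, mul_comm, pow_mul, hc3, one_pow]
      have := pow_gcd_eq_one.2 ⟨hno, h3⟩
      rwa [hn, pow_one] at this
    · exfalso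
      rw [hj, hk] at h
      have e : c ^ k * c ^ k = 1 := by
        have h' := congrArg (fun z => z * s) h
        simp only [mul_assoc, hss, mul_one] at h'
        rw [← mul_assoc s, hs] at h'
        have h'' := congrArg (fun z => c ^ k * z) h'
        rw [← mul_assoc, ← (Commute.pow_pow_self c j k).eq, mul_assoc, mul_inv_cancel, mul_one, ← mul_assoc] at h''
        rw [(Commute.pow_pow_self c k j).eq, mul_assoc] at h''
        exact mul_eq_left.1 h''.symm
      exact tau_not_range ((hr _).2 (Or.inl (hk.trans (h2 k e))))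
  obtain ⟨v, ⟨g, hg, rfl⟩, ρ, he⟩ := (hK n).1 hqn
  have h1 : (simAut ⇑(Q F) g)⁻¹ * (n * (phi ρ)⁻¹) ∈ Cfsg.Inn (G8 F) := by
    refine (QuotientGroup.eq).1 (?_ : QuotientGroup.mk' (Cfsg.Inn (G8 F)) (simAut ⇑(Q F) g) = QuotientGroup.mk' _ _)
    rw [map_mul, he, map_inv, show QuotientGroup.mk' (Cfsg.Inn (G8 F)) (phi ρ) = Phi8 ρ from rfl,
      mul_inv_cancel_right]
    rfl
  obtain ⟨t, ht⟩ : n * (phi ρ)⁻¹ ∈ (pi0 F).range := by
    simpa using mul_mem ((range_pi0_eq (F := F)).ge ⟨g, hg, rfl⟩) (Oct.inn_le_range h1)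
  exact ⟨t, ρ, by rw [ht, inv_mul_cancel_right]⟩

/-- Elements of the triple group commuting with a triality element are inner. -/
theorem mem_inn_of_comm {t₀ : Trip F} {σ : F ≃+* F} (t : Trip F)
    (hc : pi0 F t * (pi0 F t₀ * tau F * phi σ) = pi0 F t₀ * tau F * phi σ * pi0 F t) :
    pi0 F t ∈ Cfsg.Inn (G8 F) := by
  have key : ∀ v p a b : Oct.O8 F, Commute v p → Commute v b → v * (p * a * b) = p * a * b * v → Commute v a := by
    intro v p a b hp hb h
    rw [← mul_assoc, ← mul_assoc, mul_assoc (p * a), ← hb.eq, ← mul_assoc] at h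
    have h' := mul_right_cancel h
    rw [hp.eq, mul_assoc, mul_assoc] at h'
    exact mul_left_cancel h'
  let mk : MulAut (G8 F) →* Oct.O8 F := QuotientGroup.mk' (Cfsg.Inn (G8 F))
  refine (QuotientGroup.eq_one_iff _).1 (?_ : mk (pi0 F t) = 1)
  have h : mk (pi0 F t) * (mk (pi0 F t₀) * mk (tau F) * mk (phi σ)) =
      mk (pi0 F t₀) * mk (tau F) * mk (phi σ) * mk (pi0 F t) := by
    rw [← map_mul mk, ← map_mul mk, ← map_mul mk, ← map_mul mk, hc]
  obtain ⟨g, hg, hge⟩ := mk_pi0_mem t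
  obtain ⟨g', hg', hge'⟩ := mk_pi0_mem t₀
  have hv : mk (pi0 F t) ∈ V8 F := mk_pi0_mem t
  refine V8_fpf _ hv (key _ _ _ _ ?_ (Oct.V8_comm σ _ hv) h)
  have := Oct.outHom_cls_comm hg hg'
  rw [hge, hge'] at this
  exact this

/-- Proportional components. -/
theorem comp_of_pi0_eq {t t' : Trip F} (h : pi0 F t = pi0 F t') :
    (∃ c : F, ∀ v, ap t'.1.1 v = c • ap t.1.1 v) ∧ (∃ c : F, ∀ v, ap t'.1.2.1 v = c • ap t.1.2.1 v) ∧
      (∃ c : F, ∀ v, ap t'.1.2.2 v = c • ap t.1.2.2 v) := by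
  have h0 : pi0 F (t⁻¹ * t') = 1 := by rw [map_mul, map_inv, h, inv_mul_cancel]
  have h1 : pi1 F (t⁻¹ * t') = 1 := Oct.pi1_eq_one h0
  have h2 : pi2 F (t⁻¹ * t') = 1 := by
    have := Oct.theta_conj' (t⁻¹ * t')
    rw [h0, mul_one] at this
    exact mul_eq_right.1 this.symm
  have key : ∀ g g' : Sim F, simAut ⇑(Q F) (g⁻¹ * g') = 1 → ∃ c : F, ∀ v, ap g' v = c • ap g v := fun g g' hg => by
    obtain ⟨c, hc⟩ := (Oct.simAut_one_iff _).1 hg
    refine ⟨c, fun v => ?_⟩
    have := congrArg (ap g) (hc v)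
    rwa [← Oct.ap_mul, mul_inv_cancel_left, Oct.ap_smul] at this
  exact ⟨key _ _ h0, key _ _ h1, key _ _ h2⟩

/-- The semilinear automorphisms of the algebra. -/
noncomputable def SAut (F : Type*) [Field F] [Finite F] : Subgroup (semiSim ⇑(Q F)) where
  carrier := {y | ∀ u v, slAct (y : GammaL (Fin 4 ⊕ Fin 4) F) (Oct.mul u v) =
    Oct.mul (slAct (y : GammaL (Fin 4 ⊕ Fin 4) F) u) (slAct (y : GammaL (Fin 4 ⊕ Fin 4) F) v)}
  one_mem' u v := by simp
  mul_mem' {a b} ha hb u v := by simp only [Subgroup.coe_mul, slAct_mul, hb u v, ha _ _]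
  inv_mem' {a} ha u v := by
    have h := congrArg (slAct (a : GammaL (Fin 4 ⊕ Fin 4) F)⁻¹)
      (ha (slAct (a : GammaL (Fin 4 ⊕ Fin 4) F)⁻¹ u) (slAct (a : GammaL (Fin 4 ⊕ Fin 4) F)⁻¹ v))
    rw [slAct_inv_apply, slAct_apply_inv, slAct_apply_inv] at h
    exact h.symm

/-- The action of an algebra automorphism on a vector. -/
noncomputable abbrev sact (y : SAut F) (v : V F) : V F :=
  slAct (((y : semiSim ⇑(Q F)) : GammaL (Fin 4 ⊕ Fin 4) F)) v

/-- The field part. -/
noncomputable def srho (y : SAut F) : F ≃+* F := ((y : semiSim ⇑(Q F)) : GammaL (Fin 4 ⊕ Fin 4) F).right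

/-- The automorphism of the group of an algebra automorphism. -/
noncomputable def act (F : Type*) [Field F] [Finite F] : SAut F →* MulAut (G8 F) :=
  (autOmega ⇑(Q F)).comp (SAut F).subtype

theorem sact_mul (y : SAut F) (u v : V F) : sact y (Oct.mul u v) = Oct.mul (sact y u) (sact y v) := y.2 u v

theorem sact_one (y : SAut F) : sact y Oct.one = Oct.one := by
  obtain ⟨w, hw⟩ : ∃ w, sact y w = Oct.one := ⟨_, slAct_apply_inv _ _⟩
  have h := sact_mul y Oct.one w
  rw [Oct.one_mul', hw, Oct.mul_one'] at h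
  exact h.symm

theorem sact_smul (y : SAut F) (c : F) (v : V F) : sact y (c • v) = srho y c • sact y v := slAct_smul _ c v

theorem sact_comp (y z : SAut F) (v : V F) : sact (y * z) v = sact y (sact z v) := slAct_mul _ _ v

theorem srho_mul (y z : SAut F) : srho (y * z) = srho y * srho z := rfl

theorem saut_ext {y z : SAut F} (hr : srho y = srho z) (h : ∀ v, sact y v = sact z v) : y = z :=
  Subtype.ext (Subtype.ext (gammaL_ext hr h))

theorem act_injective : Function.Injective (act F) := by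
  rw [← MonoidHom.ker_eq_bot_iff, Subgroup.eq_bot_iff_forall]
  intro y hy
  obtain ⟨hr, hs⟩ := (autOmega_eq_one_iff (Oct.evenHyp8 (F := F)).nondeg (Oct.evenHyp8 (F := F)).five_le _).1
    (MonoidHom.mem_ker.1 hy)
  obtain ⟨c, hc⟩ := (Cfsg.Geo.mem_scalars_iff _).1 hs
  have hv : ∀ v, sact y v = (c : F) • v := fun v => by
    show ((((y : semiSim ⇑(Q F)) : GammaL (Fin 4 ⊕ Fin 4) F)).left : GL (Fin 4 ⊕ Fin 4) F).1 *ᵥ _ = _
    change ((((y : semiSim ⇑(Q F)) : GammaL (Fin 4 ⊕ Fin 4) F)).left : GL (Fin 4 ⊕ Fin 4) F).1 = _ at hc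
    rw [hc, smul_mulVec, one_mulVec]
    congr 1
    funext i
    show srho y (v i) = v i
    rw [show srho y = 1 from hr]; rfl
  have h1 := hv Oct.one
  rw [sact_one] at h1
  have hc1 : (c : F) = 1 := by
    have := congrFun h1 (.inl 0)
    simpa [Oct.one] using this.symm
  exact saut_ext hr fun v => by rw [hv, hc1, one_smul]; exact (slAct_one v).symm

/-- The field automorphism in the algebra. -/
noncomputable def fldS (σ : F ≃+* F) : SAut F :=
  ⟨plusFld 4 σ, fun u v => by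
    rw [plusFld_act, plusFld_act, plusFld_act]
    apply Oct.ext8 <;> simp [Oct.mul]⟩

theorem sact_fldS (σ : F ≃+* F) (v : V F) : sact (fldS σ) v = fun i => σ (v i) := plusFld_act σ v

theorem act_fldS (σ : F ≃+* F) : act F (fldS σ) = phi σ := rfl

theorem srho_fldS (σ : F ≃+* F) : srho (fldS σ) = σ := plusFld_right σ

/-- An algebra automorphism is a linear one times a field automorphism. -/
theorem exists_lin (y : SAut F) : ∃ (g : Sim F) (t : Trip F),
    t.1 = (g, g, g) ∧ (∀ v, ap g (Oct.conj v) = Oct.conj (ap g v)) ∧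
      act F y = pi0 F t * phi (srho y) := by
  set z := y * (fldS (srho y))⁻¹ with hz
  have hzr : srho z = 1 := by
    rw [hz, srho_mul, show srho (fldS (srho y))⁻¹ = (srho (fldS (srho y)))⁻¹ from
      SemidirectProduct.inv_right _, srho_fldS, mul_inv_cancel]
  obtain ⟨c, hc⟩ := (z : semiSim ⇑(Q F)).2
  let g : Sim F := ⟨((z : semiSim ⇑(Q F)) : GammaL (Fin 4 ⊕ Fin 4) F).left, c, fun v => by
    have := hc v
    simp only [slAct, show ((z : semiSim ⇑(Q F)) : GammaL (Fin 4 ⊕ Fin 4) F).right = 1 from hzr] at this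
    simpa using this⟩
  have hg : ∀ v, ap g v = sact z v := fun v => by
    simp only [sact, slAct, show ((z : semiSim ⇑(Q F)) : GammaL (Fin 4 ⊕ Fin 4) F).right = 1 from hzr]
    rfl
  have ht : ((g, g, g) : Sim F × Sim F × Sim F) ∈ Trip F := fun u v => by
    simp only [hg]; exact sact_mul z u v
  refine ⟨g, ⟨_, ht⟩, rfl, fun v => ?_, ?_⟩
  · have h1 : ∀ v, Oct.mul (ap g v) (ap g (Oct.conj v)) = Q F v • Oct.one := fun v => by
      rw [← ht, show Oct.mul v (Oct.conj v) = Q F v • Oct.one by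
        apply Oct.ext8 <;> simp [Oct.mul, Oct.conj, Oct.one, Oct.Q8_apply] <;> ring, Oct.ap_smul,
        hg Oct.one, sact_one]
    have hμ : (mu g : F) = 1 := by
      have := Oct.Q_ap g (Oct.one : V F)
      rw [hg, sact_one, Oct.Q8_one, mul_one] at this
      exact this.symm
    have hneg : ∀ w, Oct.conj w = polar (Q F) w Oct.one • Oct.one - w := fun w => by
      have := Oct.polar_one_conj w
      linear_combination (norm := module) this
    rw [hneg, hneg (ap g v), ap, mulVec_sub, mulVec_smul]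
    congr 2
    · have e : polar (Q F) (ap g v) (ap g Oct.one) = polar (Q F) v Oct.one := by
        simp only [polar, ap, ← mulVec_add]
        simp only [show ∀ w, Q F (((g : GL (Fin 4 ⊕ Fin 4) F) : Matrix _ _ F) *ᵥ w) = Q F (w) from fun w => by
          have := Oct.Q_ap g w
          rw [hμ, one_mul] at this
          exact this]
      rw [← e]
      congr 1
      rw [hg, sact_one]
    · exact (hg Oct.one).trans (sact_one z)
  · have e : y = z * fldS (srho y) := by rw [hz, inv_mul_cancel_right]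
    conv_lhs => rw [e]
    rw [map_mul, act_fldS]
    congr 1
    refine congrArg (autOmega _) (Subtype.ext (SemidirectProduct.ext rfl ?_))
    exact hzr.trans (SemidirectProduct.right_inl _).symm

/-- Algebra automorphisms commute with triality. -/
theorem tau_act (y : SAut F) : Commute (tau F) (act F y) := by
  obtain ⟨g, t, ht, hconj, he⟩ := exists_lin y
  rw [he]
  refine Commute.mul_right ?_ (tau_phi _)
  show _ * _ = _ * _
  rw [← mul_inv_eq_iff_eq_mul, tau_conj]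
  show simAut _ (R * t.1.2.2 * R) = simAut _ t.1.1
  rw [ht]
  refine congrArg _ (Oct.ext_ap fun v => ?_)
  rw [ap_R8_conj]
  show Oct.conj (ap g (Oct.conj v)) = ap g v
  rw [hconj, Oct.conj_conj]

theorem act_mem_range_pi0 {y : SAut F} (h : srho y = 1) : act F y ∈ (pi0 F).range := by
  obtain ⟨g, t, -, -, he⟩ := exists_lin y
  exact ⟨t, by rw [he, h, phi_one, mul_one]⟩

/-- A triple fixing the identity up to scalars is an algebra automorphism. -/
theorem exists_act (t : Trip F) (ρ : F ≃+* F) (h0 : ∃ c : F, ap t.1.1 Oct.one = c • Oct.one)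
    (h1 : ∃ c : F, ap t.1.2.1 Oct.one = c • Oct.one) (h2 : ∃ c : F, ap t.1.2.2 Oct.one = c • Oct.one) :
    ∃ y : SAut F, act F y = pi0 F t * phi ρ := by
  obtain ⟨⟨g0, g1, g2⟩, ht⟩ := t
  obtain ⟨l0, e0⟩ := h0
  obtain ⟨l1, e1⟩ := h1
  obtain ⟨l2, e2⟩ := h2
  dsimp only at e0 e1 e2
  have ha : ∀ v, ap g0 v = l1 • ap g2 v := fun v => by
    have := ht Oct.one v
    rwa [Oct.one_mul', e1, Oct.smul_mul', Oct.one_mul'] at this
  have hb : ∀ v, ap g0 v = l2 • ap g1 v := fun v => by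
    have := ht v Oct.one
    rwa [Oct.mul_one', e2, Oct.mul_smul', Oct.mul_one'] at this
  have hne : ∀ (g : Sim F) (l : F), ap g Oct.one = l • Oct.one → l ≠ 0 := fun g l e h =>
    Oct.Q_ap_one_ne g (by rw [e, h, zero_smul, map_zero])
  have hl0 := hne g0 l0 e0
  have hl1 := hne g1 l1 e1
  have hl2 := hne g2 l2 e2
  have hl : l0 = l1 * l2 := by
    have h := ha Oct.one
    rw [e0, e2, smul_smul] at h
    have := congrFun h (.inl 0)
    simpa [Oct.one] using this
  set h := simScalar (Q F) (Units.mk0 l0 hl0)⁻¹ * g0 with hh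
  have hap : ∀ v, ap h v = l0⁻¹ • ap g0 v := fun v => by
    rw [hh, Oct.ap_mul, Oct.ap_scalar, Units.val_inv_eq_inv_val, Units.val_mk0]
  have hm : ∀ u v, ap h (Oct.mul u v) = Oct.mul (ap h u) (ap h v) := fun u v => by
    rw [hap, hap, hap, ht, ha v, hb u]
    simp only [Oct.smul_mul', Oct.mul_smul', smul_smul]
    congr 1
    rw [hl]; field_simp
  refine ⟨⟨simIncl _ h * plusFld 4 ρ, fun u v => ?_⟩, ?_⟩
  · have hs : ∀ w, slAct ((simIncl ⇑(Q F) h * plusFld 4 ρ : semiSim ⇑(Q F)) : GammaL (Fin 4 ⊕ Fin 4) F) w =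
        ap h (fun i => ρ (w i)) := fun w => by
      rw [Subgroup.coe_mul, slAct_mul, plusFld_act]
      exact slAct_inl _ _
    rw [hs, hs, hs, ← hm]
    congr 1
    apply Oct.ext8 <;> simp [Oct.mul]
  · show autOmega _ (simIncl _ h * plusFld 4 ρ) = _
    rw [map_mul]
    show simAut _ h * _ = _
    rw [hh, map_mul, simAut_scalar, one_mul]
    rfl

/-- Conjugation of a triple by an algebra automorphism. -/
theorem trip_saut (E : SAut F) (t : Trip F) :
    ((conjSim (E : semiSim ⇑(Q F)) t.1.1, conjSim (E : semiSim ⇑(Q F)) t.1.2.1,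
      conjSim (E : semiSim ⇑(Q F)) t.1.2.2) : Sim F × Sim F × Sim F) ∈ Trip F := by
  have hap : ∀ (g : Sim F) (v : V F), ap (conjSim (E : semiSim ⇑(Q F)) g) (sact E v) = sact E (ap g v) :=
    fun g v => slAct_conj_inl _ _ v
  intro x y
  obtain ⟨u, rfl⟩ : ∃ u, sact E u = x := ⟨_, slAct_apply_inv _ x⟩
  obtain ⟨w, rfl⟩ : ∃ w, sact E w = y := ⟨_, slAct_apply_inv _ y⟩
  rw [← sact_mul, hap, hap, hap, ← sact_mul]
  exact congrArg (sact E) (t.2 u w)

/-- The values at the identity of an element commuting with a triality element. -/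
theorem one_rel (E : SAut F) (t : Trip F) (ρ : F ≃+* F) (hE : Commute (act F E) (phi ρ))
    (h : pi0 F t * phi ρ * (tau F * act F E) = tau F * act F E * (pi0 F t * phi ρ)) :
    (∃ c : F, ap t.1.1 Oct.one = c • Oct.conj (sact E (ap t.1.2.2 Oct.one))) ∧
    (∃ c : F, ap t.1.2.1 Oct.one = c • Oct.conj (sact E (ap t.1.1 Oct.one))) ∧
    (∃ c : F, ap t.1.2.2 Oct.one = c • sact E (ap t.1.2.1 Oct.one)) := by
  set t' : Trip F := ⟨_, trip_saut E t⟩
  have e : act F E * pi0 F t * (act F E)⁻¹ = pi0 F t' := (simAut_conjSim (E : semiSim ⇑(Q F)) t.1.1).symm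
  have h' : pi0 F t = pi0 F (rot t') := by
    have hcom : Commute (phi ρ) (tau F * act F E) := (tau_phi ρ).symm.mul_right hE.symm
    have h1 : pi0 F t * (tau F * act F E) = tau F * act F E * pi0 F t := mul_right_cancel (b := phi ρ) (by
      rw [mul_assoc, ← hcom.eq, ← mul_assoc, h]; simp only [mul_assoc])
    rw [← tau_conj, ← e]
    calc pi0 F t = (tau F * act F E) * pi0 F t * (tau F * act F E)⁻¹ := by rw [← h1, mul_inv_cancel_right]
      _ = _ := by group
  obtain ⟨⟨c0, e0⟩, ⟨c1, e1⟩, ⟨c2, e2⟩⟩ := comp_of_pi0_eq h'.symm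
  have hE1 : ∀ g : Sim F, ap (conjSim (E : semiSim ⇑(Q F)) g) Oct.one = sact E (ap g Oct.one) := fun g => by
    conv_lhs => rw [← sact_one E]
    exact slAct_conj_inl _ _ _
  refine ⟨⟨c0, ?_⟩, ⟨c1, ?_⟩, ⟨c2 * ((mu t'.1.2.1)⁻¹ : Fˣ), ?_⟩⟩
  · rw [e0, rot_fst, ap_R8_conj, conj_one, hE1]
  · rw [e1, rot_snd, ap_R8_conj, conj_one, hE1]
  · rw [e2, rot_thd, ap_R8_conj, Oct.ap_mul, Oct.ap_scalar, ap_R8_conj, conj_one, conj_smul, Oct.conj_conj,
      conj_one, hE1, smul_smul]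

/-- An element commuting with an algebra automorphism of order three commutes with it on the nose. -/
theorem comm_lin {Z : SAut F} (hZ3 : Z ^ 3 = 1) (hρ : srho Z = 1) (t : Trip F) (ρ : F ≃+* F)
    (hZφ : Commute (act F Z) (phi ρ)) (h : pi0 F t * phi ρ * act F Z = act F Z * (pi0 F t * phi ρ)) :
    ∀ v, ap t.1.1 (sact Z v) = sact Z (ap t.1.1 v) ∧ ap t.1.2.1 (sact Z v) = sact Z (ap t.1.2.1 v) ∧
      ap t.1.2.2 (sact Z v) = sact Z (ap t.1.2.2 v) := by
  set t' : Trip F := ⟨_, trip_saut Z t⟩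
  have h' : pi0 F t = pi0 F t' := by
    rw [mul_assoc, ← hZφ.eq, ← mul_assoc, ← mul_assoc] at h
    have h1 := mul_right_cancel h
    rw [show pi0 F t' = act F Z * pi0 F t * (act F Z)⁻¹ from simAut_conjSim (Z : semiSim ⇑(Q F)) t.1.1, ← h1,
      mul_inv_cancel_right]
  obtain ⟨⟨c0, e0⟩, ⟨c1, e1⟩, ⟨c2, e2⟩⟩ := comp_of_pi0_eq h'
  have key : ∀ (g : Sim F) (c : F), (∀ v, ap (conjSim (Z : semiSim ⇑(Q F)) g) v = c • ap g v) →
      ∀ v, ap g (sact Z v) = sact Z (ap g v) := by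
    intro g c e
    have h1 : ∀ v, sact Z (ap g v) = c • ap g (sact Z v) := fun v =>
      (slAct_conj_inl _ _ v).symm.trans (e _)
    have hlin : ∀ (a : F) v, sact Z (a • v) = a • sact Z v := fun a v => by rw [sact_smul, hρ]; rfl
    have hQ : ∀ v, Q F (sact Z v) = Q F v := fun v => by
      obtain ⟨m, hm⟩ := (Z : semiSim ⇑(Q F)).2
      have hm1 := hm Oct.one
      rw [show slAct _ (Oct.one : V F) = Oct.one from sact_one Z, Oct.Q8_one, map_one, mul_one] at hm1
      rw [sact, hm v, ← hm1, one_mul, show ((Z : semiSim ⇑(Q F)) : GammaL (Fin 4 ⊕ Fin 4) F).right = 1 from hρ]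
      rfl
    have hc2 : c * c = 1 := by
      have := congrArg (Q F) (h1 Oct.one)
      rw [hQ, sact_one, QuadraticMap.map_smul, smul_eq_mul] at this
      exact (mul_eq_right₀ (Oct.Q_ap_one_ne g)).1 this.symm
    have h3 : ∀ v, sact Z (sact Z (sact Z v)) = v := fun v => by
      rw [← sact_comp, ← sact_comp, show Z * Z * Z = 1 by rw [← pow_three' Z] at *; exact hZ3]
      exact slAct_one v
    have hc3 : c * (c * c) = 1 := by
      have a1 : sact Z (ap g Oct.one) = c • ap g Oct.one := by rw [h1, sact_one]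
      have := h3 (ap g Oct.one)
      rw [a1, hlin, a1, hlin, hlin, a1, smul_smul, smul_smul] at this
      by_contra hne
      have hz : (c * (c * c) - 1) • ap g Oct.one = 0 := by
        rw [sub_smul, one_smul, ← mul_assoc, this, sub_self]
      exact Oct.Q_ap_one_ne g (by rw [(smul_eq_zero.1 hz).resolve_left (sub_ne_zero.2 hne), map_zero])
    rw [hc2, mul_one] at hc3
    intro v
    rw [h1, hc3, one_smul]
  exact fun v => ⟨key _ _ e0 v, key _ _ e1 v, key _ _ e2 v⟩

end CfsgLib.FgsC.LocalBalance.Tri
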