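import Cfsg.Agent.Lib.FgsC.LocalBalance.Triality.Mix

/-!
The two classes of triality elements of order three.
-/

set_option autoImplicit false
set_option maxHeartbeats 1000000

namespace CfsgLib.FgsC.LocalBalance.Tri

open Matrix QuadraticMap CfsgLib.Geometry
open CfsgLib.Geometry.Oct (V G8 Q Sim ap Trip pi0 R8)
open scoped QuadraticAlgebra

variable {F : Type*} [Field F] [Finite F] [NotThree F]

/-- The standard forms. -/
def Std (σ : F ≃+* F) (g : MulAut (G8 F)) : Prop :=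
  ∃ α, α * g * α⁻¹ = sA σ ∨ (σ = 1 ∧ α * g * α⁻¹ = tau F * act F (dS F))

theorem Std.of_conj {σ : F ≃+* F} {g h : MulAut (G8 F)} (β : MulAut (G8 F)) (e : β * g * β⁻¹ = h)
    (hh : Std σ h) : Std σ g := by
  obtain ⟨α, hα⟩ := hh
  refine ⟨α * β, hα.imp (fun h1 => ?_) fun h1 => ⟨h1.1, ?_⟩⟩
  · rw [← h1, ← e]; group
  · rw [← h1.2, ← e]; group

theorem sA_one : sA (1 : F ≃+* F) = tau F := by rw [sA, phi_one, mul_one]

omit [Finite F] [NotThree F] in
theorem UU_inv (p : T4 F) : UU p⁻¹ = (UU p)⁻¹ := by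
  refine eq_inv_of_mul_eq_one_left ?_
  rw [← UU_mul, inv_mul_cancel]
  simp [UU]

omit [Finite F] [NotThree F] in
theorem psi_special {σ : F ≃+* F} {p : T4 F} (h1 : p.1 = 1) (h2 : UU p = 1) :
    (psi σ p).1 = 1 ∧ UU (psi σ p) = 1 ∧ ∀ j, (psi σ p).2 j = k1 σ (p.2 j) := by
  refine ⟨?_, ?_, fun j => ?_⟩
  · rw [psi_fst, h1, h2, mul_one, map_one]
  · rw [UU_psi, h1, h2]; simp
  · rw [psi_snd, h1, h2, mul_one, inv_one, mul_one]

set_option maxHeartbeats 4000000 in
/-- The diagonal elements of order three on a triality. -/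
theorem std_diag {σ : F ≃+* F} (hσ : σ ^ 3 = 1) {p : T4 F} (h1 : p.1 = 1) (h2 : UU p = 1)
    (hy : (dg F p * sA σ) ^ 3 = 1) : Std σ (dg F p * sA σ) := by
  obtain ⟨a1, a2, a3⟩ := psi_special (σ := σ) h1 h2
  obtain ⟨b1, b2, b3⟩ := psi_special (σ := σ) a1 a2
  have hord := order_eq (sA_dg σ) (sA_cube hσ) hy
  have hu : ∀ j, p.2 j * k1 σ (p.2 j) * k1 σ (k1 σ (p.2 j)) = 1 := fun j => by
    have := congrFun (congrArg Prod.snd hord) j
    rw [Prod.snd_mul, Prod.snd_mul, Pi.mul_apply, Pi.mul_apply, b3, a3] at this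
    exact this
  have hU : p.2 0 * p.2 1 * p.2 2 = 1 := h2
  by_cases hσ1 : σ = 1
  · subst hσ1
    have hcube : ∀ j, p.2 j ^ 3 = 1 := fun j => by
      have := hu j
      rwa [k1_one, k1_one, ← pow_three'] at this
    obtain ⟨a, ha⟩ := exists_om_pow (hcube 0)
    obtain ⟨b, hb⟩ := exists_om_pow (hcube 1)
    set e := b + 2 * a with he
    have hu2 : p.2 2 = om1 F ^ a * (om1 F * om1 F) ^ e := by
      refine mul_left_cancel (a := p.2 0 * p.2 1) ?_
      rw [hU, ha, hb, ← pow_two, ← pow_mul, ← pow_add, ← pow_add, ← pow_add,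
        show a + b + (a + 2 * e) = 3 * (2 * a + b) by omega, pow_mul, om1_cube, one_pow]
    have hp : dg F p = act F (zS F) ^ a * act F (dS F) ^ e := by
      rw [act_zS, act_dS, ← map_pow, ← map_pow, ← map_mul]
      refine congrArg _ (Prod.ext (by simp [h1]) (funext fun j => ?_))
      simp only [Prod.snd_mul, Prod.pow_snd, Pi.mul_apply, Pi.pow_apply]
      fin_cases j
      · show p.2 0 = _
        simp [ha]
      · show p.2 1 = om1 F ^ a * om1 F ^ e
        rw [hb, ← pow_add, show a + e = b + 3 * a by omega, pow_add, pow_mul, om1_cube, one_pow, mul_one]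
      · exact hu2
    rw [hp, sA_one]
    have hdz : Commute (act F (dS F)) (act F (zS F)) := by rw [act_dS, act_zS]; exact dg_comm _ _
    have hL : Commute ((Ld F)⁻¹ ^ a) (act F (zS F) ^ a * act F (dS F) ^ e) := by
      rw [act_dS, act_zS, ← map_pow (dg F), ← map_pow (dg F), ← map_mul]; exact Ld_inv_comm a _
    have e1 : (Ld F)⁻¹ ^ a * (act F (zS F) ^ a * act F (dS F) ^ e * tau F) * ((Ld F)⁻¹ ^ a)⁻¹ =
        tau F * act F (dS F) ^ e := by
      have hzt : Commute (tau F) (act F (zS F) ^ a) := (tau_act _).pow_right a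
      have hdt : Commute (tau F) (act F (dS F) ^ e) := (tau_act _).pow_right e
      rw [← mul_assoc ((Ld F)⁻¹ ^ a), hL.eq, mul_assoc _ ((Ld F)⁻¹ ^ a), Ld_inv_tau, ← mul_assoc,
        mul_inv_cancel_right, ← mul_assoc, mul_assoc (act F (zS F) ^ a), ← hdt.eq, ← mul_assoc, ← hzt.eq,
        mul_assoc (tau F), mul_assoc (tau F), inv_pow, ← (hdz.pow_pow e a).eq, mul_inv_cancel_right]
    refine Std.of_conj _ e1 ?_
    have hd3 : act F (dS F) ^ 3 = 1 := by
      rw [act_dS, ← map_pow, ← map_one (dg F)]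
      refine congrArg _ (Prod.ext (one_pow 3) (funext fun j => ?_))
      show (![1, om1 F, om1 F * om1 F] j) ^ 3 = 1
      fin_cases j <;> simp [mul_pow, om1_cube]
    rw [← Nat.mod_add_div e 3, pow_add, pow_mul, hd3, one_pow, mul_one]
    have : e % 3 < 3 := Nat.mod_lt _ (by norm_num)
    interval_cases he3 : e % 3
    · exact ⟨1, Or.inl (by rw [sA_one]; simp)⟩
    · exact ⟨1, Or.inr ⟨rfl, by simp⟩⟩
    · refine ⟨act F (tS F), Or.inr ⟨rfl, ?_⟩⟩
      have e2 : act F (tS F) * act F (dS F) * (act F (tS F))⁻¹ = act F (dS F) ^ 2 := by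
        rw [act_dS, tS_dg, ← map_pow]
        refine congrArg _ (Prod.ext (one_pow 2).symm (funext fun j => ?_))
        show ![1, om1 F, om1 F * om1 F] (-j) = (![1, om1 F, om1 F * om1 F] j) ^ 2
        fin_cases j
        · simp
        · simp [pow_two]
        · show om1 F = (om1 F * om1 F) ^ 2
          rw [← pow_two, ← pow_mul, show 2 * 2 = 3 + 1 from rfl, pow_add, om1_cube, one_mul, pow_one]
      rw [← mul_assoc, ← (tau_act (tS F)).eq, mul_assoc, mul_assoc, ← mul_assoc (act F (tS F)), ← conj_pow, e2, ← pow_mul,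
        show 2 * 2 = 3 + 1 from rfl, pow_add, hd3, one_mul, pow_one]
  · have hinv : ∀ j, (p.2 j)⁻¹ * k1 σ (p.2 j)⁻¹ * k1 σ (k1 σ (p.2 j)⁻¹) = 1 := fun j => by
      simp only [map_inv, ← _root_.mul_inv]
      rw [hu j, inv_one]
    obtain ⟨v0, hv0⟩ := exists_k1_div hσ hσ1 _ (hinv 0)
    obtain ⟨v1, hv1⟩ := exists_k1_div hσ hσ1 _ (hinv 1)
    set q : T4 F := (1, ![v0, v1, (v0 * v1)⁻¹]) with hq
    have hqU : UU q = 1 := by simp [UU, hq]
    have hqU' : UU q⁻¹ = 1 := by rw [UU_inv, hqU, inv_one]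
    obtain ⟨c1, -, c3⟩ := psi_special (σ := σ) (p := q⁻¹) (by simp [hq]) hqU'
    refine ⟨dg F q, Or.inl ?_⟩
    rw [conj_dg (sA_dg σ)]
    suffices h : q * p * psi σ q⁻¹ = 1 from (congrArg (fun z => dg F z * sA σ) h).trans (by rw [map_one, one_mul])
    refine Prod.ext (by rw [Prod.fst_mul, Prod.fst_mul, c1, h1]; simp [hq]) (funext fun j => ?_)
    rw [Prod.snd_mul, Prod.snd_mul, Pi.mul_apply, Pi.mul_apply, c3, Prod.snd_inv, Pi.inv_apply, map_inv,
      mul_right_comm, ← div_eq_mul_inv]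
    show q.2 j / k1 σ (q.2 j) * p.2 j = 1
    rw [← eq_inv_iff_mul_eq_one]
    fin_cases j
    · exact hv0
    · exact hv1
    · show (v0 * v1)⁻¹ / k1 σ (v0 * v1)⁻¹ = _
      rw [map_inv, map_mul, div_inv_eq_mul, mul_comm, ← div_eq_mul_inv, ← inv_div, mul_div_mul_comm, hv0, hv1,
        ← _root_.mul_inv, inv_inv]
      exact eq_inv_of_mul_eq_one_left hU

section Fourier

/-- The table of characters. -/
def eM (F : Type*) [Field F] : Matrix (Fin 3) (Fin 3) (KK F) :=
  !![1, 1, 1; 1, om F, star (om F); 1, star (om F), om F]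

omit [Finite F] [NotThree F] in
theorem eM_unit : ((eM F).map star)ᵀ * eM F = (3 : KK F) • (1 : Matrix (Fin 3) (Fin 3) (KK F)) := by
  refine Matrix.ext fun i j => ?_
  fin_cases i <;> fin_cases j <;> simp [eM, Matrix.mul_apply, Fin.sum_univ_three] <;>
    ext <;> simp [om] <;> ring

omit [Finite F] [NotThree F] in
theorem eM_shift : eM F * wMat F = Matrix.diagonal ![1, om F * om F, om F] * eM F := by
  refine Matrix.ext fun i j => ?_
  fin_cases i <;> fin_cases j <;> simp [eM, wMat, Matrix.mul_apply, Fin.sum_univ_three, Matrix.diagonal] <;>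
    ext <;> simp [om] <;> ring

/-- The unitary table. -/
def fM (F : Type*) [Field F] : Matrix (Fin 3) (Fin 3) (KK F) := (algebraMap F (KK F) (3 : F)⁻¹ * cd F) • eM F

omit [Finite F] in
theorem fM_unit : ((fM F).map star)ᵀ * fM F = 1 := by
  set s := algebraMap F (KK F) (3 : F)⁻¹ * cd F
  have hs : star s * s * 3 = 1 := by
    have h := cd_sq (F := F)
    have h3 : algebraMap F (KK F) (3 : F)⁻¹ * 3 = 1 := by
      rw [← map_ofNat (algebraMap F (KK F)) 3, ← map_mul, inv_mul_cancel₀ three_ne, map_one]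
    have hst : star (algebraMap F (KK F) (3 : F)⁻¹) = algebraMap F (KK F) (3 : F)⁻¹ := by
      ext <;> simp [QuadraticAlgebra.algebraMap_eq]
    simp only [s, star_mul', hst, star_cd]
    linear_combination (-(algebraMap F (KK F) (3 : F)⁻¹ * algebraMap F (KK F) (3 : F)⁻¹ * 3)) * h +
      (algebraMap F (KK F) (3 : F)⁻¹ * 3 + 1) * h3
  have hmap : (fM F).map star = star s • (eM F).map star := by
    refine Matrix.ext fun i j => ?_
    simp [fM, s, Matrix.map_apply, star_mul']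
  rw [hmap, fM, Matrix.transpose_smul, Matrix.smul_mul, Matrix.mul_smul, eM_unit, smul_smul, smul_smul, hs, one_smul]

omit [Finite F] [NotThree F] in
theorem fM_map (σ : F ≃+* F) : (fM F).map (kmap σ) = fM F := by
  have h1 : kmap σ (algebraMap F (KK F) (3 : F)⁻¹ * cd F) = algebraMap F (KK F) (3 : F)⁻¹ * cd F := by
    rw [map_mul, cd, map_sub, kmap_star, kmap_om]
    congr 1
    ext <;> simp [QuadraticAlgebra.algebraMap_eq, map_ofNat]
  refine Matrix.ext fun i j => ?_
  rw [Matrix.map_apply, fM, Matrix.smul_apply, smul_eq_mul, map_mul, h1]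
  congr 1
  fin_cases i <;> fin_cases j <;> simp [eM, kmap_om, kmap_star]

omit [Finite F] [NotThree F] in
theorem fM_shift : fM F * wMat F = Matrix.diagonal ![1, om F * om F, om F] * fM F := by
  rw [fM, Matrix.smul_mul, eM_shift, Matrix.mul_smul]

omit [Finite F] [NotThree F] in
theorem unit_mul {U W : Matrix (Fin 3) (Fin 3) (KK F)} (h : (U.map star)ᵀ * U = 1) (h' : (W.map star)ᵀ * W = 1) :
    ((U * W).map star)ᵀ * (U * W) = 1 := by
  rw [show (U * W).map star = U.map star * W.map star from Matrix.map_mul (f := (starRingEnd (KK F))),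
    transpose_mul, mul_assoc, ← mul_assoc (U.map star)ᵀ, h, one_mul, h']

omit [Finite F] [NotThree F] in
theorem unit_diag (u : Fin 3 → K1 F) :
    ((Matrix.diagonal fun i => ((u i : (KK F)ˣ) : KK F)).map star)ᵀ *
      Matrix.diagonal (fun i => ((u i : (KK F)ˣ) : KK F)) = 1 := by
  rw [Matrix.diagonal_map (star_zero _), Matrix.diagonal_transpose, Matrix.diagonal_mul_diagonal,
    ← Matrix.diagonal_one]
  congr 1
  funext i
  exact (mul_comm _ _).trans (K1_mul_star (u i))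

end Fourier

/-- The permuting elements become diagonal. -/
theorem std_perm {σ : F ≃+* F} (hσ : σ ^ 3 = 1) {p : T4 F} (h1 : p.1 = 1) (h2 : UU p = 1)
    (hy : (dg F p * (wA F * sA σ)) ^ 3 = 1) : Std σ (dg F p * (wA F * sA σ)) := by
  have hcube : (wA F * sA σ) ^ 3 = 1 := by rw [(sA_wA σ).symm.mul_pow, wA_cube, sA_cube hσ, one_mul]
  have hord := order_eq (wsA_dg σ) hcube hy
  obtain ⟨a1, a2, a3⟩ := psi_special (σ := σ) h1 h2
  obtain ⟨-, -, b3⟩ := psi_special (σ := σ) (p := tcyc (psi σ p)) a1 (by rw [UU_tcyc, a2])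
  have h3 : p.2 2 * k1 σ (p.2 0) * k1 σ (k1 σ (p.2 1)) = 1 := by
    have := congrFun (congrArg Prod.snd hord) 2
    rw [Prod.snd_mul, Prod.snd_mul, Pi.mul_apply, Pi.mul_apply] at this
    change p.2 2 * (psi σ p).2 0 * (psi σ (tcyc (psi σ p))).2 0 = 1 at this
    rw [a3, b3] at this
    change p.2 2 * k1 σ (p.2 0) * k1 σ ((psi σ p).2 1) = 1 at this
    rwa [a3] at this
  have k3 : ∀ z : K1 F, k1 σ (k1 σ (k1 σ z)) = z := fun z => by
    rw [← k1_mul, ← k1_mul, ← pow_three' σ, hσ, k1_one]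
  set v : Fin 3 → K1 F := ![1, k1 σ (k1 σ (p.2 0)), k1 σ (p.2 0) * k1 σ (k1 σ (p.2 1))] with hv
  have hvu : ∀ i, v i * p.2 i = k1 σ (v (i + 1)) := by
    intro i
    fin_cases i
    · show 1 * p.2 0 = k1 σ (k1 σ (k1 σ (p.2 0)))
      rw [one_mul, k3]
    · show k1 σ (k1 σ (p.2 0)) * p.2 1 = k1 σ (k1 σ (p.2 0) * k1 σ (k1 σ (p.2 1)))
      rw [map_mul, k3]
    · show k1 σ (p.2 0) * k1 σ (k1 σ (p.2 1)) * p.2 2 = k1 σ 1
      rw [map_one, mul_comm, ← mul_assoc]
      exact h3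
  set P := v 0 * v 1 * v 2 with hP
  have hPσ : k1 σ P = P := by
    have e : v 0 * p.2 0 * (v 1 * p.2 1) * (v 2 * p.2 2) = P * (p.2 0 * p.2 1 * p.2 2) := by
      rw [hP, mul_mul_mul_comm (v 0), mul_mul_mul_comm (v 0 * v 1)]
    rw [hvu, hvu, hvu, show p.2 0 * p.2 1 * p.2 2 = 1 from h2, mul_one] at e
    conv_rhs => rw [← e]
    rw [hP, map_mul, map_mul]
    exact mul_rotate _ _ _
  -- the unitary matrix
  set U := fM F * Matrix.diagonal fun i => ((v i : (KK F)ˣ) : KK F) with hUdef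
  have hUu : (U.map star)ᵀ * U = 1 := unit_mul fM_unit (unit_diag v)
  have hdd : U.det * star U.det = 1 := by
    have h := congrArg Matrix.det hUu
    rw [Matrix.det_mul, Matrix.det_transpose, Matrix.det_one] at h
    rw [mul_comm]
    exact (congrArg (· * U.det) (RingHom.map_det (starRingEnd (KK F)) U)).trans h
  set d : K1 F := ⟨⟨U.det, star U.det, hdd, by rw [mul_comm, hdd]⟩, mem_K1.2 (Units.ext hdd)⟩
  set G := Matrix.diagonal (fun i => (((![d⁻¹, 1, 1] : Fin 3 → K1 F) i : (KK F)ˣ) : KK F)) * U with hG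
  have hGsu : IsSU G := by
    refine ⟨unit_mul (unit_diag _) hUu, ?_⟩
    rw [hG, Matrix.det_mul, Matrix.det_diagonal, Fin.prod_univ_three]
    simp only [Matrix.cons_val, OneMemClass.coe_one, Units.val_one, mul_one]
    exact (congrArg (fun z : K1 F => ((z : (KK F)ˣ) : KK F)) (inv_mul_cancel d) :)
  have hkv : (Matrix.diagonal fun i => ((v i : (KK F)ˣ) : KK F)).map (kmap σ) =
      Matrix.diagonal fun i => ((k1 σ (v i) : (KK F)ˣ) : KK F) := by
    rw [Matrix.diagonal_map (map_zero _)]; rfl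
  have hdσ : k1 σ d = d := by
    refine Subtype.ext (Units.ext ?_)
    show kmap σ U.det = U.det
    rw [hUdef, Matrix.det_mul, map_mul, RingHom.map_det, RingHom.mapMatrix_apply, fM_map, Matrix.det_diagonal,
      Fin.prod_univ_three]
    exact congrArg (fun z : K1 F => (fM F).det * ((z : (KK F)ˣ) : KK F)) hPσ
  set δ : Fin 3 → K1 F := ![1, om1 F * om1 F, om1 F] with hδ
  have hδU : δ 0 * δ 1 * δ 2 = 1 := by simp [hδ, om1_mul3]
  have hΔ : (Matrix.diagonal fun i => ((δ i : (KK F)ˣ) : KK F)) = Matrix.diagonal ![1, om F * om F, om F] := by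
    congr 1
    funext i
    fin_cases i <;> simp [hδ, om1_coe]
  have hgw : G * (Matrix.diagonal (fun i => ((p.2 i : (KK F)ˣ) : KK F)) * wMat F) =
      (Matrix.diagonal fun i => ((δ i : (KK F)ˣ) : KK F)) * G.map (kmap σ) := by
    have e1 : Matrix.diagonal (fun i => ((v i : (KK F)ˣ) : KK F)) *
        (Matrix.diagonal (fun i => ((p.2 i : (KK F)ˣ) : KK F)) * wMat F) =
        wMat F * Matrix.diagonal fun i => ((k1 σ (v i) : (KK F)ˣ) : KK F) := by
      refine Matrix.ext fun i j => ?_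
      rw [← mul_assoc, Matrix.diagonal_mul_diagonal, Matrix.diagonal_mul, Matrix.mul_diagonal, ← Units.val_mul,
        ← Subgroup.coe_mul, hvu]
      fin_cases i <;> fin_cases j <;> simp [wMat] <;> rfl
    have e2 : (Matrix.diagonal fun i => (((![d⁻¹, 1, 1] : Fin 3 → K1 F) i : (KK F)ˣ) : KK F)).map (kmap σ) =
        Matrix.diagonal fun i => (((![d⁻¹, 1, 1] : Fin 3 → K1 F) i : (KK F)ˣ) : KK F) := by
      rw [Matrix.diagonal_map (map_zero _)]
      congr 1
      funext i
      show ((k1 σ (![d⁻¹, 1, 1] i) : (KK F)ˣ) : KK F) = _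
      fin_cases i <;> simp [hdσ]
    rw [hG, hUdef, Matrix.map_mul, Matrix.map_mul, e2, fM_map, hkv, mul_assoc, mul_assoc (fM F), e1,
      ← mul_assoc (fM F), fM_shift, hΔ]
    simp only [← mul_assoc, Matrix.diagonal_mul_diagonal]
    congr 3
    exact funext fun i => mul_comm _ _
  have hp1 : p = (1, p.2) := Prod.ext h1 rfl
  have hUp : p.2 0 * p.2 1 * p.2 2 = 1 := h2
  have hsu : suS G hGsu * (diagS p.2 hUp * wS F) = diagS δ hδU * suS (G.map (kmap σ)) (hGsu.map σ) := by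
    simp only [diagS, wS]
    rw [suS_mul, suS_mul, suS_mul]
    congr 1
  have hφ : phi σ * act F (suS G hGsu) = act F (suS (G.map (kmap σ)) (hGsu.map σ)) * phi σ := by
    rw [← act_fldS, ← map_mul, ← map_mul, fldS_suS]
  have key : act F (suS G hGsu) * (dg F p * (wA F * sA σ)) * (act F (suS G hGsu))⁻¹ = dg F (1, δ) * sA σ := by
    rw [hp1, dg_diag p.2 hUp, dg_diag δ hδU, mul_inv_eq_iff_eq_mul, sA, mul_assoc (act F (diagS δ hδU)),
      mul_assoc (tau F), hφ, ← mul_assoc (tau F), (tau_act _).eq, ← mul_assoc, ← mul_assoc, ← mul_assoc,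
      ← mul_assoc, ← map_mul, ← map_mul, mul_assoc (suS G hGsu), hsu, map_mul]
    simp only [mul_assoc]
  refine Std.of_conj _ key (std_diag hσ rfl hδU ?_)
  rw [← key, conj_pow, hy, mul_one, mul_inv_cancel]

end CfsgLib.FgsC.LocalBalance.Tri
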