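import Cfsg.Agent.Lib.FgsC.LocalBalance.Triality.Lin
import Cfsg.Agent.Lib.FgsC.LocalBalance.Abstract
import Cfsg.Agent.Lib.Base.Cores

/-!
The cores of the centralisers of the standard triality elements.
-/

set_option autoImplicit false
set_option maxHeartbeats 1000000

namespace CfsgLib.FgsC.LocalBalance.Tri

open Matrix QuadraticMap CfsgLib.Geometry
open CfsgLib.Geometry.Oct (V G8 Q Sim ap Trip pi0 R8)
open scoped QuadraticAlgebra

variable {F : Type*} [Field F]

/-- The scalars as units of the quadratic algebra. -/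
def scalU (F : Type*) [Field F] : Fˣ →* (KK F)ˣ := Units.map (algebraMap F (KK F) : F →* KK F)

theorem hat_scalU (c : Fˣ) : hat F (scalU F c) = 1 := by
  refine hat_eq_one_iff.2 (Units.ext ?_)
  rw [su_coe]
  show star (algebraMap F (KK F) c) = algebraMap F (KK F) c
  ext <;> simp [QuadraticAlgebra.algebraMap_eq]

variable [Finite F] [NotThree F]

theorem conj_eK (k : KK F) : Oct.conj (eK k) = eK (star k) := by
  rw [eK, ofK_conj, eK]
  exact congrArg _ (Prod.ext rfl (funext fun i => neg_zero))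

theorem mul_eK (k l : KK F) : Oct.mul (eK k) (eK l) = eK (k * l) := by
  show Oct.mul (eK k) (ofK F (l, 0)) = _
  rw [eK_mul, eK]
  exact congrArg _ (Prod.ext rfl (funext fun i => mul_zero k))

theorem zS_cube : zS F ^ 3 = 1 := act_injective (by
  rw [map_pow, act_zS, ← map_pow, map_one]
  exact (congrArg (dg F) (Prod.ext (one_pow 3) (funext fun _ => om1_cube))).trans (map_one _))

theorem not_comm_Ld {a : ℕ} (h : Commute (Ld F ^ a) (tau F)) : 3 ∣ a := by
  by_contra ha
  have hz : ∀ m : ℕ, Ld F ^ m * tau F = tau F * act F (zS F) ^ m * Ld F ^ m := by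
    intro m
    induction m with
    | zero => simp
    | succ k ih =>
      have hc : Commute (Ld F) (act F (zS F) ^ k) := by rw [act_zS]; exact (dg_comm _ _).pow_right k
      calc Ld F ^ (k + 1) * tau F = Ld F * (Ld F ^ k * tau F) := by rw [pow_succ']; group
        _ = Ld F * tau F * act F (zS F) ^ k * Ld F ^ k := by rw [ih]; simp only [mul_assoc]
        _ = tau F * act F (zS F) * (Ld F * act F (zS F) ^ k) * Ld F ^ k := by rw [Ld_tau]; simp only [mul_assoc]
        _ = _ := by rw [hc.eq, pow_succ', pow_succ']; simp only [mul_assoc]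
  have h1 : act F (zS F) ^ a = 1 := by
    have := hz a
    rw [h.eq, mul_assoc] at this
    exact mul_eq_right.1 (mul_left_cancel this).symm
  rw [act_zS, ← map_pow] at h1
  have h2 : om1 F ^ a = 1 := congrFun (congrArg Prod.snd (dg_injective (h1.trans (map_one _).symm))) 0
  have h3 : orderOf (om1 F) = 3 := by
    haveI := Fact.mk Nat.prime_three
    refine orderOf_eq_prime om1_cube fun h => ?_
    have := congrArg (fun z : K1 F => ((z : (KK F)ˣ) : KK F).im) h
    simp [om1_coe, om] at this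
  exact ha (h3 ▸ orderOf_dvd_of_pow_eq_one h2)

/-- A group of order prime to three under the hypotheses of the pure triality is trivial. -/
theorem LinHyp.eq_bot {σ : F ≃+* F} {M : Subgroup (MulAut (G8 F))} (H : LinHyp σ 0 M) : M = ⊥ := by
  rw [Subgroup.eq_bot_iff_forall]
  intro y hy
  have hτ : ∀ g, Commute g (tau F * act F (dS F) ^ 0) ↔ Commute g (tau F) := fun g => by rw [pow_zero, mul_one]
  obtain ⟨t, ρ, rfl⟩ := exists_decomp (t₀ := 1) (coprime_orderOf H.card hy)
    (show Commute y _ by rw [map_one, one_mul]; exact ((hτ _).1 (H.tau_comm y hy)).mul_right (H.phi_comm y hy)).eq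
  obtain ⟨z, hz⟩ := exists_act_of_tau ((hτ _).1 (H.tau_comm _ hy))
  set P := act F (shiftS F)
  have hP : P ∈ (pi0 F).range := act_mem_range_pi0 (srho_mkS _ _ _)
  have hPτ : Commute P (tau F * act F (dS F) ^ 0) := (hτ P).2 (tau_act _).symm
  have hPσ : Commute P (phi σ) := act_fldS σ ▸ (shiftS_fldS σ).map (act F)
  have hfix : ∀ w : SAut F, act F w ∈ M → sact w (eK (om F)) = eK (om F) := fun w hw => by
    refine fix_om (act_injective ?_)
    rw [map_mul, map_mul]; exact (H.comm_zS hw).eq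
  have h0 := hfix z (hz ▸ hy)
  have hcyc : ∀ v, sact (shiftS F) (sact (shiftS F) (sact (shiftS F) v)) = v := fun v => by
    simp only [shiftS, sact_mkS]
    apply Oct.ext8 <;> simp [shiftLin]
  have hi : ∀ v, sact (shiftS F)⁻¹ v = sact (shiftS F) (sact (shiftS F) v) := fun v => by
    conv_lhs => rw [← hcyc v, ← sact_comp, inv_mul_cancel]
    exact slAct_one _
  have hinj : ∀ a b, sact (shiftS F) a = sact (shiftS F) b → a = b := fun a b h => by
    rw [← hcyc a, h, hcyc]
  have h1 : sact z (sact (shiftS F) (eK (om F))) = sact (shiftS F) (eK (om F)) := by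
    have := hfix ((shiftS F)⁻¹ * z * shiftS F) (by
      rw [map_mul, map_mul, map_inv, hz]
      simpa using H.normal _ (inv_mem hP) hPτ.inv_left hPσ.inv_left _ hy)
    rw [sact_comp, sact_comp, hi] at this
    have h' := congrArg (sact (shiftS F)) this
    rwa [hcyc] at h'
  have h2 : sact z (sact (shiftS F) (sact (shiftS F) (eK (om F)))) = sact (shiftS F) (sact (shiftS F) (eK (om F))) := by
    have := hfix (shiftS F * z * (shiftS F)⁻¹) (by
      rw [map_mul, map_mul, map_inv, hz]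
      exact H.normal _ hP hPτ hPσ _ hy)
    rw [sact_comp, sact_comp, hi] at this
    exact hinj _ _ (this.trans (hcyc _).symm)
  rw [← hz]
  refine (congrArg (act F) (eq_fldS_of_fix h0 h1 h2)).trans ?_
  refine H.trivial_of_dS ?_ ((fldS_dS _).map (act F))
  rw [← eq_fldS_of_fix h0 h1 h2, hz]
  exact hy

theorem pow_zero_comm {g : MulAut (G8 F)} (h : Commute g (tau F)) : Commute g (tau F * act F (dS F) ^ 0) := by
  rwa [pow_zero, mul_one]

section Field

variable {σ : F ≃+* F}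

/-- An element commuting with two conjugates of the first element of order three. -/
theorem exists_act_of_zS {n : MulAut (G8 F)} (hn : (orderOf n).Coprime 3)
    (hx : Commute n (tau F * phi σ)) (h1 : Commute n (act F (zS F)))
    (h2 : Commute n (act F (shiftS F * zS F * (shiftS F)⁻¹))) :
    Commute n (tau F) ∧ Commute n (phi σ) := by
  obtain ⟨t, ρ, rfl⟩ := exists_decomp (t₀ := 1) hn (show n * _ = _ by rw [map_one, one_mul]; exact hx.eq)
  set Z' := shiftS F * zS F * (shiftS F)⁻¹ with hZ'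
  have hr : srho (shiftS F) = 1 := srho_mkS _ _ _
  have hr' : srho (shiftS F)⁻¹ = 1 := by
    have := srho_mul (shiftS F)⁻¹ (shiftS F)
    rw [inv_mul_cancel, hr, mul_one] at this
    exact this.symm
  have hZ'3 : Z' ^ 3 = 1 := by rw [hZ', conj_pow, zS_cube, mul_one, mul_inv_cancel]
  have hZ'r : srho Z' = 1 := by rw [hZ', srho_mul, srho_mul, srho_zS, hr, hr']; rfl
  have hφ : ∀ ρ : F ≃+* F, Commute (act F Z') (phi ρ) := fun ρ => by
    refine act_fldS ρ ▸ Commute.map ?_ (act F)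
    exact (((shiftS_fldS ρ)).mul_left (act_injective (by
      rw [map_mul, map_mul, act_fldS]; exact (phi_zS ρ).symm.eq))).mul_left (shiftS_fldS ρ).inv_left
  have c1 := comm_lin zS_cube srho_zS t ρ (phi_zS ρ).symm h1.eq
  have c2 := comm_lin hZ'3 hZ'r t ρ (hφ ρ) h2.eq
  have key : ∀ g : Sim F, (∀ v, ap g (sact (zS F) v) = sact (zS F) (ap g v)) →
      (∀ v, ap g (sact Z' v) = sact Z' (ap g v)) → ∃ c : F, ap g Oct.one = c • Oct.one := by
    intro g e1 e2
    obtain ⟨k, hk⟩ := zS_fix (v := ap g Oct.one) (by rw [← e1, sact_one])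
    have e3 : sact Z' (eK k) = eK k := by rw [← hk, ← e2, sact_one]
    rw [hZ', sact_comp, sact_comp] at e3
    have e4 := congrArg (sact (shiftS F)⁻¹) e3
    rw [← sact_comp (shiftS F)⁻¹, inv_mul_cancel, show ∀ v, sact (1 : SAut F) v = v from slAct_one] at e4
    obtain ⟨l, hl⟩ := zS_fix e4
    have e5 : eK k = sact (shiftS F) (eK l) := by
      rw [← hl, ← sact_comp, mul_inv_cancel]; exact (slAct_one _).symm
    refine ⟨k.re, hk.trans ?_⟩
    have him : k.im = 0 := by
      rw [eK_eq_ofH, eK_eq_ofH, shiftS, sact_mkS] at e5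
      have := congrFun e5 (.inl 1)
      simpa [ofH, toM, shiftLin] using this
    rw [← eK_one, ← eK_smul]
    congr 1
    ext <;> simp [him]
  obtain ⟨z, hz⟩ := exists_act t ρ (key _ (fun v => (c1 v).1) fun v => (c2 v).1)
    (key _ (fun v => (c1 v).2.1) fun v => (c2 v).2.1) (key _ (fun v => (c1 v).2.2) fun v => (c2 v).2.2)
  rw [← hz] at hx ⊢
  have hτ : Commute (act F z) (tau F) := (tau_act z).symm
  exact ⟨hτ, by simpa using hτ.inv_right.mul_right hx⟩

variable (hσ3 : σ ^ 3 = 1)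
include hσ3

theorem phi_cube : phi σ ^ 3 = 1 := by
  rw [pow_three, ← phi_mul, ← phi_mul, ← pow_three, hσ3, phi_one]

theorem field_linHyp {N : Subgroup (MulAut (G8 F))} (hc : (Nat.card N).Coprime 3)
    (hx : ∀ y ∈ N, Commute y (tau F * phi σ))
    (hn : ∀ g ∈ (pi0 F).range, Commute g (tau F * phi σ) → ∀ y ∈ N, g * y * g⁻¹ ∈ N) :
    LinHyp σ 0 (N ⊓ Subgroup.centralizer {phi σ}) := by
  have hc' : ∀ y ∈ N ⊓ Subgroup.centralizer {phi σ}, Commute y (phi σ) := fun y hy =>
    Subgroup.mem_centralizer_singleton_iff.1 hy.2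
  refine ⟨hσ3, hc.coprime_dvd_left (Subgroup.card_dvd_of_le inf_le_left), fun y hy => ?_, hc', fun g hg h1 h2 y hy => ?_⟩
  · exact pow_zero_comm (by simpa using (hx y hy.1).mul_right (hc' y hy).inv_right)
  · rw [pow_zero, mul_one] at h1
    exact ⟨hn g hg (h1.mul_right h2) y hy.1, Subgroup.mem_centralizer_singleton_iff.2
      ((h2.mul_left (hc' y hy)).mul_left h2.inv_left).eq⟩

theorem exists_psi (hσ1 : σ ≠ 1) (i : ℕ) : ∃ Ψ ∈ (pi0 F).range, Commute Ψ (tau F * phi σ) ∧
    Ψ * phi σ * Ψ⁻¹ = phi σ * act F (zS F) ^ i := by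
  have ha : om1 F ^ i * k1 σ (om1 F ^ i) * k1 σ (k1 σ (om1 F ^ i)) = 1 := by
    simp only [map_pow, k1_om1]
    rw [← pow_three' , ← pow_mul, mul_comm, pow_mul, om1_cube, one_pow]
  obtain ⟨v, hv⟩ := exists_k1_div hσ3 hσ1 (om1 F ^ i) ha
  set p : T4 F := (1, ![v, v, (v * v)⁻¹]) with hp
  have htr : trot p = p := by
    refine Prod.ext ?_ (funext fun j => ?_) <;> simp [trot, hp, mul_inv_cancel]
  have hz : act F (zS F) ^ i = dg F (1, fun _ => om1 F ^ i) := by
    rw [act_zS, ← map_pow]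
    exact congrArg _ (Prod.ext (one_pow i) rfl)
  have hDφ : dg F p * phi σ * (dg F p)⁻¹ = act F (zS F) ^ i * phi σ := by
    have h1 : phi σ * dg F p⁻¹ = dg F (tmap σ p⁻¹) * phi σ := mul_inv_eq_iff_eq_mul.1 (phi_dg σ _)
    rw [mul_assoc, ← map_inv, h1, ← mul_assoc, ← map_mul, hz]
    congr 2
    refine Prod.ext (by simp [hp, tmap]) (funext fun j => ?_)
    have h2 : v * (k1 σ v)⁻¹ = om1 F ^ i := by rw [← div_eq_mul_inv, hv]
    simp only [hp, tmap, Prod.snd_mul, MonoidHom.coe_prodMap, Prod.map_apply, MonoidHom.compLeft_apply, Prod.snd_inv,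
      Pi.mul_apply, Function.comp_apply, Pi.inv_apply, map_inv]
    fin_cases j
    · exact h2
    · exact h2
    · show (v * v)⁻¹ * (k1 σ (v * v)⁻¹)⁻¹ = _
      rw [map_inv, inv_inv, map_mul, ← _root_.inv_inv (k1 σ v * k1 σ v), ← _root_.mul_inv_rev, _root_.mul_inv_rev (k1 σ v)]
      rw [mul_comm ((k1 σ v)⁻¹ * (k1 σ v)⁻¹) (v * v), mul_mul_mul_comm, h2, ← pow_add]
      refine inv_eq_of_mul_eq_one_left ?_
      rw [← pow_add, show i + (i + i) = 3 * i by ring, pow_mul, om1_cube, one_pow]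
  have hDτ : Commute (dg F p) (tau F) :=
    (mul_inv_eq_iff_eq_mul.1 ((tau_dg p).trans (by rw [htr]))).symm
  have hcz : Commute ((Ld F)⁻¹ ^ i) (act F (zS F) ^ i) := by rw [hz]; exact Ld_inv_comm i _
  have hLφ : Commute ((Ld F)⁻¹ ^ i) (phi σ) := ((phi_Ld σ).symm.inv_left).pow_left i
  have hzφ : Commute (act F (zS F) ^ i) (phi σ) := (phi_zS σ).symm.pow_left i
  have hconj : (Ld F)⁻¹ ^ i * dg F p * phi σ * ((Ld F)⁻¹ ^ i * dg F p)⁻¹ = phi σ * act F (zS F) ^ i := by
    calc _ = (Ld F)⁻¹ ^ i * (dg F p * phi σ * (dg F p)⁻¹) * ((Ld F)⁻¹ ^ i)⁻¹ := by group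
      _ = _ := by rw [hDφ, (hcz.mul_right hLφ).eq, mul_inv_cancel_right, hzφ.eq]
  refine ⟨(Ld F)⁻¹ ^ i * dg F p, mul_mem (pow_mem (inv_mem (dg_mem_range_pi0 _)) i) (dg_mem_range_pi0 p), ?_, hconj⟩
  have h2 : (Ld F)⁻¹ ^ i * dg F p * tau F = tau F * (act F (zS F))⁻¹ ^ i * ((Ld F)⁻¹ ^ i * dg F p) := by
    rw [mul_assoc, hDτ.eq, ← mul_assoc, Ld_inv_tau]; simp only [mul_assoc]
  show (Ld F)⁻¹ ^ i * dg F p * (tau F * phi σ) = tau F * phi σ * ((Ld F)⁻¹ ^ i * dg F p)
  rw [← mul_assoc, h2, mul_assoc (tau F * _), mul_inv_eq_iff_eq_mul.1 hconj, hzφ.symm.eq]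
  simp only [mul_assoc, inv_pow, inv_mul_cancel_left]

theorem field_key {O : Subgroup (MulAut (G8 F))} (hc : (Nat.card O).Coprime 3)
    (hx : ∀ y ∈ O, Commute y (tau F * phi σ))
    (hn : ∀ g, Commute g (tau F * phi σ) → ∀ y ∈ O, g * y * g⁻¹ ∈ O) : O = ⊥ := by
  have hM := (field_linHyp hσ3 hc hx fun g _ => hn g).eq_bot
  have h0 : ∀ y ∈ O, Commute y (phi σ) → y = 1 := fun y hy h =>
    (Subgroup.eq_bot_iff_forall _).1 hM y ⟨hy, Subgroup.mem_centralizer_singleton_iff.2 h.eq⟩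
  rw [Subgroup.eq_bot_iff_forall]
  intro y hy
  by_cases hσ1 : σ = 1
  · exact h0 y hy (by rw [hσ1, phi_one]; exact Commute.one_right y)
  have hφc : Commute (phi σ) (tau F * phi σ) := (tau_phi σ).symm.mul_right (Commute.refl _)
  have hzc : Commute (act F (zS F)) (tau F * phi σ) := (tau_act _).symm.mul_right (phi_zS σ).symm
  have hz : ∀ w ∈ O, Commute w (act F (zS F)) := by
    intro w hw
    let f : Multiplicative ℤ × Multiplicative ℤ →* MulAut (G8 F) :=
      (zpowersHom _ (phi σ)).noncommCoprod (zpowersHom _ (act F (zS F))) fun a b => (phi_zS σ).zpow_zpow _ _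
    haveI : IsMulCommutative f.range := ⟨⟨fun a b => Subtype.ext (by
      obtain ⟨p, hp⟩ := a.2
      obtain ⟨q, hq⟩ := b.2
      show a.1 * b.1 = b.1 * a.1
      rw [← hp, ← hq, ← map_mul, mul_comm, map_mul])⟩⟩
    have hfc : ∀ p, Commute (f p) (tau F * phi σ) := fun p => (hφc.zpow_left _).mul_left (hzc.zpow_left _)
    have hA : f.range ≤ Subgroup.normalizer (O : Set (MulAut (G8 F))) := by
      rintro _ ⟨p, rfl⟩
      exact Subgroup.mem_normalizer_iff.2 fun n => ⟨fun h => hn _ (hfc p) n h, fun h => by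
        have := hn _ (hfc p).inv_left _ h
        simpa [mul_assoc] using this⟩
    have hA3 : (Nat.card f.range).Coprime (Nat.card O) := by
      haveI := Fact.mk Nat.prime_three
      have hp : IsPGroup 3 f.range := fun a => ⟨1, Subtype.ext (by
        obtain ⟨p, he⟩ := a.2
        rw [pow_one, SubgroupClass.coe_pow, ← he, OneMemClass.coe_one]
        change (zpowersHom _ (phi σ) p.1 * zpowersHom _ (act F (zS F)) p.2) ^ 3 = 1
        rw [zpowersHom_apply, zpowersHom_apply, ((phi_zS σ).zpow_zpow _ _).mul_pow, ← zpow_natCast, ← zpow_natCast,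
          zpow_comm, zpow_natCast, phi_cube hσ3, _root_.one_zpow, one_mul, zpow_comm, zpow_natCast, ← map_pow,
          zS_cube, map_one, _root_.one_zpow])⟩
      obtain ⟨k, hk⟩ := IsPGroup.iff_card.1 hp
      rw [hk]
      exact hc.symm.pow_left k
    have hmem1 : phi σ ∈ f.range := ⟨(Multiplicative.ofAdd 1, 1), by
      show zpowersHom (MulAut (G8 F)) (phi σ) (Multiplicative.ofAdd 1) * zpowersHom (MulAut (G8 F)) (act F (zS F)) 1 = _
      simp⟩
    have hmem2 : act F (zS F) ∈ f.range := ⟨(1, Multiplicative.ofAdd 1), by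
      show zpowersHom (MulAut (G8 F)) (phi σ) 1 * zpowersHom (MulAut (G8 F)) (act F (zS F)) (Multiplicative.ofAdd 1) = _
      simp⟩
    have hle := CfsgLib.Coprime.le_of_centralizer_le (R := Subgroup.centralizer {act F (zS F)}) Nat.prime_three hA hA3
      hc hmem1 hmem2 (by rw [phi_cube hσ3]; exact one_mem _) (by rw [← map_pow, zS_cube, map_one]; exact one_mem _)
      inf_le_right (fun i _ => ?_)
    · exact Subgroup.mem_centralizer_singleton_iff.1 (hle hw)
    rintro n ⟨hnO, hnc⟩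
    obtain ⟨Ψ, -, hΨx, hΨφ⟩ := exists_psi hσ3 hσ1 i
    have hn' : Commute (Ψ⁻¹ * n * Ψ⁻¹⁻¹) (phi σ) := by
      have := (show Commute n (phi σ * act F (zS F) ^ i) from Subgroup.mem_centralizer_singleton_iff.1 hnc).map
        (MulAut.conj Ψ⁻¹).toMonoidHom
      simp only [MulEquiv.coe_toMonoidHom, MulAut.conj_apply, ← hΨφ] at this
      simpa [mul_assoc] using this
    rw [conj_eq_one_iff.1 (h0 _ (hn _ hΨx.inv_left n hnO) hn')]
    exact one_mem _
  set P := act F (shiftS F)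
  have hPx : Commute P (tau F * phi σ) :=
    (tau_act _).symm.mul_right (act_fldS σ ▸ (shiftS_fldS σ).map (act F))
  have h2 : Commute y (act F (shiftS F * zS F * (shiftS F)⁻¹)) := by
    have := (hz _ (hn P⁻¹ hPx.inv_left y hy)).map (MulAut.conj P).toMonoidHom
    simp only [MulEquiv.coe_toMonoidHom, MulAut.conj_apply] at this
    simpa [P, mul_assoc] using this
  exact h0 y hy (exists_act_of_zS (coprime_orderOf hc hy) (hx y hy) (hz y hy) h2).2

theorem field_centralizer {n : MulAut (G8 F)} (hn : (orderOf n).Coprime 3) (hx : Commute n (tau F * phi σ))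
    (h : ∀ g ∈ (pi0 F).range, Commute g (tau F * phi σ) → Commute n g) : n = 1 := by
  have hP : act F (shiftS F * zS F * (shiftS F)⁻¹) ∈ (pi0 F).range ∧
      Commute (act F (shiftS F * zS F * (shiftS F)⁻¹)) (tau F * phi σ) := by
    have hp : Commute (act F (shiftS F)) (phi σ) := act_fldS σ ▸ (shiftS_fldS σ).map (act F)
    refine ⟨?_, (tau_act _).symm.mul_right ?_⟩
    · rw [map_mul, map_mul, map_inv]
      exact mul_mem (mul_mem (act_mem_range_pi0 (srho_mkS _ _ _)) (act_mem_range_pi0 srho_zS))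
        (inv_mem (act_mem_range_pi0 (srho_mkS _ _ _)))
    · rw [map_mul, map_mul, map_inv]
      exact (hp.mul_left (phi_zS σ).symm).mul_left hp.inv_left
  obtain ⟨hτ, hφ⟩ := exists_act_of_zS hn hx
    (h _ (act_mem_range_pi0 srho_zS) ((tau_act _).symm.mul_right (phi_zS σ).symm)) (h _ hP.1 hP.2)
  have H : LinHyp σ 0 (Subgroup.zpowers n) := by
    refine ⟨hσ3, by rwa [Nat.card_zpowers], ?_, ?_, ?_⟩
    · rintro y ⟨i, rfl⟩; exact pow_zero_comm (hτ.zpow_left i)
    · rintro y ⟨i, rfl⟩; exact hφ.zpow_left i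
    · rintro g hg h1 h2 y ⟨i, rfl⟩
      refine ⟨i, ?_⟩
      rw [pow_zero, mul_one] at h1
      show n ^ i = g * n ^ i * g⁻¹
      rw [← ((h g hg (h1.mul_right h2)).zpow_left i).eq, mul_inv_cancel_right]
  exact (Subgroup.eq_bot_iff_forall _).1 H.eq_bot n (Subgroup.mem_zpowers n)

/-- The core of the centraliser of a triality with a field automorphism. -/
theorem core_field_form (A : Subgroup (MulAut (G8 F))) (hinn : ∀ k, MulAut.conj k ∈ A) :
    Cfsg.pPrimeCore 3 ↥(A ⊓ Subgroup.centralizer {tau F * phi σ}) = ⊥ := by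
  set x := tau F * phi σ with hx
  set C := Subgroup.centralizer ({x} : Set (MulAut (G8 F))) with hC
  set J := Cfsg.Inn (G8 F) ⊓ C with hJ
  have hJn : ∀ a ∈ C, ∀ j ∈ J, a * j * a⁻¹ ∈ J := fun a ha _ hj =>
    ⟨(Cfsg.innNormal (G8 F)).conj_mem _ hj.1 a, C.mul_mem (C.mul_mem ha hj.2) (C.inv_mem ha)⟩
  set O := (Cfsg.pPrimeCore 3 ↥J).map J.subtype with hO
  have hcomm : ∀ g, g ∈ C ↔ Commute g x := fun g => Subgroup.mem_centralizer_singleton_iff
  have hO1 : O = ⊥ := by
    refine field_key hσ3 (CfsgLib.Base.coprime_card_map_pPrimeCore J)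
      (fun y hy => (hcomm y).1 (Subgroup.map_subtype_le (Cfsg.pPrimeCore 3 ↥J) hy).2) ?_
    rintro a ha _ ⟨y, hy, rfl⟩
    have ha' : a ∈ C := (hcomm a).2 ha
    let φ : ↥J ≃* ↥J :=
      { toFun := fun j => ⟨a * j * a⁻¹, hJn a ha' _ j.2⟩
        invFun := fun j => ⟨a⁻¹ * j * a, by simpa using hJn a⁻¹ (C.inv_mem ha') _ j.2⟩
        left_inv := fun j => Subtype.ext (by simp [mul_assoc])
        right_inv := fun j => Subtype.ext (by simp [mul_assoc])
        map_mul' := fun i j => Subtype.ext (by simp [mul_assoc]) }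
    refine ⟨φ y, ?_, rfl⟩
    rw [← Subgroup.characteristic_iff_map_eq.1 (inferInstance : (Cfsg.pPrimeCore 3 ↥J).Characteristic) φ]
    exact ⟨y, hy, rfl⟩
  refine core_eq_bot _ fun N hNH hN hNp => ?_
  refine eq_bot_two_step (A ⊓ C) J J N hNH hN (inn_inf_le A hinn x) (inn_inf_normalized A x) le_rfl
    (fun y hy l hl => J.mul_mem (J.mul_mem hy hl) (J.inv_mem hy)) ?_ fun n hn hc => ?_
  · refine le_bot_iff.1 (le_of_le_of_eq (CfsgLib.Base.le_map_pPrimeCore inf_le_right ?_
      (hNp.coprime_dvd_left (Subgroup.card_dvd_of_le inf_le_left))) hO1)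
    intro a ha
    have ha' := inn_inf_le A hinn x ha
    refine Subgroup.mem_normalizer_iff.2 fun m => ⟨fun hm => ⟨hN a ha' m hm.1, hJn a ha.2 m hm.2⟩, fun hm => ?_⟩
    have h1 := hN a⁻¹ (inv_mem ha') _ hm.1
    have h2 := hJn a⁻¹ (C.inv_mem ha.2) _ hm.2
    simp only [inv_inv, mul_assoc, inv_mul_cancel, inv_mul_cancel_left, mul_one] at h1 h2
    exact ⟨h1, h2⟩
  · refine field_centralizer hσ3 (coprime_orderOf hNp hn) ((hcomm n).1 (hNH hn).2) fun g hg hgx => ?_
    obtain ⟨t, rfl⟩ := hg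
    exact hc _ ⟨mem_inn_of_comm (t₀ := 1) (σ := σ) t (by rw [map_one, one_mul]; exact hgx.eq), (hcomm _).2 hgx⟩

end Field

/-- The core of the centraliser of a triality with a diagonal element. -/
theorem core_diag_form (A : Subgroup (MulAut (G8 F))) (hinn : ∀ k, MulAut.conj k ∈ A) :
    Cfsg.pPrimeCore 3 ↥(A ⊓ Subgroup.centralizer {tau F * act F (dS F)}) = ⊥ := by
  refine core_eq_bot _ fun N hNH hN hNp => ?_
  set x := tau F * act F (dS F) with hx
  have hNx : ∀ y ∈ N, Commute y x := fun y hy => Subgroup.mem_centralizer_singleton_iff.1 (hNH hy).2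
  obtain ⟨t₀, ht₀⟩ := act_mem_range_pi0 (srho_dS (F := F))
  have hform : pi0 F t₀ * tau F * phi (1 : F ≃+* F) = x := by
    rw [ht₀, phi_one, mul_one, hx, (tau_act _).eq]
  have H : LinHyp (1 : F ≃+* F) 1 N := by
    refine ⟨one_pow 3, hNp, fun y hy => by rw [pow_one]; exact hNx y hy,
      fun y _ => by rw [phi_one]; exact Commute.one_right y, fun g hg h1 _ y hy => ?_⟩
    rw [pow_one] at h1
    obtain ⟨t, rfl⟩ := hg
    refine hN _ ⟨?_, Subgroup.mem_centralizer_singleton_iff.2 h1.eq⟩ y hy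
    obtain ⟨k, hk⟩ := mem_inn_of_comm (t₀ := t₀) (σ := 1) t (by rw [hform]; exact h1.eq)
    rw [← hk]; exact hinn k
  rw [Subgroup.eq_bot_iff_forall]
  intro n hn
  have hz := H.comm_zS hn
  obtain ⟨t, ρ, rfl⟩ := exists_decomp (t₀ := t₀) (σ := 1) (coprime_orderOf hNp hn) (by rw [hform]; exact (hNx n hn).eq)
  have hcl := comm_lin zS_cube srho_zS t ρ (phi_zS ρ).symm hz.eq
  obtain ⟨k0, e0⟩ := zS_fix (v := ap t.1.1 Oct.one) (by rw [← (hcl _).1, sact_one])
  obtain ⟨k1', e1⟩ := zS_fix (v := ap t.1.2.1 Oct.one) (by rw [← (hcl _).2.1, sact_one])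
  obtain ⟨k2, e2⟩ := zS_fix (v := ap t.1.2.2 Oct.one) (by rw [← (hcl _).2.2, sact_one])
  obtain ⟨-, ⟨c1, r1⟩, ⟨c2, r2⟩⟩ := one_rel (dS F) t ρ (phi_dS ρ).symm (hNx _ hn).eq
  have hd : ∀ k : KK F, sact (dS F) (eK k) = eK k := fun k => (dS_fix_iff _).2 (hB_eK k)
  rw [e0, e1, hd, conj_eK, ← eK_smul] at r1
  rw [e1, e2, hd, ← eK_smul] at r2
  have r1' := eK_injective r1
  have r2' := eK_injective r2
  have r0 : k0 = k1' * k2 := by
    have h := t.2 Oct.one Oct.one
    rw [Oct.one_mul', e0, e1, e2, mul_eK] at h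
    exact eK_injective h
  have hne : ∀ (g : Sim F) k, ap g Oct.one = eK k → IsUnit k := fun g k h => isUnit_of_norm (by
    have := Oct.Q_ap_one_ne g
    rw [h, eK, Q_ofK] at this
    simpa using this)
  obtain ⟨w, hw⟩ := hne _ _ e1
  have hc2 : c2 ≠ 0 := fun h => (hne _ _ e2).ne_zero (by rw [r2', h, zero_smul])
  have hc1 : c1 ≠ 0 := fun h => (hne _ _ e1).ne_zero (by rw [r1', h, zero_smul])
  have hwr : w = scalU F (Units.mk0 (c1 * c2) (mul_ne_zero hc1 hc2)) * (su F w * su F w) := by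
    refine Units.ext ?_
    rw [Units.val_mul, Units.val_mul, su_coe, hw]
    show k1' = algebraMap F (KK F) (c1 * c2) * _
    rw [← Algebra.smul_def, mul_smul]
    conv_lhs => rw [r1', r0, r2', mul_smul_comm]
    congr 1
    ext <;> simp <;> ring
  have h3 : hat F w ^ 3 = 1 := by
    have h := congrArg (hat F) hwr
    rw [map_mul, hat_scalU, one_mul, map_mul] at h
    have hs : hat F (su F w) = (hat F w)⁻¹ := Subtype.ext (by
      rw [hat_coe, InvMemClass.coe_inv, hat_coe, su_su, inv_div])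
    rw [hs, ← _root_.mul_inv_rev, eq_inv_iff_mul_eq_one] at h
    rwa [pow_three]
  obtain ⟨j, hj⟩ := exists_om_pow h3
  have htr : (1 : Fin 3 → K1 F) 0 * (1 : Fin 3 → K1 F) 1 * (1 : Fin 3 → K1 F) 2 *
      (hat F w * hat F w * hat F w) = 1 := by
    simp only [Pi.one_apply, one_mul, ← pow_three', h3]
  set tc : Trip F := ⟨_, trip_dSim w w 1 htr⟩
  have hz1 : ∀ (g gc : Sim F) (k l : KK F) (c : F), ap g Oct.one = eK k → ap gc Oct.one = eK l → k = c • l →
      ∃ c : F, ap (gc⁻¹ * g) Oct.one = c • Oct.one := fun g gc k l c hg hgc hkl => by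
    refine ⟨c, ?_⟩
    rw [Oct.ap_mul, hg, hkl, eK_smul, Oct.ap_smul, ← hgc, ← Oct.ap_mul, inv_mul_cancel]
    simp [ap]
  obtain ⟨y, hy⟩ := exists_act (tc⁻¹ * t) ρ
    (hz1 t.1.1 _ k0 ((w * w : (KK F)ˣ) : KK F) c2 e0 (ap_dSim_one _ _) (by rw [r0, r2', Units.val_mul, hw, mul_smul_comm]))
    (hz1 t.1.2.1 _ k1' (w : KK F) 1 e1 (ap_dSim_one _ _) (by rw [one_smul, hw]))
    (hz1 t.1.2.2 _ k2 (w : KK F) c2 e2 (ap_dSim_one _ _) (by rw [r2', hw]))
  have htc : pi0 F tc = Ld F ^ (2 * j) := by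
    rw [Ld, ← map_pow]
    refine Eq.trans ?_ (dg_eq (p := (om1 F, (1 : Fin 3 → K1 F)) ^ (2 * j)) (z := w * w) ?_).symm
    · rw [show ((om1 F, (1 : Fin 3 → K1 F)) ^ (2 * j)).2 = 1 from one_pow _]; rfl
    · rw [map_mul, hj, ← pow_add, ← two_mul]; rfl
  have hn' : pi0 F t * phi ρ = Ld F ^ (2 * j) * act F y := by
    rw [hy, map_mul, map_inv, htc]; group
  have hLz : Commute (Ld F ^ (2 * j)) (act F (zS F)) := by rw [act_zS]; exact (dg_comm _ _).pow_left _
  have hyz : Commute (act F y) (act F (zS F)) := by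
    have e : act F y = (Ld F ^ (2 * j))⁻¹ * (pi0 F t * phi ρ) := by rw [hn', inv_mul_cancel_left]
    rw [e]; exact hLz.inv_left.mul_left hz
  have hyL : Commute (Ld F ^ (2 * j)) (act F y) :=
    (act_Ld_comm (fix_om (act_injective (by rw [map_mul, map_mul]; exact hyz.eq)))).symm.pow_left _
  set k := orderOf (pi0 F t * phi ρ)
  have hk3 : k.Coprime 3 := coprime_orderOf hNp hn
  have hpow : Ld F ^ (2 * j * k) * act F y ^ k = 1 := by
    rw [pow_mul, ← hyL.mul_pow, ← hn', pow_orderOf_eq_one]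
  have hdiv : 3 ∣ 2 * j * k := not_comm_Ld (by
    rw [eq_inv_of_mul_eq_one_left hpow]
    exact ((tau_act y).symm.pow_left k).inv_left)
  have hj3 : Ld F ^ (2 * j) = 1 := by
    obtain ⟨m, hm⟩ := (Nat.Coprime.dvd_of_dvd_mul_right (Nat.coprime_comm.1 hk3) hdiv)
    rw [hm, pow_mul, Ld_cube, one_pow]
  rw [hj3, one_mul] at hn'
  have hd' : Commute (pi0 F t * phi ρ) (act F (dS F)) := by
    have h1 : Commute (pi0 F t * phi ρ) (tau F) := by rw [hn']; exact (tau_act y).symm
    simpa [x] using h1.inv_right.mul_right (hNx _ hn)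
  exact H.trivial_of_dS hn hd'

end CfsgLib.FgsC.LocalBalance.Tri
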