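import Cfsg.Agent.Lib.FgsC.LocalBalance.Triality.Elems

/-!
The diagonal group of the four lines and its triality.
-/

set_option autoImplicit false
set_option maxHeartbeats 1000000

namespace CfsgLib.FgsC.LocalBalance.Tri

open Matrix QuadraticMap CfsgLib.Geometry
open CfsgLib.Geometry.Oct (V G8 Q Sim ap Trip pi0 R8)
open scoped QuadraticAlgebra

variable {F : Type*} [Field F]

/-- The parameters of a diagonal element. -/
abbrev T4 (F : Type*) [Field F] := K1 F × (Fin 3 → K1 F)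

theorem norm_ne_zero_of_unit (z : (KK F)ˣ) : QuadraticAlgebra.norm (z : KK F) ≠ 0 :=
  (QuadraticAlgebra.isUnit_iff_norm_isUnit.1 z.isUnit).ne_zero

theorem exists_scalar_of_su {z : (KK F)ˣ} (h : su F z = z) :
    ∃ c : Fˣ, (z : KK F) = algebraMap F (KK F) (c : F) := by
  have h1 := congrArg QuadraticAlgebra.re (congrArg Units.val h)
  simp at h1
  refine ⟨Units.mk0 (z : KK F).re fun h0 => z.ne_zero (QuadraticAlgebra.ext (by simpa using h0) (by simpa using h1)),
    QuadraticAlgebra.ext ?_ ?_⟩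
  · simp [QuadraticAlgebra.algebraMap_eq]
  · simpa [QuadraticAlgebra.algebraMap_eq] using h1

theorem K1_mul_star (u : K1 F) : ((u : (KK F)ˣ) : KK F) * star ((u : (KK F)ˣ) : KK F) = 1 :=
  congrArg Units.val (mem_K1.1 u.2)

theorem hat_mul_star (z : (KK F)ˣ) : ((hat F z : (KK F)ˣ) : KK F) * star (z : KK F) = z := by
  rw [← su_coe, ← Units.val_mul, hat_coe, div_mul_cancel]

variable [Finite F] [NotThree F]

theorem ext_ofK {g h : Sim F} (e : ∀ p : K4 F, ap g (ofK F p) = ap h (ofK F p)) : g = h :=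
  Oct.ext_ap fun v => by rw [← (ofK F).apply_symm_apply v]; exact e _

/-- A diagonal map. -/
noncomputable def diagLin (z : (KK F)ˣ) (u : Fin 3 → K1 F) : V F →ₗ[F] V F :=
  (ofK F).toLinearMap ∘ₗ
    ((LinearMap.mulLeft F (z : KK F)).prodMap
      (LinearMap.pi fun i => (LinearMap.mulLeft F ((z : KK F) * ((u i : (KK F)ˣ) : KK F))) ∘ₗ LinearMap.proj i)) ∘ₗ
    (ofK F).symm.toLinearMap

theorem diagLin_ofK (z : (KK F)ˣ) (u : Fin 3 → K1 F) (p : K4 F) :
    diagLin z u (ofK F p) = ofK F ((z : KK F) * p.1, fun i => (z : KK F) * ((u i : (KK F)ˣ) : KK F) * p.2 i) := by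
  simp [diagLin]
  funext i
  simp [mul_assoc]

theorem diagLin_Q (z : (KK F)ˣ) (u : Fin 3 → K1 F) (v : V F) :
    Q F (diagLin z u v) = (Units.mk0 _ (norm_ne_zero_of_unit z) : F) * Q F v := by
  obtain ⟨p, rfl⟩ := (ofK F).surjective v
  rw [diagLin_ofK, Q_ofK, Q_ofK, Units.val_mk0]
  simp only [map_mul, norm_K1]
  ring

/-- A diagonal similarity. -/
noncomputable def dSim (z : (KK F)ˣ) (u : Fin 3 → K1 F) : Sim F := Oct.mkSim (diagLin z u) _ (diagLin_Q z u)

theorem ap_dSim (z : (KK F)ˣ) (u : Fin 3 → K1 F) (p : K4 F) :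
    ap (dSim z u) (ofK F p) = ofK F ((z : KK F) * p.1, fun i => (z : KK F) * ((u i : (KK F)ˣ) : KK F) * p.2 i) := by
  rw [dSim, Oct.ap_mkSim, diagLin_ofK]

theorem ap_dSim_one (z : (KK F)ˣ) (u : Fin 3 → K1 F) : ap (dSim z u) Oct.one = eK (z : KK F) := by
  rw [← ofK_one, ap_dSim, eK]
  refine congrArg _ (Prod.ext (mul_one _) ?_)
  funext i; exact mul_zero _

/-- The diagonal similarities as a homomorphism. -/
noncomputable def dSimHom (F : Type*) [Field F] [Finite F] [NotThree F] : (KK F)ˣ × (Fin 3 → K1 F) →* Sim F :=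
  MonoidHom.mk' (fun x => dSim x.1 x.2) fun x y => ext_ofK fun p => by
    rw [Oct.ap_mul, ap_dSim, ap_dSim, ap_dSim]
    refine congrArg _ (Prod.ext ?_ (funext fun i => ?_))
    · simp [mul_assoc]
    · simp; ring

/-- The passage to the parameters. -/
def hatP (F : Type*) [Field F] : (KK F)ˣ × (Fin 3 → K1 F) →* T4 F := (hat F).prodMap (MonoidHom.id _)

theorem hatP_surjective : Function.Surjective (hatP F) := fun p => by
  obtain ⟨z, hz⟩ := exists_hat p.1
  exact ⟨(z, p.2), Prod.ext hz rfl⟩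

theorem ker_hatP_le : (hatP F).ker ≤ ((simAut ⇑(Q F)).comp (dSimHom F)).ker := by
  rintro ⟨z, u⟩ h
  obtain ⟨hz, rfl⟩ : hat F z = 1 ∧ u = 1 := Prod.ext_iff.1 (MonoidHom.mem_ker.1 h)
  obtain ⟨c, hc⟩ := exists_scalar_of_su (hat_eq_one_iff.1 hz)
  rw [MonoidHom.mem_ker, MonoidHom.comp_apply]
  refine (Oct.simAut_one_iff _).2 ⟨c, fun v => ?_⟩
  obtain ⟨p, rfl⟩ := (ofK F).surjective v
  show ap (dSim z 1) _ = _
  rw [ap_dSim, ← map_smul, hc]
  refine congrArg _ (Prod.ext ?_ (funext fun i => ?_))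
  · exact (Algebra.smul_def _ _).symm
  · simp [Algebra.smul_def]

/-- The diagonal automorphisms. -/
noncomputable def dg (F : Type*) [Field F] [Finite F] [NotThree F] : T4 F →* MulAut (G8 F) :=
  (hatP F).liftOfSurjective hatP_surjective ⟨(simAut ⇑(Q F)).comp (dSimHom F), ker_hatP_le⟩

theorem dg_eq {p : T4 F} {z : (KK F)ˣ} (h : hat F z = p.1) : dg F p = simAut ⇑(Q F) (dSim z p.2) := by
  have := MonoidHom.liftOfRightInverse_comp_apply (hatP F) _ (Function.rightInverse_surjInv hatP_surjective)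
    ⟨(simAut ⇑(Q F)).comp (dSimHom F), ker_hatP_le⟩ (z, p.2)
  rw [show hatP F (z, p.2) = p from Prod.ext h rfl] at this
  exact this

theorem exists_dg (p : T4 F) : ∃ z, hat F z = p.1 ∧ dg F p = simAut ⇑(Q F) (dSim z p.2) :=
  let ⟨z, hz⟩ := exists_hat p.1
  ⟨z, hz, dg_eq hz⟩

theorem dg_injective : Function.Injective (dg F) := by
  rw [← MonoidHom.ker_eq_bot_iff, Subgroup.eq_bot_iff_forall]
  intro p hp
  obtain ⟨z, hz, he⟩ := exists_dg p
  obtain ⟨c, hc⟩ := (Oct.simAut_one_iff _).1 (he ▸ MonoidHom.mem_ker.1 hp)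
  have h1 := hc (ofK F (1, fun _ => 1))
  rw [ap_dSim, ← map_smul, (ofK F).injective.eq_iff] at h1
  have e0 : (z : KK F) = algebraMap F (KK F) c := by
    simpa [Algebra.smul_def] using congrArg Prod.fst h1
  have e1 : ∀ i, (z : KK F) * ((p.2 i : (KK F)ˣ) : KK F) = algebraMap F (KK F) c := fun i => by
    simpa [Algebra.smul_def] using congrFun (congrArg Prod.snd h1) i
  refine Prod.ext (hz.symm.trans (hat_eq_one_iff.2 (Units.ext ?_))) (funext fun i => Subtype.ext (Units.ext ?_))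
  · rw [su_coe, e0]; ext <;> simp [QuadraticAlgebra.algebraMap_eq]
  · have := e1 i
    rw [← e0] at this
    exact z.isUnit.mul_left_cancel (this.trans (mul_one _).symm)

/-- The triples of the diagonal similarities. -/
theorem trip_dSim (a b : (KK F)ˣ) (u : Fin 3 → K1 F) (h : u 0 * u 1 * u 2 * (hat F b * hat F b * hat F a) = 1) :
    ((dSim (a * b) u, dSim a (fun i => hat F b * u i), dSim b u) : Sim F × Sim F × Sim F) ∈ Trip F := by
  have hU : ∀ i, ((a : KK F) * (b : KK F)) * ((u i : (KK F)ˣ) : KK F) =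
      star ((a : KK F) * ((hat F b : (KK F)ˣ) : KK F) * ((u (i + 1) : (KK F)ˣ) : KK F)) *
      star ((b : KK F) * ((u (i + 2) : (KK F)ˣ) : KK F)) := by
    have e : ∀ i, (hat F a * hat F b * hat F b) * (u i * u (i + 1) * u (i + 2)) = 1 := fun i => by
      have e3 : u i * u (i + 1) * u (i + 2) = u 0 * u 1 * u 2 := by
        fin_cases i
        · rfl
        · exact (mul_rotate (u 0) (u 1) (u 2)).symm
        · exact mul_rotate (u 2) (u 0) (u 1)
      rw [e3, ← h, mul_comm, mul_assoc (hat F a), mul_comm (hat F a)]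
    intro i
    have e' := congrArg (fun z : K1 F => ((z : (KK F)ˣ) : KK F)) (e i)
    simp only [Subgroup.coe_mul, Units.val_mul, OneMemClass.coe_one, Units.val_one] at e'
    have ha := hat_mul_star a
    have hb := hat_mul_star b
    have h1 := K1_mul_star (hat F b)
    have h2 := K1_mul_star (u (i + 1))
    have h3 := K1_mul_star (u (i + 2))
    simp only [star_mul']
    generalize ((hat F a : (KK F)ˣ) : KK F) = A at *
    generalize ((hat F b : (KK F)ˣ) : KK F) = B at *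
    generalize ((u i : (KK F)ˣ) : KK F) = x at *
    generalize ((u (i + 1) : (KK F)ˣ) : KK F) = y at *
    generalize ((u (i + 2) : (KK F)ˣ) : KK F) = w at *
    generalize (a : KK F) = aa at *
    generalize (b : KK F) = bb at *
    calc aa * bb * x = A * star aa * (B * star bb) * x * (B * star B) * (y * star y) * (w * star w) := by
          rw [h1, h2, h3, ha, hb]; ring
      _ = (A * B * B * (x * y * w)) * (star aa * star bb * star B * star y * star w) := by ring
      _ = _ := by rw [e']; ring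
  intro v v'
  obtain ⟨p, rfl⟩ := (ofK F).surjective v
  obtain ⟨q, rfl⟩ := (ofK F).surjective v'
  rw [ofK_mul, ap_dSim, ap_dSim, ap_dSim, ofK_mul]
  refine congrArg _ (Prod.ext ?_ (funext fun i => ?_))
  · have hb := hat_mul_star b
    have h0 := K1_mul_star (u 0)
    have h1 := K1_mul_star (u 1)
    have h2 := K1_mul_star (u 2)
    simp only [mul4, Units.val_mul, Subgroup.coe_mul, star_mul']
    linear_combination (a : KK F) * (p.2 0 * star (q.2 0) * ((u 0 : (KK F)ˣ) : KK F) * star ((u 0 : (KK F)ˣ) : KK F) +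
        p.2 1 * star (q.2 1) * ((u 1 : (KK F)ˣ) : KK F) * star ((u 1 : (KK F)ˣ) : KK F) +
        p.2 2 * star (q.2 2) * ((u 2 : (KK F)ˣ) : KK F) * star ((u 2 : (KK F)ˣ) : KK F)) * hb +
      (a : KK F) * (b : KK F) * (p.2 0 * star (q.2 0) * h0 + p.2 1 * star (q.2 1) * h1 + p.2 2 * star (q.2 2) * h2)
  · have hb := hat_mul_star b
    have h1 := hU i
    simp only [mul4, Units.val_mul, Subgroup.coe_mul, star_mul', star_sub, star_add] at h1 ⊢
    have e1 : i + 2 + 2 = i + 1 := by fin_cases i <;> rfl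
    have h1' : ∀ j, ((u j : (KK F)ˣ) : KK F) * star ((u j : (KK F)ˣ) : KK F) = 1 := fun j => K1_mul_star _
    linear_combination (norm := ring_nf) -((a : KK F) * ((u i : (KK F)ˣ) : KK F) * p.2 i * star q.1) * hb +
      (star (p.2 (i + 1)) * star (q.2 (i + 2)) - star (p.2 (i + 2)) * star (q.2 (i + 1))) * h1

/-- The triality on the parameters. -/
def trot (p : T4 F) : T4 F :=
  (p.2 0 * p.2 1 * p.2 2 * p.1, fun i => p.2 i * (p.2 0 * p.2 1 * p.2 2 * p.1)⁻¹)

theorem exists_triple (p : T4 F) :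
    ∃ t : Trip F, pi0 F t = dg F p ∧ pi0 F (rot t) = dg F (trot p) := by
  obtain ⟨b, hb⟩ := exists_hat (p.2 0 * p.2 1 * p.2 2 * p.1)⁻¹
  obtain ⟨a, ha⟩ := exists_hat (p.2 0 * p.2 1 * p.2 2 * p.1 * p.1)
  have h : p.2 0 * p.2 1 * p.2 2 * (hat F b * hat F b * hat F a) = 1 := by
    rw [ha, hb]
    generalize p.2 0 * p.2 1 * p.2 2 = P
    rw [mul_assoc (P * p.1)⁻¹ _ (P * p.1 * p.1), inv_mul_cancel_left, mul_comm (P * p.1)⁻¹ p.1, ← mul_assoc,
      mul_inv_cancel]
  refine ⟨⟨_, trip_dSim a b p.2 h⟩, (dg_eq ?_).symm, ?_⟩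
  · rw [map_mul, ha, hb, mul_right_comm, mul_inv_cancel, one_mul]
  · rw [dg_eq (p := trot p) (z := su F b) ?_]
    · refine congrArg (simAut _) (ext_ofK fun q => ?_)
      show ap (rot ⟨_, trip_dSim a b p.2 h⟩).1.1 _ = _
      rw [rot_fst, ap_R8_conj, ofK_conj, show (⟨_, trip_dSim a b p.2 h⟩ : Trip F).1.2.2 = dSim b p.2 from rfl,
        ap_dSim, ofK_conj, ap_dSim]
      refine congrArg _ (Prod.ext ?_ (funext fun i => ?_))
      · simp [conj4]
      · have hbs := hat_mul_star b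
        simp only [trot, conj4, ← hb, Subgroup.coe_mul, Units.val_mul, su_coe]
        linear_combination (-((p.2 i : (KK F)ˣ) : KK F) * q.2 i) * hbs
    · rw [show hat F (su F b) = (hat F b)⁻¹ from Subtype.ext (by
        rw [hat_coe, InvMemClass.coe_inv, hat_coe, su_su, inv_div]), hb, inv_inv]
      rfl

theorem tau_dg (p : T4 F) : tau F * dg F p * (tau F)⁻¹ = dg F (trot p) := by
  obtain ⟨t, h1, h2⟩ := exists_triple p
  rw [← h1, tau_conj, h2]

theorem dg_mem_range_pi0 (p : T4 F) : dg F p ∈ (pi0 F).range := by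
  obtain ⟨t, h1, -⟩ := exists_triple p
  exact ⟨t, h1⟩

theorem act_conj_dg (E : SAut F) (p p' : T4 F) (z z' : (KK F)ˣ) (hz : hat F z = p.1) (hz' : hat F z' = p'.1)
    (h : ∀ q, ap (dSim z' p'.2) (sact E (ofK F q)) = sact E (ap (dSim z p.2) (ofK F q))) :
    act F E * dg F p * (act F E)⁻¹ = dg F p' := by
  rw [dg_eq hz, dg_eq hz', show act F E = autOmega ⇑(Q F) (E : semiSim ⇑(Q F)) from rfl, ← simAut_conjSim]
  refine congrArg (simAut _) (Oct.ext_ap fun v => ?_)
  obtain ⟨w, rfl⟩ : ∃ w, sact E w = v := ⟨_, slAct_apply_inv _ v⟩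
  obtain ⟨q, rfl⟩ := (ofK F).surjective w
  rw [h]
  exact slAct_conj_inl _ _ _

/-- The field action on the parameters. -/
def tmap (σ : F ≃+* F) : T4 F →* T4 F := (k1 σ).prodMap ((k1 σ).compLeft (Fin 3))

theorem phi_dg (σ : F ≃+* F) (p : T4 F) : phi σ * dg F p * (phi σ)⁻¹ = dg F (tmap σ p) := by
  obtain ⟨z, hz⟩ := exists_hat p.1
  refine act_conj_dg (fldS σ) p (tmap σ p) z (kU σ z) hz (by rw [← k1_hat, hz]; rfl) fun q => ?_
  rw [ap_dSim, sact_fldS_ofK, sact_fldS_ofK, ap_dSim]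
  refine congrArg _ (Prod.ext ?_ (funext fun i => ?_))
  · simp [c4]
  · simp [c4, tmap, k1_coe]

/-- The cyclic shift of the lines on the parameters. -/
def tcyc (p : T4 F) : T4 F := (p.1, fun i => p.2 (i + 1))

theorem wS_dg (p : T4 F) : act F (wS F) * dg F p * (act F (wS F))⁻¹ = dg F (tcyc p) := by
  obtain ⟨z, hz⟩ := exists_hat p.1
  refine act_conj_dg (wS F) p (tcyc p) z z hz hz fun q => ?_
  rw [ap_dSim, sact_wS, sact_wS, ap_dSim]
  rfl

/-- The transposition of two lines. -/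
noncomputable def tS (F : Type*) [Field F] [Finite F] [NotThree F] : SAut F := suS (tMat F) isSU_tMat

theorem sact_tS (p : K4 F) : sact (tS F) (ofK F p) = ofK F (p.1, fun i => -p.2 (-i)) := by
  rw [tS, sact_suS]
  congr 2
  funext i
  fin_cases i <;> simp [tMat, Matrix.mulVec, dotProduct, Fin.sum_univ_three] <;> rfl

theorem srho_tS : srho (tS F) = 1 := srho_suS _ _

theorem srho_wS : srho (wS F) = 1 := srho_suS _ _

theorem tS_fldS (σ : F ≃+* F) : Commute (tS F) (fldS σ) := by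
  refine (?_ : fldS σ * tS F = tS F * fldS σ).symm
  rw [tS, fldS_suS]
  congr 2
  refine Matrix.ext fun i j => ?_
  fin_cases i <;> fin_cases j <;> simp [tMat]

theorem tS_dg (p : T4 F) : act F (tS F) * dg F p * (act F (tS F))⁻¹ = dg F (p.1, fun i => p.2 (-i)) := by
  obtain ⟨z, hz⟩ := exists_hat p.1
  refine act_conj_dg (tS F) p (p.1, fun i => p.2 (-i)) z z hz hz fun q => ?_
  rw [ap_dSim, sact_tS, sact_tS, ap_dSim]
  refine congrArg _ (Prod.ext rfl (funext fun i => ?_))
  simp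

theorem tS_wS : act F (tS F) * act F (wS F) * (act F (tS F))⁻¹ = act F (wS F) ^ 2 := by
  rw [mul_inv_eq_iff_eq_mul, ← map_pow, ← map_mul, ← map_mul]
  refine congrArg _ (saut_ext4 (by rw [pow_two, srho_mul, srho_mul, srho_mul, srho_tS, srho_wS]; rfl) fun p => ?_)
  rw [pow_two, sact_comp, sact_comp, sact_comp, sact_wS, sact_tS, sact_tS, sact_wS, sact_wS]
  refine congrArg _ (Prod.ext rfl (funext fun i => ?_))
  fin_cases i <;> rfl

/-- The unitary diagonal matrices. -/
theorem isSU_diag (u : Fin 3 → K1 F) (h : u 0 * u 1 * u 2 = 1) :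
    IsSU (Matrix.diagonal fun i => ((u i : (KK F)ˣ) : KK F)) := by
  refine ⟨?_, ?_⟩
  · rw [Matrix.diagonal_map (star_zero _), Matrix.diagonal_transpose, Matrix.diagonal_mul_diagonal,
      ← Matrix.diagonal_one]
    congr 1
    funext i
    exact (mul_comm _ _).trans (K1_mul_star (u i))
  · rw [Matrix.det_diagonal, Fin.prod_univ_three]
    simpa using congrArg (fun z : K1 F => ((z : (KK F)ˣ) : KK F)) h

/-- The automorphism of a unitary diagonal matrix. -/
noncomputable def diagS (u : Fin 3 → K1 F) (h : u 0 * u 1 * u 2 = 1) : SAut F := suS _ (isSU_diag u h)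

theorem sact_diagS (u : Fin 3 → K1 F) (h : u 0 * u 1 * u 2 = 1) (p : K4 F) :
    sact (diagS u h) (ofK F p) = ofK F (p.1, fun i => ((u i : (KK F)ˣ) : KK F) * p.2 i) := by
  rw [diagS, sact_suS]
  refine congrArg _ (Prod.ext rfl (funext fun i => ?_))
  exact Matrix.mulVec_diagonal (fun i => ((u i : (KK F)ˣ) : KK F)) p.2 i

theorem dg_diag (u : Fin 3 → K1 F) (h : u 0 * u 1 * u 2 = 1) : dg F (1, u) = act F (diagS u h) := by
  rw [dg_eq (p := (1, u)) (z := 1) (map_one _)]
  show _ = simAut _ (Oct.mkSim _ 1 _)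
  refine congrArg (simAut _) (ext_ofK fun p => ?_)
  rw [ap_dSim, Oct.ap_mkSim, suLin_ofK]
  refine congrArg _ (Prod.ext (one_mul _) (funext fun i => ?_))
  simp [Matrix.mulVec_diagonal]

end CfsgLib.FgsC.LocalBalance.Tri
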