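import Cfsg.Agent.Lib.FgsC.LocalBalance.Triality.Model
import Mathlib.FieldTheory.Finite.Basic
import Mathlib.LinearAlgebra.LinearIndependent.Lemmas

/-!
The norm one group of the quadratic algebra of the cube roots of unity.
-/

set_option autoImplicit false
set_option maxHeartbeats 1000000

namespace CfsgLib.FgsC.LocalBalance.Tri

open scoped QuadraticAlgebra

variable {F : Type*} [Field F]

/-- The cube root of unity. -/
def om (F : Type*) [Field F] : KK F := ⟨0, 1⟩

theorem om_sq : om F * om F = star (om F) := by ext <;> simp [om]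

theorem om_cube : om F * om F * om F = 1 := by ext <;> simp [om]

instance instFiniteKK [Finite F] : Finite (KK F) :=
  Finite.of_equiv _ (QuadraticAlgebra.equivProd (-1 : F) (-1 : F)).symm

/-- A field automorphism on the quadratic algebra. -/
def kmap (σ : F ≃+* F) : KK F →+* KK F where
  toFun k := ⟨σ k.re, σ k.im⟩
  map_one' := by ext <;> simp
  map_mul' a b := by ext <;> simp
  map_zero' := by ext <;> simp
  map_add' a b := by ext <;> simp

@[simp] theorem re_kmap (σ : F ≃+* F) (k : KK F) : (kmap σ k).re = σ k.re := rfl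

@[simp] theorem im_kmap (σ : F ≃+* F) (k : KK F) : (kmap σ k).im = σ k.im := rfl

theorem kmap_star (σ : F ≃+* F) (k : KK F) : kmap σ (star k) = star (kmap σ k) := by ext <;> simp

theorem kmap_om (σ : F ≃+* F) : kmap σ (om F) = om F := by ext <;> simp [om]

theorem kmap_mul (σ τ : F ≃+* F) (k : KK F) : kmap (σ * τ) k = kmap σ (kmap τ k) := rfl

theorem kmap_one (k : KK F) : kmap (1 : F ≃+* F) k = k := rfl

/-- The conjugation of units. -/
def su (F : Type*) [Field F] : (KK F)ˣ →* (KK F)ˣ := Units.map (starRingEnd (KK F) : KK F →* KK F)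

@[simp] theorem su_coe (z : (KK F)ˣ) : ((su F z : (KK F)ˣ) : KK F) = star (z : KK F) := rfl

@[simp] theorem su_su (z : (KK F)ˣ) : su F (su F z) = z := Units.ext (star_star _)

/-- The norm one group. -/
def K1 (F : Type*) [Field F] : Subgroup (KK F)ˣ := (MonoidHom.id _ * su F).ker

theorem mem_K1 {z : (KK F)ˣ} : z ∈ K1 F ↔ z * su F z = 1 := MonoidHom.mem_ker

theorem su_K1 (z : K1 F) : su F (z : (KK F)ˣ) = ((z⁻¹ : K1 F) : (KK F)ˣ) :=
  eq_inv_of_mul_eq_one_right (mem_K1.1 z.2)

/-- The hat. -/
def hat (F : Type*) [Field F] : (KK F)ˣ →* K1 F :=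
  (MonoidHom.id _ / su F).codRestrict _ fun z => mem_K1.2 (by
    rw [MonoidHom.div_apply, MonoidHom.id_apply, map_div, su_su, div_mul_div_cancel, div_self'])

theorem hat_coe (z : (KK F)ˣ) : ((hat F z : K1 F) : (KK F)ˣ) = z / su F z := rfl

theorem hat_eq_one_iff {z : (KK F)ˣ} : hat F z = 1 ↔ su F z = z := by
  rw [Subtype.ext_iff, hat_coe, OneMemClass.coe_one, div_eq_one, eq_comm]

/-- A field automorphism on units. -/
def kU (σ : F ≃+* F) : (KK F)ˣ →* (KK F)ˣ := Units.map (kmap σ : KK F →* KK F)

@[simp] theorem kU_coe (σ : F ≃+* F) (z : (KK F)ˣ) : ((kU σ z : (KK F)ˣ) : KK F) = kmap σ (z : KK F) := rfl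

theorem kU_su (σ : F ≃+* F) (z : (KK F)ˣ) : kU σ (su F z) = su F (kU σ z) := Units.ext (kmap_star σ _)

/-- A field automorphism on the norm one group. -/
def k1 (σ : F ≃+* F) : K1 F →* K1 F :=
  ((kU σ).comp (K1 F).subtype).codRestrict _ fun z => mem_K1.2 (by
    rw [MonoidHom.comp_apply, ← kU_su, ← map_mul, Subgroup.coe_subtype, mem_K1.1 z.2, map_one])

theorem k1_coe (σ : F ≃+* F) (z : K1 F) : ((k1 σ z : K1 F) : (KK F)ˣ) = kU σ (z : (KK F)ˣ) := rfl

theorem k1_hat (σ : F ≃+* F) (z : (KK F)ˣ) : k1 σ (hat F z) = hat F (kU σ z) :=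
  Subtype.ext (by rw [k1_coe, hat_coe, hat_coe, map_div, kU_su])

theorem k1_mul (σ τ : F ≃+* F) (z : K1 F) : k1 (σ * τ) z = k1 σ (k1 τ z) := rfl

theorem k1_one (z : K1 F) : k1 (1 : F ≃+* F) z = z := rfl

variable [NotThree F]

theorem eq_zero_of_sq {w : KK F} (h : w * w = 0) : w = 0 := by
  have h3 := three_ne (F := F)
  have h1 := congrArg QuadraticAlgebra.re h
  have h2 := congrArg QuadraticAlgebra.im h
  simp at h1 h2
  have hi : w.im = 0 := by
    by_contra hne
    have : w.im = 2 * w.re := by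
      have : w.im * (2 * w.re - w.im) = 0 := by linear_combination h2
      exact (sub_eq_zero.1 ((mul_eq_zero.1 this).resolve_left hne)).symm
    refine hne ?_
    rw [this] at h1 ⊢
    have : (3 : F) * (w.re * w.re) = 0 := by linear_combination -h1
    rw [mul_self_eq_zero.1 ((mul_eq_zero.1 this).resolve_left h3), mul_zero]
  rw [hi] at h1
  ext
  · simpa using h1
  · simpa using hi

omit [NotThree F] in
theorem isUnit_of_norm {z : KK F} (h : QuadraticAlgebra.norm z ≠ 0) : IsUnit z :=
  QuadraticAlgebra.isUnit_iff_norm_isUnit.2 (isUnit_iff_ne_zero.2 h)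

omit [NotThree F] in
theorem mul_star_eq (z : KK F) : z * star z = algebraMap F (KK F) (QuadraticAlgebra.norm z) :=
  (QuadraticAlgebra.algebraMap_norm_eq_mul_star z).symm

omit [NotThree F] in
theorem norm_K1 (z : K1 F) : QuadraticAlgebra.norm ((z : (KK F)ˣ) : KK F) = 1 := by
  have h := congrArg Units.val (mem_K1.1 z.2)
  rw [Units.val_mul, su_coe, mul_star_eq, Units.val_one, ← map_one (algebraMap F (KK F))] at h
  exact (algebraMap F (KK F)).injective h

theorem exists_hat (a : K1 F) : ∃ z, hat F z = a := by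
  set A : KK F := ((a : (KK F)ˣ) : KK F) with hA
  have hAA : A * star A = 1 := congrArg Units.val (mem_K1.1 a.2)
  have key : ∀ t : KK F, t + A * star t ≠ 0 → ∃ z, hat F z = a := by
    intro t ht
    set w := t + A * star t with hw
    have hwA : A * star w = w := by
      rw [hw, star_add, star_mul', star_star, mul_add, ← mul_assoc, hAA, one_mul, add_comm]
    have hN : QuadraticAlgebra.norm w ≠ 0 := fun h => ht (eq_zero_of_sq (by
      conv_lhs => arg 2; rw [← hwA]
      rw [mul_left_comm, mul_star_eq, h, map_zero, mul_zero]))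
    refine ⟨(isUnit_of_norm hN).unit, Subtype.ext ?_⟩
    rw [hat_coe, div_eq_iff_eq_mul]
    exact Units.ext hwA.symm
  by_cases h1 : 1 + A * star (1 : KK F) ≠ 0
  · exact key 1 h1
  · refine key (om F) fun h => ?_
    rw [star_one, mul_one, not_not] at h1
    have h' := congrArg QuadraticAlgebra.im h
    rw [eq_neg_of_add_eq_zero_right h1] at h'
    simp [om] at h'
    have h'' := congrArg QuadraticAlgebra.re h
    rw [eq_neg_of_add_eq_zero_right h1] at h''
    simp [om] at h''

theorem cube_roots {z : K1 F} (h : z ^ 3 = 1) :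
    ((z : (KK F)ˣ) : KK F) = 1 ∨ ((z : (KK F)ˣ) : KK F) = om F ∨ ((z : (KK F)ˣ) : KK F) = star (om F) := by
  have hN := norm_K1 z
  have h2 : (z : (KK F)ˣ) * (z : (KK F)ˣ) = su F (z : (KK F)ˣ) := by
    rw [su_K1, eq_comm, InvMemClass.coe_inv, inv_eq_iff_mul_eq_one, ← mul_assoc]
    have := congrArg Subtype.val h
    rwa [SubmonoidClass.coe_pow, pow_three', OneMemClass.coe_one] at this
  have h2' := congrArg Units.val h2
  rw [Units.val_mul, su_coe] at h2'
  set w := ((z : (KK F)ˣ) : KK F)
  have hre := congrArg QuadraticAlgebra.re h2'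
  have him := congrArg QuadraticAlgebra.im h2'
  rw [QuadraticAlgebra.norm_def] at hN
  simp at hre him
  have h3 := three_ne (F := F)
  rcases mul_eq_zero.1 (show (w.re - w.im) * (w.re + w.im - 1) = 0 by linear_combination hre) with e | e
  · have e' : w.re = w.im := sub_eq_zero.1 e
    have hbb : w.im * (w.im + 1) = 0 := by linear_combination him - 2 * w.im * e'
    rcases mul_eq_zero.1 hbb with e0 | e1
    · exfalso; rw [e', e0] at hN; simp at hN
    · refine Or.inr (Or.inr ?_)
      have : w.im = -1 := eq_neg_of_add_eq_zero_left e1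
      ext <;> simp [om, e', this]
  · have e' : w.re = 1 - w.im := by linear_combination e
    have hbb : (3 : F) * (w.im * (1 - w.im)) = 0 := by linear_combination him - 2 * w.im * e'
    rcases mul_eq_zero.1 ((mul_eq_zero.1 hbb).resolve_left h3) with e0 | e1
    · refine Or.inl ?_
      ext <;> simp [e', e0]
    · refine Or.inr (Or.inl ?_)
      have : w.im = 1 := (sub_eq_zero.1 e1).symm
      ext <;> simp [om, e', this]

omit [NotThree F] in
theorem isUnit_om : IsUnit (om F) :=
  ⟨⟨om F, om F * om F, by rw [← mul_assoc, om_cube], om_cube⟩, rfl⟩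

/-- The cube root of unity in the norm one group. -/
noncomputable def om1 (F : Type*) [Field F] : K1 F :=
  ⟨(isUnit_om (F := F)).unit, mem_K1.2 (Units.ext (by
    rw [Units.val_mul, su_coe, IsUnit.unit_spec, ← om_sq, ← mul_assoc, om_cube, Units.val_one]))⟩

theorem om1_coe : ((om1 F : (KK F)ˣ) : KK F) = om F := IsUnit.unit_spec _

theorem om1_cube : om1 F ^ 3 = 1 := Subtype.ext (Units.ext (by
  simp only [Subgroup.coe_mul, Units.val_mul, om1_coe, pow_three', om_cube]; rfl))

theorem k1_om1 (σ : F ≃+* F) : k1 σ (om1 F) = om1 F :=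
  Subtype.ext (Units.ext (by rw [k1_coe, kU_coe, om1_coe, kmap_om]))

theorem exists_om_pow {z : K1 F} (h : z ^ 3 = 1) : ∃ j : ℕ, z = om1 F ^ j := by
  rcases cube_roots h with e | e | e
  · exact ⟨0, Subtype.ext (Units.ext (by rw [e, pow_zero]; rfl))⟩
  · exact ⟨1, Subtype.ext (Units.ext (by rw [e, pow_one, om1_coe]))⟩
  · exact ⟨2, Subtype.ext (Units.ext (by
      rw [e, SubmonoidClass.coe_pow, Units.val_pow_eq_pow_val, om1_coe, pow_two, om_sq]))⟩

variable [Finite F]

/-- The cubes have index at most three. -/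
theorem exists_mul_pow_cube {U : K1 F} (hU : ¬ ∃ w, w ^ 3 = U) (z : K1 F) :
    ∃ j : ℕ, ∃ w, w ^ 3 = z * U ^ j := by
  classical
  set f : K1 F →* K1 F := powMonoidHom 3 with hf
  have hker : Nat.card f.ker ≤ 3 := by
    let g : Fin 3 → f.ker := fun j => ⟨om1 F ^ (j : ℕ), MonoidHom.mem_ker.2 (by
      rw [hf, powMonoidHom_apply, ← pow_mul, mul_comm, pow_mul, om1_cube, one_pow])⟩
    refine le_trans (Nat.card_le_card_of_surjective g ?_) (by simp)
    rintro ⟨w, hw⟩
    obtain ⟨j, rfl⟩ := exists_om_pow (MonoidHom.mem_ker.1 hw)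
    refine ⟨⟨j % 3, Nat.mod_lt _ (by norm_num)⟩, Subtype.ext ?_⟩
    show om1 F ^ (j % 3) = om1 F ^ j
    conv_rhs => rw [← Nat.mod_add_div j 3, pow_add, pow_mul, om1_cube, one_pow, mul_one]
  have hidx : Nat.card (K1 F ⧸ f.range) ≤ 3 := by
    have h1 := f.range.card_mul_index
    have h2 := Subgroup.card_eq_card_quotient_mul_card_subgroup f.ker
    rw [Nat.card_congr (QuotientGroup.quotientKerEquivRange f).toEquiv, ← h1] at h2
    rw [← Subgroup.index_eq_card, Nat.eq_of_mul_eq_mul_left Nat.card_pos h2]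
    exact hker
  have hu : orderOf (U : K1 F ⧸ f.range) = 3 := by
    haveI := Fact.mk Nat.prime_three
    refine orderOf_eq_prime ((QuotientGroup.eq_one_iff (U ^ 3)).2 ⟨U, rfl⟩) fun h => ?_
    exact hU ((QuotientGroup.eq_one_iff U).1 h)
  have htop : Subgroup.zpowers (U : K1 F ⧸ f.range) = ⊤ :=
    Subgroup.eq_top_of_le_card _ (by rw [Nat.card_zpowers, hu]; exact hidx)
  obtain ⟨j, hj⟩ := Subgroup.mem_zpowers_iff.1 (htop ▸ Subgroup.mem_top ((z : K1 F ⧸ f.range))⁻¹)
  obtain ⟨n, hn⟩ : ∃ n : ℕ, (U : K1 F ⧸ f.range) ^ n = ((z : K1 F ⧸ f.range))⁻¹ :=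
    mem_powers_iff_mem_zpowers.2 ⟨j, hj⟩
  have hone : ((z * U ^ n : K1 F) : K1 F ⧸ f.range) = 1 := by
    rw [QuotientGroup.mk_mul, QuotientGroup.mk_pow, hn, mul_inv_cancel]
  obtain ⟨w, hw⟩ := (QuotientGroup.eq_one_iff _).1 hone
  exact ⟨n, w, hw⟩

section Frobenius

variable {σ : F ≃+* F} (hσ3 : σ ^ 3 = 1) (hσ1 : σ ≠ 1)
include hσ3 hσ1

omit [NotThree F] [Finite F] in
theorem exists_resolvent_ne (A B : F) : ∃ t : F, t + A * σ t + B * σ (σ t) ≠ 0 := by
  by_contra hcon
  push Not at hcon
  let f : Fin 3 → (F →* F) := ![MonoidHom.id F, (σ : F →* F), ((σ * σ : F ≃+* F) : F →* F)]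
  have h12 : σ * σ ≠ 1 := fun h => hσ1 (by rw [← hσ3, pow_three', h, one_mul])
  have hinj : Function.Injective f := by
    have h01 : (MonoidHom.id F : F →* F) ≠ (σ : F →* F) := fun h => hσ1 (RingEquiv.ext fun x => (DFunLike.congr_fun h x).symm)
    have h02 : (MonoidHom.id F : F →* F) ≠ ((σ * σ : F ≃+* F) : F →* F) := fun h =>
      h12 (RingEquiv.ext fun x => (DFunLike.congr_fun h x).symm)
    have h12' : (σ : F →* F) ≠ ((σ * σ : F ≃+* F) : F →* F) := fun h =>
      hσ1 (RingEquiv.ext fun x => σ.injective (DFunLike.congr_fun h x).symm)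
    intro i j h
    fin_cases i <;> fin_cases j <;> first
      | rfl
      | exact absurd h h01
      | exact absurd h.symm h01
      | exact absurd h h02
      | exact absurd h.symm h02
      | exact absurd h h12'
      | exact absurd h.symm h12'
  have hli := (linearIndependent_monoidHom F F).comp f hinj
  have h := Fintype.linearIndependent_iff.1 hli ![1, A, B] (by
    funext t
    simp [Fin.sum_univ_three, f]
    linear_combination hcon t)
  simpa using h 0

/-- Hilbert ninety for the norm one group under the field automorphism. -/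
theorem exists_k1_div (a : K1 F) (ha : a * k1 σ a * k1 σ (k1 σ a) = 1) : ∃ v : K1 F, v / k1 σ v = a := by
  set b := a * k1 σ a
  have hbc : ∀ t : F, ∃ w : KK F, w = algebraMap F _ t + ((a : (KK F)ˣ) : KK F) * algebraMap F _ (σ t) +
      ((b : (KK F)ˣ) : KK F) * algebraMap F _ (σ (σ t)) := fun t => ⟨_, rfl⟩
  choose w hw using hbc
  have hkA : ∀ t : F, kmap σ (algebraMap F (KK F) t) = algebraMap F (KK F) (σ t) := fun t => by
    ext <;> simp [QuadraticAlgebra.algebraMap_eq]
  have hkb : ((a : (KK F)ˣ) : KK F) * kmap σ ((b : (KK F)ˣ) : KK F) = 1 := by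
    have := congrArg (fun z : K1 F => ((z : (KK F)ˣ) : KK F)) ha
    simp only [b, Subgroup.coe_mul, Units.val_mul, OneMemClass.coe_one, Units.val_one, map_mul, k1_coe, kU_coe] at this ⊢
    rw [← this, mul_assoc]
  have hkab : ((a : (KK F)ˣ) : KK F) * kmap σ ((a : (KK F)ˣ) : KK F) = ((b : (KK F)ˣ) : KK F) := rfl
  have hfix : ∀ t, ((a : (KK F)ˣ) : KK F) * kmap σ (w t) = w t := fun t => by
    have h3 : σ (σ (σ t)) = t := by
      rw [show σ (σ (σ t)) = (σ ^ 3) t from rfl, hσ3]; rfl
    rw [hw, map_add, map_add, map_mul, map_mul, hkA, hkA, hkA, h3, mul_add, mul_add, ← mul_assoc, ← mul_assoc,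
      hkab, hkb, one_mul]
    abel
  have hunit : ∃ t, QuadraticAlgebra.norm (w t) ≠ 0 := by
    by_cases hr : ∃ r : F, r ^ 2 + r + 1 = 0
    · obtain ⟨r, hr⟩ := hr
      set A := ((a : (KK F)ˣ) : KK F)
      set B := ((b : (KK F)ˣ) : KK F)
      obtain ⟨t1, ht1⟩ := exists_resolvent_ne hσ3 hσ1 (A.re + r * A.im) (B.re + r * B.im)
      obtain ⟨t2, ht2⟩ := exists_resolvent_ne hσ3 hσ1 (A.re + r ^ 2 * A.im) (B.re + r ^ 2 * B.im)
      have e1 : ∀ t, (w t).re + r * (w t).im = t + (A.re + r * A.im) * σ t + (B.re + r * B.im) * σ (σ t) := fun t => by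
        rw [hw]; simp [QuadraticAlgebra.algebraMap_eq]; ring
      have e2 : ∀ t, (w t).re + r ^ 2 * (w t).im =
          t + (A.re + r ^ 2 * A.im) * σ t + (B.re + r ^ 2 * B.im) * σ (σ t) := fun t => by
        rw [hw]; simp [QuadraticAlgebra.algebraMap_eq]; ring
      have hN : ∀ z : KK F, QuadraticAlgebra.norm z = (z.re + r * z.im) * (z.re + r ^ 2 * z.im) := fun z => by
        rw [QuadraticAlgebra.norm_def]
        linear_combination (-(z.re * z.im) - z.im * z.im * (r - 1)) * hr
      by_contra hcon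
      push Not at hcon
      simp only [hN, mul_eq_zero, e1, e2] at hcon
      have h2 := (hcon t2).resolve_right ht2
      have h1 := (hcon t1).resolve_left ht1
      rcases hcon (t1 + t2) with h | h
      · exact ht1 (by simp only [map_add] at h; linear_combination h - h2)
      · exact ht2 (by simp only [map_add] at h; linear_combination h - h1)
    · push Not at hr
      obtain ⟨t, ht⟩ := exists_resolvent_ne hσ3 hσ1 ((a : (KK F)ˣ) : KK F).re ((b : (KK F)ˣ) : KK F).re
      refine ⟨t, fun h => ?_⟩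
      rw [QuadraticAlgebra.norm_def] at h
      by_cases hi : (w t).im = 0
      · rw [hi] at h
        have : (w t).re = 0 := by simpa using h
        refine ht ?_
        rw [hw] at this
        simpa [QuadraticAlgebra.algebraMap_eq] using this
      · refine hr (-(w t).re / (w t).im) ?_
        field_simp
        linear_combination h
  obtain ⟨t, ht⟩ := hunit
  set W := (isUnit_of_norm ht).unit
  have hW : (a : (KK F)ˣ) * kU σ W = W := Units.ext (hfix t)
  -- the square is a quotient
  have h2 : hat F W / k1 σ (hat F W) = a * a := by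
    have h := congrArg (hat F) hW
    rw [map_mul, ← k1_hat] at h
    have hha : hat F (a : (KK F)ˣ) = a * a := Subtype.ext (by
      rw [hat_coe, su_K1, InvMemClass.coe_inv, div_inv_eq_mul]; rfl)
    rw [hha] at h
    exact div_eq_iff_eq_mul.2 h.symm
  -- so is the cube
  have h3 : (a * (a * k1 σ a)) / k1 σ (a * (a * k1 σ a)) = a ^ 3 := by
    rw [map_mul, map_mul]
    have e : k1 σ (k1 σ a) = (a * k1 σ a)⁻¹ := eq_inv_of_mul_eq_one_right ha
    rw [e, div_eq_iff_eq_mul, pow_three']
    rw [mul_comm a (k1 σ a), _root_.mul_inv_rev]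
    simp only [mul_assoc, mul_comm, mul_left_comm, mul_inv_cancel_left, mul_inv_cancel, mul_one]
  refine ⟨(a * (a * k1 σ a)) / hat F W, ?_⟩
  rw [map_div, div_div_div_comm, h2, h3, pow_three', div_eq_iff_eq_mul, mul_comm (a * a) a]

/-- The norm to the fixed points is surjective. -/
theorem exists_k1_norm (d : K1 F) (hd : k1 σ d = d) : ∃ v, v * k1 σ v * k1 σ (k1 σ v) = d := by
  let f : K1 F →* K1 F := MonoidHom.id _ / k1 σ
  let N : K1 F →* K1 F := MonoidHom.id _ * k1 σ * (k1 σ).comp (k1 σ)
  have hker : N.ker = f.range := by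
    refine le_antisymm (fun a ha => ?_) ?_
    · obtain ⟨v, hv⟩ := exists_k1_div hσ3 hσ1 a (MonoidHom.mem_ker.1 ha)
      exact ⟨v, hv⟩
    · rintro _ ⟨v, rfl⟩
      have h3 : k1 σ (k1 σ (k1 σ v)) = v := by rw [← k1_mul, ← k1_mul, ← pow_three' σ, hσ3, k1_one]
      rw [MonoidHom.mem_ker]
      simp only [N, f, MonoidHom.mul_apply, MonoidHom.id_apply, MonoidHom.comp_apply, MonoidHom.div_apply, map_div, h3]
      simp [div_eq_mul_inv, mul_assoc, mul_comm, mul_left_comm]
  have hle : N.range ≤ f.ker := by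
    rintro _ ⟨v, rfl⟩
    have h3 : k1 σ (k1 σ (k1 σ v)) = v := by rw [← k1_mul, ← k1_mul, ← pow_three' σ, hσ3, k1_one]
    rw [MonoidHom.mem_ker]
    simp only [N, f, MonoidHom.mul_apply, MonoidHom.id_apply, MonoidHom.comp_apply, MonoidHom.div_apply, map_mul, h3]
    simp [div_eq_mul_inv, mul_assoc, mul_comm, mul_left_comm]
  have heq : N.range = f.ker := by
    refine Subgroup.eq_of_le_of_card_ge hle (le_of_eq ?_)
    have h1 := Subgroup.card_eq_card_quotient_mul_card_subgroup N.ker
    have h2 := Subgroup.card_eq_card_quotient_mul_card_subgroup f.ker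
    rw [Nat.card_congr (QuotientGroup.quotientKerEquivRange N).toEquiv, hker] at h1
    rw [Nat.card_congr (QuotientGroup.quotientKerEquivRange f).toEquiv, h1, mul_comm] at h2
    exact (Nat.eq_of_mul_eq_mul_left Nat.card_pos h2).symm
  obtain ⟨v, hv⟩ : d ∈ N.range := heq ▸ MonoidHom.mem_ker.2 (by
    show d / k1 σ d = 1
    rw [hd, div_self'])
  exact ⟨v, hv⟩

end Frobenius

theorem three_part {k : ℕ} (hk : 3 ^ k ∣ Nat.card F ^ 2 - 1) : 3 ^ k ∣ Nat.card (K1 F) := by
  classical
  haveI := Fintype.ofFinite F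
  set q := Nat.card F with hq
  have hq1 : 1 < q := Finite.one_lt_card
  have hfac : q ^ 2 - 1 = (q + 1) * (q - 1) := by rw [← one_pow 2, Nat.sq_sub_sq, one_pow]
  have hcardF : Nat.card Fˣ = q - 1 := by rw [Nat.card_units]
  by_cases hr : ∃ r : F, r ^ 2 + r + 1 = 0
  · obtain ⟨r, hr⟩ := hr
    have hr1 : r ≠ 1 := fun h => three_ne (F := F) (by subst h; linear_combination hr)
    have hr0 : r ≠ 0 := fun h => by subst h; simp at hr
    have h3 : 3 ∣ q - 1 := by
      haveI := Fact.mk Nat.prime_three
      rw [← hcardF]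
      have : orderOf (Units.mk0 r hr0) = 3 := orderOf_eq_prime (Units.ext (by
        rw [Units.val_pow_eq_pow_val, Units.val_mk0, Units.val_one]; linear_combination (r - 1) * hr))
        (fun h => hr1 (congrArg Units.val h))
      exact this ▸ orderOf_dvd_natCard _
    have hcop : Nat.Coprime (3 ^ k) (q + 1) := by
      refine Nat.Coprime.pow_left _ ((Nat.prime_three.coprime_iff_not_dvd).2 fun h => ?_)
      omega
    rw [hfac] at hk
    have hk' := hcop.dvd_of_dvd_mul_left hk
    rw [← hcardF] at hk'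
    refine hk'.trans (dvd_of_eq ?_)
    have hz : r - r ^ 2 ≠ 0 := fun h => by
      have : r * (1 - r) = 0 := by linear_combination h
      rcases mul_eq_zero.1 this with e | e
      · exact hr0 e
      · exact hr1 (sub_eq_zero.1 e).symm
    let P : KK F → F := fun z => z.re + r * z.im
    have hN : ∀ z : KK F, QuadraticAlgebra.norm z = P z * (z.re + r ^ 2 * z.im) := fun z => by
      rw [QuadraticAlgebra.norm_def]
      linear_combination (-(z.re * z.im) - z.im * z.im * (r - 1)) * hr
    let g : K1 F → Fˣ := fun z => Units.mk0 (P ((z : (KK F)ˣ) : KK F)) fun h => by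
      have := norm_K1 z
      rw [hN, h, zero_mul] at this
      exact zero_ne_one this
    refine (Nat.card_congr (Equiv.ofBijective g ⟨fun a b h => ?_, fun x => ?_⟩)).symm
    · have e : P ((a : (KK F)ˣ) : KK F) = P ((b : (KK F)ˣ) : KK F) := congrArg Units.val h
      have e2 : ((a : (KK F)ˣ) : KK F).re + r ^ 2 * ((a : (KK F)ˣ) : KK F).im =
          ((b : (KK F)ˣ) : KK F).re + r ^ 2 * ((b : (KK F)ˣ) : KK F).im := by
        have ha := norm_K1 a
        have hb := norm_K1 b
        rw [hN] at ha hb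
        exact mul_left_cancel₀ (left_ne_zero_of_mul_eq_one hb) (by rw [hb, ← e, ha])
      have him : ((a : (KK F)ˣ) : KK F).im = ((b : (KK F)ˣ) : KK F).im :=
        mul_left_cancel₀ hz (by linear_combination e - e2)
      refine Subtype.ext (Units.ext (QuadraticAlgebra.ext ?_ him))
      simp only [P, him] at e
      exact add_right_cancel e
    · set i := ((x : F) - (x : F)⁻¹) / (r - r ^ 2)
      let z : KK F := ⟨(x : F) - r * i, i⟩
      have hi : i * (r - r ^ 2) = (x : F) - (x : F)⁻¹ := div_mul_cancel₀ _ hz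
      have hzP : P z = (x : F) := by simp [P, z]
      have hzN : QuadraticAlgebra.norm z = 1 := by
        rw [hN, hzP, show z.re + r ^ 2 * z.im = (x : F)⁻¹ by simp only [z]; linear_combination -hi]
        exact mul_inv_cancel₀ x.ne_zero
      refine ⟨⟨(isUnit_of_norm (z := z) (by rw [hzN]; exact one_ne_zero)).unit, mem_K1.2 (Units.ext ?_)⟩, Units.ext ?_⟩
      · rw [Units.val_mul, su_coe, IsUnit.unit_spec, mul_star_eq, hzN, map_one, Units.val_one]
      · exact hzP
  · push Not at hr
    have h3 : ¬ 3 ∣ q - 1 := by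
      intro h
      haveI := Fact.mk Nat.prime_three
      rw [← hcardF] at h
      obtain ⟨x, hx⟩ := exists_prime_orderOf_dvd_card' 3 h
      refine hr (x : F) ?_
      have hx3 : (x : F) ^ 3 = 1 := by rw [← Units.val_pow_eq_pow_val, ← hx, pow_orderOf_eq_one, Units.val_one]
      have hx1 : (x : F) - 1 ≠ 0 := sub_ne_zero.2 fun h => by
        rw [show x = 1 from Units.ext h, orderOf_one] at hx; norm_num at hx
      exact (mul_eq_zero.1 (show ((x : F) - 1) * ((x : F) ^ 2 + (x : F) + 1) = 0 by linear_combination hx3)).resolve_left hx1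
    have hfield : ∀ z : KK F, z ≠ 0 → IsUnit z := fun z hz => isUnit_of_norm fun h => by
      rw [QuadraticAlgebra.norm_def] at h
      by_cases hi : z.im = 0
      · rw [hi] at h
        exact hz (QuadraticAlgebra.ext (by simpa using h) hi)
      · refine hr (-z.re / z.im) ?_
        field_simp
        linear_combination h
    have hcardK : Nat.card (KK F)ˣ = q ^ 2 - 1 := by
      have h1 : Nat.card (KK F)ˣ = Nat.card {z : KK F // z ≠ 0} :=
        Nat.card_congr ((Equiv.ofInjective _ Units.val_injective).trans (Equiv.subtypeEquivRight fun z =>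
          ⟨fun ⟨u, hu⟩ => hu ▸ u.ne_zero, fun hz => ⟨(hfield z hz).unit, rfl⟩⟩))
      haveI := Fintype.ofFinite (KK F)
      rw [h1, Nat.card_eq_fintype_card, Fintype.card_subtype_compl, Fintype.card_subtype_eq, ← Nat.card_eq_fintype_card,
        Nat.card_congr (QuadraticAlgebra.equivProd (-1 : F) (-1 : F)), Nat.card_prod, pow_two]
    have hker : Nat.card (hat F).ker ∣ q - 1 := by
      let e : (hat F).ker →* Fˣ :=
        { toFun := fun z => Units.mk0 (z.1 : KK F).re fun h => by
            have hs := congrArg Units.val (hat_eq_one_iff.1 z.2)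
            have hre := congrArg QuadraticAlgebra.re hs
            simp at hre
            exact (Units.ne_zero z.1) (QuadraticAlgebra.ext (by simpa using h) (by simpa using hre))
          map_one' := Units.ext (by simp)
          map_mul' := fun x y => Units.ext (by
            have hs := congrArg Units.val (hat_eq_one_iff.1 x.2)
            have hre := congrArg QuadraticAlgebra.re hs
            simp at hre
            simp [hre]) }
      rw [← hcardF]
      refine Subgroup.card_dvd_of_injective e fun x y h => Subtype.ext (Units.ext ?_)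
      have h' : (x.1 : KK F).re = (y.1 : KK F).re := congrArg Units.val h
      have hx := congrArg QuadraticAlgebra.re (congrArg Units.val (hat_eq_one_iff.1 x.2))
      have hy := congrArg QuadraticAlgebra.re (congrArg Units.val (hat_eq_one_iff.1 y.2))
      simp at hx hy
      exact QuadraticAlgebra.ext h' (by rw [hx, hy])
    have hsur : Function.Surjective (hat F) := exists_hat
    have h1 := Subgroup.card_eq_card_quotient_mul_card_subgroup (hat F).ker
    rw [Nat.card_congr (QuotientGroup.quotientKerEquivOfSurjective _ hsur).toEquiv, hcardK] at h1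
    rw [h1] at hk
    refine (Nat.Coprime.pow_left _ ((Nat.prime_three.coprime_iff_not_dvd).2 fun h => h3 (h.trans hker))).dvd_of_dvd_mul_right hk

end CfsgLib.FgsC.LocalBalance.Tri
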