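import Cfsg.Agent.Lib.FgsC.LocalBalance.Triality.Basic
import Cfsg.Agent.Lib.FgsC.LocalBalance.Triality.Units
import Mathlib.LinearAlgebra.Matrix.SpecialLinearGroup
import Mathlib.LinearAlgebra.Matrix.NonsingularInverse

/-!
Automorphisms of the octonion algebra in the four-line model.
-/

set_option autoImplicit false
set_option maxHeartbeats 1000000

namespace CfsgLib.FgsC.LocalBalance.Tri

open Matrix QuadraticMap CfsgLib.Geometry
open CfsgLib.Geometry.Oct (V G8 Q Sim ap Trip pi0)
open scoped QuadraticAlgebra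

variable {F : Type*} [Field F] [Finite F]

/-- An algebra automorphism from a linear map. -/
noncomputable def mkS (L : V F →ₗ[F] V F) (hm : ∀ u v, L (Oct.mul u v) = Oct.mul (L u) (L v))
    (hQ : ∀ v, Q F (L v) = Q F v) : SAut F :=
  ⟨simIncl _ (Oct.mkSim L 1 fun v => by rw [hQ, Units.val_one, one_mul]), fun u v => by
    have h : ∀ w, slAct ((simIncl ⇑(Q F) (Oct.mkSim L 1 fun v => by rw [hQ, Units.val_one, one_mul]) :
        semiSim ⇑(Q F)) : GammaL (Fin 4 ⊕ Fin 4) F) w = L w := fun w =>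
      (slAct_inl _ _).trans (Oct.ap_mkSim L 1 _ w)
    rw [h, h, h, hm]⟩

theorem sact_mkS (L : V F →ₗ[F] V F) (hm : ∀ u v, L (Oct.mul u v) = Oct.mul (L u) (L v))
    (hQ : ∀ v, Q F (L v) = Q F v) (v : V F) : sact (mkS L hm hQ) v = L v :=
  (slAct_inl _ _).trans (Oct.ap_mkSim L 1 _ v)

theorem srho_mkS (L : V F →ₗ[F] V F) (hm : ∀ u v, L (Oct.mul u v) = Oct.mul (L u) (L v))
    (hQ : ∀ v, Q F (L v) = Q F v) : srho (mkS L hm hQ) = 1 := SemidirectProduct.right_inl _

theorem sact_lin_smul {y : SAut F} (h : srho y = 1) (c : F) (v : V F) : sact y (c • v) = c • sact y v := by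
  rw [sact_smul, h]; rfl

theorem sact_pow_one {y : SAut F} (h : y = 1) (v : V F) : sact y v = v := by
  subst h; exact slAct_one v

omit [Finite F] in
theorem Q_hAB (v : V F) : Q F v = (hA v).det + (hB v).det := by
  simp [Oct.Q8_apply, hA, hB, Matrix.det_fin_two]
  ring

omit [Finite F] in
theorem hA_smul (c : F) (v : V F) : hA (c • v) = c • hA v := by
  ext i j; fin_cases i <;> fin_cases j <;> simp [hA]

omit [Finite F] in
theorem hB_smul (c : F) (v : V F) : hB (c • v) = c • hB v := by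
  ext i j; fin_cases i <;> fin_cases j <;> simp [hB]

omit [Finite F] in
theorem hA_add (u v : V F) : hA (u + v) = hA u + hA v := by
  ext i j; fin_cases i <;> fin_cases j <;> simp [hA] <;> ring

omit [Finite F] in
theorem hB_add (u v : V F) : hB (u + v) = hB u + hB v := by
  ext i j; fin_cases i <;> fin_cases j <;> simp [hB] <;> ring

/-- The linear map of a pair of quaternion changes. -/
def lamLin (u : Matrix (Fin 2) (Fin 2) F) : V F →ₗ[F] V F where
  toFun v := ofH (u * hA v * u.adjugate) (hB v * u.adjugate)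
  map_add' a b := by
    rw [hA_add, hB_add, mul_add, add_mul, add_mul]
    exact ext_hAB (by rw [hA_add, hA_ofH, hA_ofH, hA_ofH]) (by rw [hB_add, hB_ofH, hB_ofH, hB_ofH])
  map_smul' c a := by
    rw [RingHom.id_apply, hA_smul, hB_smul, mul_smul_comm, smul_mul_assoc, smul_mul_assoc]
    exact ext_hAB (by rw [hA_smul, hA_ofH, hA_ofH]) (by rw [hB_smul, hB_ofH, hB_ofH])

omit [Finite F] in
theorem lamLin_mul {u : Matrix (Fin 2) (Fin 2) F} (hu : u.det = 1) (x y : V F) :
    lamLin u (Oct.mul x y) = Oct.mul (lamLin u x) (lamLin u y) := by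
  have h1 : u.adjugate * u = 1 := by rw [adjugate_mul, hu, one_smul]
  have h2 : u.adjugate.adjugate = u := by
    rw [adjugate_adjugate _ (by decide), hu, Fintype.card_fin, one_pow, one_smul]
  have h1' : ∀ X, u.adjugate * (u * X) = X := fun X => by rw [← mul_assoc, h1, one_mul]
  simp only [lamLin, LinearMap.coe_mk, AddHom.coe_mk]
  refine ext_hAB ?_ ?_
  · rw [hA_ofH, hA_mul, hA_mul, hA_ofH, hA_ofH, hB_ofH, hB_ofH, adjugate_mul_distrib, h2]
    simp only [mul_sub, sub_mul, mul_assoc, h1']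
  · rw [hB_ofH, hB_mul, hB_mul, hA_ofH, hA_ofH, hB_ofH, hB_ofH, adjugate_mul_distrib, adjugate_mul_distrib, h2]
    simp only [add_mul, mul_assoc, h1']

omit [Finite F] in
theorem lamLin_Q {u : Matrix (Fin 2) (Fin 2) F} (hu : u.det = 1) (v : V F) : Q F (lamLin u v) = Q F v := by
  show Q F (ofH _ _) = _
  rw [Q_hAB, Q_hAB v, hA_ofH, hB_ofH, det_mul, det_mul, det_mul, det_adjugate, hu]
  simp

/-- The automorphisms from the special linear group of the quaternions. -/
noncomputable def lam (u : Matrix (Fin 2) (Fin 2) F) (hu : u.det = 1) : SAut F :=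
  mkS (lamLin u) (lamLin_mul hu) (lamLin_Q hu)

theorem hA_lam (u : Matrix (Fin 2) (Fin 2) F) (hu : u.det = 1) (v : V F) :
    hA (sact (lam u hu) v) = u * hA v * u.adjugate := by rw [lam, sact_mkS]; exact hA_ofH _ _

theorem hB_lam (u : Matrix (Fin 2) (Fin 2) F) (hu : u.det = 1) (v : V F) :
    hB (sact (lam u hu) v) = hB v * u.adjugate := by rw [lam, sact_mkS]; exact hB_ofH _ _

theorem srho_lam (u : Matrix (Fin 2) (Fin 2) F) (hu : u.det = 1) : srho (lam u hu) = 1 := srho_mkS _ _ _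

theorem hA_fldS (σ : F ≃+* F) (v : V F) : hA (sact (fldS σ) v) = (hA v).map σ := by
  rw [sact_fldS]; ext i j; fin_cases i <;> fin_cases j <;> simp [hA]

theorem hB_fldS (σ : F ≃+* F) (v : V F) : hB (sact (fldS σ) v) = (hB v).map σ := by
  rw [sact_fldS]; ext i j; fin_cases i <;> fin_cases j <;> simp [hB]

theorem lam_fldS (σ : F ≃+* F) (u : Matrix (Fin 2) (Fin 2) F) (hu : u.det = 1) (hfix : u.map σ = u) :
    Commute (lam u hu) (fldS σ) := by
  refine saut_ext (by rw [srho_mul, srho_mul, srho_lam, srho_fldS, one_mul, mul_one]) fun v => ?_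
  have ha : u.adjugate.map σ = u.adjugate := by
    conv_rhs => rw [← hfix]
    exact RingHom.map_adjugate (σ : F →+* F) u
  rw [sact_comp, sact_comp]
  refine ext_hAB ?_ ?_
  · rw [hA_lam, hA_fldS, hA_fldS, hA_lam, Matrix.map_mul, Matrix.map_mul, hfix, ha]
  · rw [hB_lam, hB_fldS, hB_fldS, hB_lam, Matrix.map_mul, ha]

/-- The cyclic shift of the three hyperbolic pairs. -/
def shiftLin (F : Type*) [Field F] : V F →ₗ[F] V F where
  toFun v := Sum.elim ![v (.inl 0), v (.inl 3), v (.inl 1), v (.inl 2)] ![v (.inr 0), v (.inr 3), v (.inr 1), v (.inr 2)]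
  map_add' a b := by apply Oct.ext8 <;> simp
  map_smul' c a := by apply Oct.ext8 <;> simp

/-- The automorphism of the cyclic shift. -/
noncomputable def shiftS (F : Type*) [Field F] [Finite F] : SAut F :=
  mkS (shiftLin F) (fun u v => by apply Oct.ext8 <;> simp [shiftLin, Oct.mul] <;> ring)
    (fun v => by simp [shiftLin, Oct.Q8_apply]; ring)

theorem shiftS_fldS (σ : F ≃+* F) : Commute (shiftS F) (fldS σ) := by
  refine saut_ext (by rw [srho_mul, srho_mul, shiftS, srho_mkS, one_mul, mul_one]) fun v => ?_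
  rw [sact_comp, sact_comp, shiftS, sact_mkS, sact_mkS, sact_fldS, sact_fldS]
  apply Oct.ext8 <;> simp [shiftLin]

variable [NotThree F]

/-- The line of the identity. -/
noncomputable def eK (k : KK F) : V F := ofK F (k, 0)

theorem eK_mul (k : KK F) (p : K4 F) : Oct.mul (eK k) (ofK F p) = ofK F (k * p.1, fun i => k * p.2 i) := by
  rw [eK, ofK_mul]
  simp [mul4]

theorem eK_one : eK (1 : KK F) = Oct.one := ofK_one

theorem eK_smul (c : F) (k : KK F) : eK (c • k) = c • eK k := by
  rw [eK, eK, ← map_smul, Prod.smul_mk, smul_zero]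

theorem eK_injective : Function.Injective (eK (F := F)) := fun a b h =>
  congrArg Prod.fst ((ofK F).injective h)

theorem hA_ofK (p : K4 F) : hA (ofK F p) = mkA p.1 (p.2 0) := by rw [ofK_apply, hA_ofH]

theorem hB_ofK (p : K4 F) : hB (ofK F p) = mkA (p.2 1) (star (p.2 2)) := by rw [ofK_apply, hB_ofH]

theorem hB_eq_zero_iff (p : K4 F) : hB (ofK F p) = 0 ↔ p.2 1 = 0 ∧ p.2 2 = 0 := by
  rw [hB_ofK]
  refine ⟨fun h => ⟨(mkA_eq_zero h).1, ?_⟩, fun h => ?_⟩
  · rw [← star_star (p.2 2), (mkA_eq_zero h).2, star_zero]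
  · rw [h.1, h.2, star_zero]; simp [mkA]

/-- The four lines under a field automorphism. -/
def c4 (σ : F ≃+* F) (p : K4 F) : K4 F := (kmap σ p.1, fun i => kmap σ (p.2 i))

theorem mkA_map (σ : F ≃+* F) (k l : KK F) : (mkA k l).map σ = mkA (kmap σ k) (kmap σ l) := by
  have h1 : ∀ z : KK F, (toM F z).map σ = toM F (kmap σ z) := fun z => by
    ext i j; fin_cases i <;> fin_cases j <;> simp [toM]
  have h2 : (jM F).map σ = jM F := by
    ext i j; fin_cases i <;> fin_cases j <;> simp [jM, jg_fix, jb_fix]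
  rw [mkA, Matrix.map_add _ (map_add σ), Matrix.map_mul, h1, h1, h2, mkA]

theorem sact_fldS_ofK (σ : F ≃+* F) (p : K4 F) : sact (fldS σ) (ofK F p) = ofK F (c4 σ p) := by
  refine ext_hAB ?_ ?_
  · rw [hA_fldS, hA_ofK, hA_ofK, mkA_map]; rfl
  · rw [hB_fldS, hB_ofK, hB_ofK, mkA_map, kmap_star]; rfl

theorem saut_ext4 {y z : SAut F} (hr : srho y = srho z) (h : ∀ p, sact y (ofK F p) = sact z (ofK F p)) : y = z :=
  saut_ext hr fun v => by rw [← (ofK F).apply_symm_apply v]; exact h _

/-- Unitary matrices of determinant one. -/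
structure IsSU (U : Matrix (Fin 3) (Fin 3) (KK F)) : Prop where
  unit : (U.map star)ᵀ * U = 1
  det : U.det = 1

/-- The cross product of two triples. -/
def cross (v w : Fin 3 → KK F) : Fin 3 → KK F := fun i => v (i + 1) * w (i + 2) - v (i + 2) * w (i + 1)

omit [Finite F] [NotThree F] in
theorem cross_mulVec (U : Matrix (Fin 3) (Fin 3) (KK F)) (v w : Fin 3 → KK F) :
    cross (U *ᵥ v) (U *ᵥ w) = U.adjugateᵀ *ᵥ cross v w := by
  funext i
  fin_cases i <;>
    simp [cross, Matrix.mulVec, dotProduct, Fin.sum_univ_three, Matrix.adjugate_fin_three] <;> ring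

omit [Finite F] [NotThree F] in
theorem IsSU.cross {U : Matrix (Fin 3) (Fin 3) (KK F)} (h : IsSU U) (v w : Fin 3 → KK F) :
    (fun i => star (cross (U *ᵥ v) (U *ᵥ w) i)) = U *ᵥ fun i => star (cross v w i) := by
  have e : U.adjugate = (U.map star)ᵀ := by
    have h1 : U * (U.map star)ᵀ = 1 := mul_eq_one_comm.1 h.unit
    calc U.adjugate = U.adjugate * (U * (U.map star)ᵀ) := by rw [h1, mul_one]
      _ = _ := by rw [← mul_assoc, adjugate_mul, h.det, one_smul, one_mul]
  rw [cross_mulVec, e, transpose_transpose]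
  funext i
  simp [Matrix.mulVec, dotProduct, Fin.sum_univ_three]

omit [Finite F] [NotThree F] in
theorem IsSU.inner {U : Matrix (Fin 3) (Fin 3) (KK F)} (h : IsSU U) (v w : Fin 3 → KK F) :
    (U *ᵥ v) 0 * star ((U *ᵥ w) 0) + (U *ᵥ v) 1 * star ((U *ᵥ w) 1) + (U *ᵥ v) 2 * star ((U *ᵥ w) 2) =
      v 0 * star (w 0) + v 1 * star (w 1) + v 2 * star (w 2) := by
  have e : ∀ i j, star (U 0 i) * U 0 j + star (U 1 i) * U 1 j + star (U 2 i) * U 2 j = if i = j then 1 else 0 := by
    intro i j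
    have := congrFun (congrFun h.unit i) j
    simpa [Matrix.mul_apply, Fin.sum_univ_three, Matrix.one_apply] using this
  have h00 := e 0 0; have h01 := e 0 1; have h02 := e 0 2
  have h10 := e 1 0; have h11 := e 1 1; have h12 := e 1 2
  have h20 := e 2 0; have h21 := e 2 1; have h22 := e 2 2
  simp only [↓reduceIte, show (0 : Fin 3) ≠ 1 by decide, show (0 : Fin 3) ≠ 2 by decide, show (1 : Fin 3) ≠ 0 by decide,
    show (1 : Fin 3) ≠ 2 by decide, show (2 : Fin 3) ≠ 0 by decide, show (2 : Fin 3) ≠ 1 by decide] at h00 h01 h02 h10 h11 h12 h20 h21 h22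
  simp only [Matrix.mulVec, dotProduct, Fin.sum_univ_three, star_add, star_mul']
  linear_combination star (w 0) * v 0 * h00 + star (w 0) * v 1 * h01 + star (w 0) * v 2 * h02 +
    star (w 1) * v 0 * h10 + star (w 1) * v 1 * h11 + star (w 1) * v 2 * h12 +
    star (w 2) * v 0 * h20 + star (w 2) * v 1 * h21 + star (w 2) * v 2 * h22

/-- The linear map of a matrix on the three lines. -/
noncomputable def suLin (U : Matrix (Fin 3) (Fin 3) (KK F)) : V F →ₗ[F] V F :=
  (ofK F).toLinearMap ∘ₗ (LinearMap.id.prodMap ((Matrix.mulVecLin U).restrictScalars F)) ∘ₗ (ofK F).symm.toLinearMap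

theorem suLin_ofK (U : Matrix (Fin 3) (Fin 3) (KK F)) (p : K4 F) :
    suLin U (ofK F p) = ofK F (p.1, U *ᵥ p.2) := by
  simp [suLin]

theorem suLin_mul {U : Matrix (Fin 3) (Fin 3) (KK F)} (h : IsSU U) (x y : V F) :
    suLin U (Oct.mul x y) = Oct.mul (suLin U x) (suLin U y) := by
  obtain ⟨p, rfl⟩ := (ofK F).surjective x
  obtain ⟨q, rfl⟩ := (ofK F).surjective y
  rw [ofK_mul, suLin_ofK, suLin_ofK, suLin_ofK, ofK_mul]
  congr 1
  refine Prod.ext ?_ ?_
  · show _ = _ - _
    rw [h.inner]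
    rfl
  · show U *ᵥ (fun i => p.1 * q.2 i + p.2 i * star q.1 + star (cross p.2 q.2 i)) =
      fun i => p.1 * (U *ᵥ q.2) i + (U *ᵥ p.2) i * star q.1 + star (cross (U *ᵥ p.2) (U *ᵥ q.2) i)
    have hx := h.cross p.2 q.2
    funext i
    rw [show star (cross (U *ᵥ p.2) (U *ᵥ q.2) i) = (U *ᵥ fun i => star (cross p.2 q.2 i)) i from congrFun hx i]
    simp only [Matrix.mulVec, dotProduct, Fin.sum_univ_three]
    ring

theorem suLin_Q {U : Matrix (Fin 3) (Fin 3) (KK F)} (h : IsSU U) (v : V F) : Q F (suLin U v) = Q F v := by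
  obtain ⟨p, rfl⟩ := (ofK F).surjective v
  rw [suLin_ofK, Q_ofK, Q_ofK]
  congr 1
  refine QuadraticAlgebra.algebraMap_injective (a := (-1 : F)) (b := (-1 : F)) ?_
  simp only [map_add, ← mul_star_eq]
  exact h.inner p.2 p.2

/-- The automorphism of a unitary matrix. -/
noncomputable def suS (U : Matrix (Fin 3) (Fin 3) (KK F)) (h : IsSU U) : SAut F :=
  mkS (suLin U) (suLin_mul h) (suLin_Q h)

theorem sact_suS (U : Matrix (Fin 3) (Fin 3) (KK F)) (h : IsSU U) (p : K4 F) :
    sact (suS U h) (ofK F p) = ofK F (p.1, U *ᵥ p.2) := by rw [suS, sact_mkS, suLin_ofK]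

theorem srho_suS (U : Matrix (Fin 3) (Fin 3) (KK F)) (h : IsSU U) : srho (suS U h) = 1 := srho_mkS _ _ _

omit [Finite F] [NotThree F] in
theorem IsSU.mul {U W : Matrix (Fin 3) (Fin 3) (KK F)} (h : IsSU U) (h' : IsSU W) : IsSU (U * W) := by
  refine ⟨?_, by rw [det_mul, h.det, h'.det, one_mul]⟩
  rw [show (U * W).map star = U.map star * W.map star from Matrix.map_mul (f := (starRingEnd (KK F))),
    transpose_mul, mul_assoc, ← mul_assoc (U.map star)ᵀ, h.unit, one_mul, h'.unit]

theorem suS_mul {U W : Matrix (Fin 3) (Fin 3) (KK F)} (h : IsSU U) (h' : IsSU W) :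
    suS U h * suS W h' = suS (U * W) (h.mul h') := by
  refine saut_ext4 (by rw [srho_mul, srho_suS, srho_suS, srho_suS, one_mul]) fun p => ?_
  rw [sact_comp, sact_suS, sact_suS, sact_suS, mulVec_mulVec]

omit [Finite F] [NotThree F] in
theorem IsSU.map (σ : F ≃+* F) {U : Matrix (Fin 3) (Fin 3) (KK F)} (h : IsSU U) : IsSU (U.map (kmap σ)) := by
  refine ⟨?_, ?_⟩
  · rw [show (U.map (kmap σ)).map star = (U.map star).map (kmap σ) from Matrix.ext fun i j => (kmap_star σ _).symm,
      ← transpose_map, ← Matrix.map_mul, h.unit, Matrix.map_one _ (map_zero _) (map_one _)]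
  · rw [show U.map (kmap σ) = (kmap σ).mapMatrix U from rfl, ← RingHom.map_det, h.det, map_one]

theorem fldS_suS (σ : F ≃+* F) {U : Matrix (Fin 3) (Fin 3) (KK F)} (h : IsSU U) :
    fldS σ * suS U h = suS (U.map (kmap σ)) (h.map σ) * fldS σ := by
  refine saut_ext4 (by rw [srho_mul, srho_mul, srho_suS, srho_suS, srho_fldS, one_mul, mul_one]) fun p => ?_
  rw [sact_comp, sact_comp, sact_suS, sact_fldS_ofK, sact_fldS_ofK, sact_suS]
  congr 1
  refine Prod.ext rfl (funext fun i => ?_)
  exact RingHom.map_mulVec (kmap σ) U p.2 i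

/-- The permutation of the three lines. -/
def wMat (F : Type*) [Field F] : Matrix (Fin 3) (Fin 3) (KK F) := !![0, 1, 0; 0, 0, 1; 1, 0, 0]

/-- The transposition of two lines. -/
def tMat (F : Type*) [Field F] : Matrix (Fin 3) (Fin 3) (KK F) := !![-1, 0, 0; 0, 0, -1; 0, -1, 0]

omit [Finite F] [NotThree F] in
theorem isSU_wMat : IsSU (wMat F) := by
  constructor
  · refine Matrix.ext fun i j => ?_
    fin_cases i <;> fin_cases j <;> simp [wMat, Matrix.mul_apply, Fin.sum_univ_three]
  · simp [wMat, Matrix.det_fin_three]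

omit [Finite F] [NotThree F] in
theorem isSU_tMat : IsSU (tMat F) := by
  constructor
  · refine Matrix.ext fun i j => ?_
    fin_cases i <;> fin_cases j <;> simp [tMat, Matrix.mul_apply, Fin.sum_univ_three]
  · simp [tMat, Matrix.det_fin_three]

/-- The cyclic permutation of the lines. -/
noncomputable def wS (F : Type*) [Field F] [Finite F] [NotThree F] : SAut F := suS (wMat F) isSU_wMat

theorem sact_wS (p : K4 F) : sact (wS F) (ofK F p) = ofK F (p.1, fun i => p.2 (i + 1)) := by
  rw [wS, sact_suS]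
  congr 2
  funext i
  fin_cases i <;> simp [wMat, Matrix.mulVec, dotProduct, Fin.sum_univ_three]

theorem wS_cube : wS F ^ 3 = 1 := by
  refine saut_ext4 (by rw [pow_three, srho_mul, srho_mul, wS, srho_suS]; exact (one_mul _).trans (one_mul _)) fun p => ?_
  rw [pow_three, sact_comp, sact_comp, sact_wS, sact_wS, sact_wS, sact_pow_one rfl]
  congr 2
  funext i
  fin_cases i <;> rfl

theorem wS_fldS (σ : F ≃+* F) : Commute (wS F) (fldS σ) := by
  refine (?_ : fldS σ * wS F = wS F * fldS σ).symm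
  rw [wS, fldS_suS]
  congr 2
  refine Matrix.ext fun i j => ?_
  fin_cases i <;> fin_cases j <;> simp [wMat]

end CfsgLib.FgsC.LocalBalance.Tri
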