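import Cfsg.Agent.Lib.FgsC.LocalBalance.Triality.Gens

/-!
Elements commuting with the triality and with the elements of order three.
-/

set_option autoImplicit false
set_option maxHeartbeats 1000000

namespace CfsgLib.FgsC.LocalBalance.Tri

open Matrix QuadraticMap CfsgLib.Geometry
open CfsgLib.Geometry.Oct (V G8 Q Sim ap Trip pi0 R8)
open scoped QuadraticAlgebra

variable {F : Type*} [Field F] [Finite F]

omit [Finite F] in
theorem eq_smul_one_of_comm (a : V F) (h : ∀ w, Oct.mul a w = Oct.mul w a) : a = a (.inl 0) • Oct.one := by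
  let e : Fin 4 ⊕ Fin 4 → V F := fun i => Pi.single i 1
  have h1 := h (e (.inl 0))
  have h2 := h (e (.inl 1))
  have a1 := congrFun h1 (.inl 1)
  have a2 := congrFun h1 (.inl 2)
  have a3 := congrFun h1 (.inl 3)
  have b1 := congrFun h1 (.inr 1)
  have b2 := congrFun h1 (.inr 2)
  have b3 := congrFun h1 (.inr 3)
  have c0 := congrFun h2 (.inl 1)
  simp [Oct.mul, e] at a1 a2 a3 b1 b2 b3 c0
  apply Oct.ext8 <;> simp [Oct.one, ← a1, ← a2, ← a3, b1, b2, b3, c0]

/-- An element commuting with the triality is an algebra automorphism. -/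
theorem exists_act_of_tau {t : Trip F} {ρ : F ≃+* F} (h : Commute (pi0 F t * phi ρ) (tau F)) :
    ∃ z : SAut F, act F z = pi0 F t * phi ρ := by
  have h1 : pi0 F t * tau F = tau F * pi0 F t := mul_right_cancel (b := phi ρ) (by
    rw [mul_assoc, (tau_phi ρ).eq, ← mul_assoc, h.eq, mul_assoc])
  have h' : pi0 F (rot t) = pi0 F t := by rw [← tau_conj, ← h1, mul_inv_cancel_right]
  obtain ⟨⟨c0, e0⟩, ⟨c1, e1⟩, ⟨c2, e2⟩⟩ := comp_of_pi0_eq h'
  have k2 : ∀ v, ap t.1.2.2 v = (c2 * ((mu t.1.2.1)⁻¹ : Fˣ)) • ap t.1.2.1 v := fun v => by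
    rw [e2, rot_thd, ap_R8_conj, Oct.ap_mul, Oct.ap_scalar, ap_R8_conj, conj_smul, Oct.conj_conj, Oct.conj_conj,
      smul_smul]
  set c : F := c2 * ((mu t.1.2.1)⁻¹ : Fˣ) with hc
  set g0 := t.1.1
  set g1 := t.1.2.1
  have ht : ∀ u v, ap g0 (Oct.mul u v) = Oct.mul (ap g1 u) (ap t.1.2.2 v) := t.2
  have hc0 : c ≠ 0 := fun h0 => Oct.Q_ap_one_ne t.1.2.2 (by rw [k2, h0, zero_smul, map_zero])
  set a := ap g1 (Oct.one : V F) with ha
  have hcomm : ∀ w, Oct.mul a w = Oct.mul w a := fun w => by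
    obtain ⟨v, rfl⟩ : ∃ v, ap g1 v = w := ⟨ap g1⁻¹ w, by rw [← Oct.ap_mul, mul_inv_cancel]; simp [ap]⟩
    have l := ht Oct.one v
    rw [Oct.one_mul', k2, Oct.mul_smul'] at l
    have r := ht v Oct.one
    rw [Oct.mul_one', k2, Oct.mul_smul', l] at r
    exact smul_right_injective (V F) hc0 r
  have hA := eq_smul_one_of_comm a hcomm
  set r := a (.inl 0)
  refine exists_act t ρ ⟨r * (c * r), ?_⟩ ⟨r, hA⟩ ⟨c * r, ?_⟩
  · have l := ht Oct.one Oct.one
    rw [Oct.one_mul', k2, ← ha, hA, Oct.smul_mul', Oct.one_mul', smul_smul, smul_smul] at l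
    exact l.trans (by rw [mul_assoc])
  · rw [k2, ← ha, hA, smul_smul]

theorem comm_phi {z : SAut F} (σ : F ≃+* F) (h : Commute (act F z) (phi σ)) : Commute z (fldS σ) :=
  act_injective (by rw [map_mul, map_mul, act_fldS]; exact h)

variable [NotThree F]

theorem zS_fix_iff (p : K4 F) : sact (zS F) (ofK F p) = ofK F p ↔ p.2 = 0 := by
  rw [sact_zS, (ofK F).injective.eq_iff]
  refine ⟨fun h => funext fun i => ?_, fun h => Prod.ext rfl (funext fun i => by rw [h]; simp)⟩
  have := congrFun (congrArg Prod.snd h) i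
  refine (isUnit_om_sub (F := F)).mul_left_cancel (?_ : _ = (om F - 1) * (0 : Fin 3 → KK F) i)
  simp only at this
  rw [sub_mul, this, one_mul, sub_self, Pi.zero_apply, mul_zero]

theorem zS_fix {v : V F} (h : sact (zS F) v = v) : ∃ k, v = eK k := by
  obtain ⟨p, rfl⟩ := (ofK F).surjective v
  exact ⟨p.1, congrArg _ (Prod.ext rfl ((zS_fix_iff p).1 h))⟩

theorem ofK_zero_fst (p : Fin 3 → KK F) :
    ∃ w, ofK F (0, p) = sact (zS F) w - w := by
  obtain ⟨u, hu⟩ := isUnit_om_sub (F := F)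
  refine ⟨ofK F (0, fun i => ((u⁻¹ : (KK F)ˣ) : KK F) * p i), ?_⟩
  rw [sact_zS, ← map_sub]
  refine congrArg _ (Prod.ext (by simp) (funext fun i => ?_))
  show p i = om F * _ - _
  linear_combination (((u⁻¹ : (KK F)ˣ) : KK F) * p i) * hu - p i * Units.mul_inv u

/-- An automorphism commuting with the first element fixes the root of unity. -/
theorem fix_om {z : SAut F} (h : Commute z (zS F)) : sact z (eK (om F)) = eK (om F) := by
  have hline : ∀ v : V F, ((ofK F).symm v).1 = 0 → sact (zS F) v = Oct.mul (eK (om F)) v := fun v hv => by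
    obtain ⟨p, rfl⟩ := (ofK F).surjective v
    rw [LinearEquiv.symm_apply_apply] at hv
    rw [sact_zS, eK_mul]
    refine congrArg _ (Prod.ext ?_ rfl)
    show p.1 = om F * p.1
    rw [hv, mul_zero]
  set v : V F := ofK F (0, Pi.single 0 1) with hv
  have hzv : ((ofK F).symm (sact z v)).1 = 0 := by
    obtain ⟨w, hw⟩ := ofK_zero_fst (F := F) (Pi.single 0 1)
    rw [hv, hw, sact_sub, ← sact_comp, h.eq, sact_comp, map_sub, Prod.fst_sub]
    obtain ⟨p, hp⟩ := (ofK F).surjective (sact z w)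
    rw [← hp, sact_zS, LinearEquiv.symm_apply_apply, LinearEquiv.symm_apply_apply, sub_self]
  have e : Oct.mul (sact z (eK (om F))) (sact z v) = Oct.mul (eK (om F)) (sact z v) := by
    rw [← sact_mul, ← hline v (by rw [hv]; simp), ← hline _ hzv, ← sact_comp, h.eq, sact_comp]
  have hQ : Q F (sact z v) = 1 := by
    rw [Q_sact, hv, Q_ofK]
    simp
  have e2 := congrArg (fun u => Oct.mul u (Oct.conj (sact z v))) e
  simp only [Oct.mul_conj_cancel] at e2
  change Q F (sact z v) • _ = Q F (sact z v) • _ at e2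
  rwa [hQ, one_smul, one_smul] at e2

theorem eK_add (k l : KK F) : eK (k + l) = eK k + eK l := by
  rw [eK, eK, eK, ← map_add, Prod.mk_add_mk, add_zero]

theorem fix_eK {z : SAut F} (h : sact z (eK (om F)) = eK (om F)) (k : KK F) :
    sact z (eK k) = eK (kmap (srho z) k) := by
  have e : ∀ k : KK F, eK k = k.re • Oct.one + k.im • eK (om F) := fun k => by
    rw [← eK_one, ← eK_smul, ← eK_smul, ← eK_add]
    congr 1
    ext <;> simp [om]
  rw [e k, e (kmap (srho z) k), sact_add, sact_smul, sact_smul, sact_one, h]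
  rfl

/-- Three images of the root of unity generate the algebra. -/
theorem eq_fldS_of_fix {z : SAut F} (h0 : sact z (eK (om F)) = eK (om F))
    (h1 : sact z (sact (shiftS F) (eK (om F))) = sact (shiftS F) (eK (om F)))
    (h2 : sact z (sact (shiftS F) (sact (shiftS F) (eK (om F)))) = sact (shiftS F) (sact (shiftS F) (eK (om F)))) :
    z = fldS (srho z) := by
  refine saut_ext (srho_fldS _).symm fun v => ?_
  let u1 : V F := Sum.elim ![0, 1, 0, 0] ![1, 1, 0, 0]
  let u2 : V F := Sum.elim ![0, 0, 1, 0] ![1, 0, 1, 0]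
  let u3 : V F := Sum.elim ![0, 0, 0, 1] ![1, 0, 0, 1]
  have hsh : ∀ w, sact (shiftS F) w = shiftLin F w := fun w => sact_mkS _ _ _ w
  have e0 : eK (om F) = -u1 := by
    rw [eK_eq_ofH]
    apply Oct.ext8 <;> simp [ofH, toM, om, u1]
  rw [e0] at h0 h1 h2
  have e1 : sact (shiftS F) (-u1) = -u2 := by
    rw [hsh]; apply Oct.ext8 <;> simp [shiftLin, u1, u2]
  have e2 : sact (shiftS F) (-u2) = -u3 := by
    rw [hsh]; apply Oct.ext8 <;> simp [shiftLin, u3, u2]
  rw [e1] at h1 h2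
  rw [e2] at h2
  have hneg : ∀ u, sact z (-u) = -u → sact z u = u := fun u hu => by
    rw [← neg_one_smul F u, sact_smul, map_neg, map_one, neg_one_smul, neg_one_smul] at hu
    exact neg_injective hu
  have f1 := hneg _ h0
  have f2 := hneg _ h1
  have f3 := hneg _ h2
  have f4 : sact z (Oct.mul u1 u2) = Oct.mul u1 u2 := by rw [sact_mul, f1, f2]
  have f5 : sact z (Oct.mul u2 u3) = Oct.mul u2 u3 := by rw [sact_mul, f2, f3]
  have f6 : sact z (Oct.mul u3 u1) = Oct.mul u3 u1 := by rw [sact_mul, f1, f3]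
  have f7 : sact z (Oct.mul (Oct.mul u1 u2) u3) = Oct.mul (Oct.mul u1 u2) u3 := by rw [sact_mul, f4, f3]
  let c : Fin 4 ⊕ Fin 4 → F := v
  have key : ∀ w : V F, (3 : F) • w =
      (3 * w (.inl 0) + w (.inl 1) + w (.inl 2) + w (.inl 3) - w (.inr 1) - w (.inr 2) - w (.inr 3)) • Oct.one +
      (2 * w (.inl 1) + 2 * w (.inl 2) - w (.inl 3) + w (.inr 1) - 2 * w (.inr 2) + w (.inr 3)) • u1 +
      (-2 * w (.inl 1) + w (.inl 2) + w (.inl 3) + 2 * w (.inr 1) + 2 * w (.inr 2) - w (.inr 3)) • u2 +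
      (2 * w (.inl 1) - w (.inl 2) + 2 * w (.inl 3) - 2 * w (.inr 1) + w (.inr 2) + w (.inr 3)) • u3 +
      (-w (.inl 0) + w (.inl 1) - w (.inl 2) + w (.inr 0) - 2 * w (.inr 1) - w (.inr 3)) • Oct.mul u1 u2 +
      (-w (.inl 0) + w (.inl 2) - w (.inl 3) + w (.inr 0) - w (.inr 1) - 2 * w (.inr 2)) • Oct.mul u2 u3 +
      (-w (.inl 0) - 2 * w (.inl 1) - w (.inl 2) + w (.inr 0) + w (.inr 1) - w (.inr 3)) • Oct.mul u3 u1 +
      (-w (.inl 1) - w (.inl 2) - w (.inl 3) + w (.inr 1) + w (.inr 2) + w (.inr 3)) • Oct.mul (Oct.mul u1 u2) u3 := by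
    intro w
    apply Oct.ext8 <;> simp [u1, u2, u3, Oct.mul, Oct.one] <;> ring
  have h := congrArg (sact z) (key v)
  simp only [sact_add, sact_smul, sact_one, f1, f2, f3, f4, f5, f6, f7] at h
  refine smul_right_injective (V F) (three_ne (F := F)) ?_
  rw [show srho z (3 : F) = 3 from map_ofNat _ 3] at h
  show (3 : F) • _ = (3 : F) • _
  rw [h, key (sact (fldS (srho z)) v), sact_fldS]
  simp only [map_add, map_sub, map_mul, map_neg, map_ofNat]

end CfsgLib.FgsC.LocalBalance.Tri
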