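import Cfsg.Agent.Lib.FgsC.LocalBalance.Triality.Diag

/-!
The elements of order three used on the centralisers of triality.
-/

set_option autoImplicit false
set_option maxHeartbeats 1000000

namespace CfsgLib.FgsC.LocalBalance.Tri

open Matrix QuadraticMap CfsgLib.Geometry
open CfsgLib.Geometry.Oct (V G8 Q Sim ap Trip pi0 R8)
open scoped QuadraticAlgebra

variable {F : Type*} [Field F]

theorem om1_mul3 [NotThree F] : om1 F * om1 F * om1 F = 1 := by
  refine Subtype.ext (Units.ext ?_)
  simp only [Subgroup.coe_mul, Units.val_mul, om1_coe, om_cube]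
  rfl

theorem isUnit_om_sub [NotThree F] : IsUnit (om F - 1) :=
  isUnit_of_norm (by
    rw [QuadraticAlgebra.norm_def, om]
    simp
    intro h
    exact three_ne (F := F) (by linear_combination h))

theorem isUnit_om_sq_sub [NotThree F] : IsUnit (star (om F) - 1) := by
  have h := (isUnit_om_sub (F := F)).map (starRingEnd (KK F))
  rwa [map_sub, map_one, starRingEnd_apply] at h

variable [Finite F] [NotThree F]

/-- Linear parameters fixed by the field. -/
theorem k1_dU (σ : F ≃+* F) (i : Fin 3) : k1 σ (![1, om1 F, om1 F * om1 F] i) = ![1, om1 F, om1 F * om1 F] i := by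
  fin_cases i <;> simp [k1_om1]

/-- The automorphism fixing the first line. -/
noncomputable def zS (F : Type*) [Field F] [Finite F] [NotThree F] : SAut F :=
  diagS (fun _ => om1 F) om1_mul3

/-- The automorphism fixing two lines. -/
noncomputable def dS (F : Type*) [Field F] [Finite F] [NotThree F] : SAut F :=
  diagS ![1, om1 F, om1 F * om1 F] (by simpa [mul_assoc] using om1_mul3 (F := F))

theorem srho_zS : srho (zS F) = 1 := by rw [zS, diagS, srho_suS]

theorem srho_dS : srho (dS F) = 1 := by rw [dS, diagS, srho_suS]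

theorem act_zS : act F (zS F) = dg F (1, fun _ => om1 F) := (dg_diag _ _).symm

theorem act_dS : act F (dS F) = dg F (1, ![1, om1 F, om1 F * om1 F]) := (dg_diag _ _).symm

theorem dg_comm (p q : T4 F) : Commute (dg F p) (dg F q) := (Commute.all p q).map (dg F)

theorem phi_dg_comm (σ : F ≃+* F) (p : T4 F) (h : tmap σ p = p) : Commute (phi σ) (dg F p) := by
  refine mul_inv_eq_iff_eq_mul.1 ?_
  rw [phi_dg, h]

theorem phi_zS (σ : F ≃+* F) : Commute (phi σ) (act F (zS F)) := by
  rw [act_zS]
  exact phi_dg_comm σ _ (Prod.ext (map_one (k1 σ)) (funext fun _ => k1_om1 σ))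

theorem phi_dS (σ : F ≃+* F) : Commute (phi σ) (act F (dS F)) := by
  rw [act_dS]
  exact phi_dg_comm σ _ (Prod.ext (map_one (k1 σ)) (funext fun i => k1_dU σ i))

theorem fldS_dS (σ : F ≃+* F) : Commute (fldS σ) (dS F) :=
  act_injective (by rw [map_mul, map_mul, act_fldS]; exact phi_dS σ)

theorem sact_zS (p : K4 F) : sact (zS F) (ofK F p) = ofK F (p.1, fun i => om F * p.2 i) := by
  rw [zS, sact_diagS]
  simp only [om1_coe]

theorem sact_dS (p : K4 F) :
    sact (dS F) (ofK F p) = ofK F (p.1, ![p.2 0, om F * p.2 1, om F * om F * p.2 2]) := by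
  rw [dS, sact_diagS]
  refine congrArg _ (Prod.ext rfl (funext fun i => ?_))
  fin_cases i <;> simp [om1_coe]

theorem sact_add (y : SAut F) (u v : V F) : sact y (u + v) = sact y u + sact y v := slAct_add _ u v

theorem sact_sub (y : SAut F) (u v : V F) : sact y (u - v) = sact y u - sact y v := by
  rw [eq_sub_iff_add_eq, ← sact_add, sub_add_cancel]

theorem Q_sact (y : SAut F) (v : V F) : Q F (sact y v) = srho y (Q F v) := by
  obtain ⟨m, hm⟩ := (y : semiSim ⇑(Q F)).2
  have hm1 := hm Oct.one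
  rw [show slAct _ (Oct.one : V F) = Oct.one from sact_one y, Oct.Q8_one, map_one, mul_one] at hm1
  rw [sact, hm v, ← hm1, one_mul]
  rfl

theorem mkA_toM_mul (c k l : KK F) : toM F c * mkA k l = mkA (c * k) (c * l) := by
  rw [mkA, mkA, mul_add, map_mul, map_mul, mul_assoc]

theorem mkA_mul_toM (c k l : KK F) : mkA k l * toM F c = mkA (k * c) (l * star c) := by
  rw [mkA, mkA, add_mul, map_mul, map_mul, mul_assoc (toM F l), jM_toM, ← mul_assoc]

theorem hA_dS (v : V F) : hA (sact (dS F) v) = hA v := by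
  obtain ⟨p, rfl⟩ := (ofK F).surjective v
  rw [sact_dS, hA_ofK, hA_ofK]
  simp

theorem hB_dS (v : V F) : hB (sact (dS F) v) = toM F (om F) * hB v := by
  obtain ⟨p, rfl⟩ := (ofK F).surjective v
  rw [sact_dS, hB_ofK, hB_ofK, mkA_toM_mul]
  simp only [Matrix.cons_val, star_mul', ← om_sq]
  rw [show om F * om F * (om F * om F) = om F by rw [← mul_assoc, om_cube, one_mul]]

theorem hA_zero : hA (0 : V F) = 0 := by ext i j; fin_cases i <;> fin_cases j <;> simp [hA]

theorem hB_zero : hB (0 : V F) = 0 := by ext i j; fin_cases i <;> fin_cases j <;> simp [hB]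

theorem hA_sub (u v : V F) : hA (u - v) = hA u - hA v := by
  rw [eq_sub_iff_add_eq, ← hA_add, sub_add_cancel]

theorem hB_sub (u v : V F) : hB (u - v) = hB u - hB v := by
  rw [eq_sub_iff_add_eq, ← hB_add, sub_add_cancel]

theorem dS_fix_iff (v : V F) : sact (dS F) v = v ↔ hB v = 0 := by
  constructor
  · intro h
    have e := congrArg hB h
    rw [hB_dS] at e
    obtain ⟨w, hw⟩ := isUnit_om_sub (F := F)
    have : toM F (om F - 1) * hB v = 0 := by rw [map_sub, map_one, sub_mul, one_mul, e, sub_self]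
    have h2 := congrArg (fun z => toM F ((w⁻¹ : (KK F)ˣ) : KK F) * z) this
    simpa [← mul_assoc, ← map_mul, ← hw] using h2
  · exact fun h => ext_hAB (hA_dS v) (by rw [hB_dS, h, mul_zero])

theorem hB_zS (v : V F) : hB (sact (zS F) v) = hB v * toM F (om F) := by
  obtain ⟨p, rfl⟩ := (ofK F).surjective v
  rw [sact_zS, hB_ofK, hB_ofK, mkA_mul_toM]
  simp only [star_mul']
  rw [mul_comm (om F), mul_comm (star (om F))]

theorem eK_eq_ofH (k : KK F) : eK k = ofH (toM F k) 0 := by
  refine ext_hAB ?_ ?_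
  · rw [hA_ofH, eK, hA_ofK]; simp [mkA]
  · rw [hB_ofH, eK, hB_ofK]; simp [mkA]

theorem hA_eK (k : KK F) : hA (eK k) = toM F k := by rw [eK_eq_ofH, hA_ofH]

theorem hB_eK (k : KK F) : hB (eK k) = 0 := by rw [eK_eq_ofH, hB_ofH]

theorem mul_a_b (X B : Matrix (Fin 2) (Fin 2) F) : Oct.mul (ofH X 0) (ofH 0 B) = ofH 0 (B * X) := by
  refine ext_hAB ?_ ?_
  · rw [hA_mul, hA_ofH, hA_ofH, hA_ofH, hB_ofH, hB_ofH]; simp
  · rw [hB_mul, hA_ofH, hA_ofH, hB_ofH, hB_ofH, hB_ofH]; simp

/-- The multiplication by the cube root of unity as a diagonal element. -/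
noncomputable def Ld (F : Type*) [Field F] [Finite F] [NotThree F] : MulAut (G8 F) := dg F (om1 F, 1)

theorem phi_Ld (σ : F ≃+* F) : Commute (phi σ) (Ld F) :=
  phi_dg_comm σ _ (Prod.ext (k1_om1 σ) (funext fun _ => map_one (k1 σ)))

theorem Ld_tau : Ld F * tau F = tau F * act F (zS F) * Ld F := by
  have h := tau_dg (F := F) (om1 F, fun _ => om1 F)
  have e : trot (F := F) (om1 F, fun _ => om1 F) = (om1 F, 1) := by
    refine Prod.ext ?_ (funext fun i => ?_) <;>
      simp only [trot, om1_mul3, one_mul, mul_inv_cancel, Pi.one_apply]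
  rw [e, show dg F (om1 F, 1) = Ld F from rfl] at h
  conv_lhs => rw [← h]
  rw [inv_mul_cancel_right, mul_assoc, act_zS, Ld, ← map_mul]
  simp

theorem Ld_cube : Ld F ^ 3 = 1 := by
  rw [Ld, ← map_pow, show ((om1 F, 1) : T4 F) ^ 3 = 1 from Prod.ext om1_cube (one_pow _), map_one]

theorem act_Ld_comm {z : SAut F} (h : sact z (eK (om F)) = eK (om F)) : Commute (act F z) (Ld F) := by
  obtain ⟨w, hw⟩ := isUnit_om (F := F)
  have hh : hat F (su F w) = om1 F := Subtype.ext (Units.ext (by
    rw [hat_coe, su_su, om1_coe, div_eq_mul_inv, Units.val_mul, su_coe]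
    refine w.isUnit.mul_right_cancel ?_
    rw [mul_assoc, Units.inv_mul, mul_one, hw, om_sq]))
  refine mul_inv_eq_iff_eq_mul.1 (act_conj_dg z (om1 F, 1) (om1 F, 1) (su F w) (su F w) hh hh fun q => ?_)
  have hlm : ∀ v, ap (dSim (su F w) 1) v = Oct.mul (eK (star (om F))) v := fun v => by
    obtain ⟨p, rfl⟩ := (ofK F).surjective v
    rw [ap_dSim, eK_mul, su_coe, hw]
    simp
  have h2 : sact z (eK (star (om F))) = eK (star (om F)) := by
    rw [← om_sq, show eK (om F * om F) = Oct.mul (eK (om F)) (eK (om F)) by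
      conv_rhs => arg 2; rw [eK]
      rw [eK_mul, eK]
      simp
      rfl, sact_mul, h]
  rw [hlm, hlm, sact_mul, h2]

end CfsgLib.FgsC.LocalBalance.Tri
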