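import Cfsg.Agent.Lib.FgsC.LocalBalance.Triality.Fix
import Cfsg.Agent.Lib.Classical.PSLSimple
import Cfsg.Agent.Lib.Coprime.Action2
import Cfsg.Agent.Lib.KnownB.PSpAut.Core

/-!
The groups of order prime to three centralising a triality and a field automorphism.
-/

set_option autoImplicit false
set_option maxHeartbeats 1000000

namespace CfsgLib.FgsC.LocalBalance.Tri

open Matrix QuadraticMap CfsgLib.Geometry
open CfsgLib.Geometry.Oct (V G8 Q Sim ap Trip pi0 R8)
open scoped QuadraticAlgebra MatrixGroups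

theorem exists_three_elt : ∀ A : Matrix (Fin 2) (Fin 2) (ZMod 2), A.det = 1 → A ≠ 1 →
    (A = !![0, -1; 1, -1] ∨ A = !![-1, 1; -1, 0]) ∨
    ∃ B : Matrix (Fin 2) (Fin 2) (ZMod 2), B.det = 1 ∧
      (A * B * A.adjugate * B.adjugate = !![0, -1; 1, -1] ∨ A * B * A.adjugate * B.adjugate = !![-1, 1; -1, 0]) := by
  decide +kernel

/-- A matrix of order three. -/
def u3 (K : Type*) [Field K] : SL(2, K) := ⟨!![0, -1; 1, -1], by simp [Matrix.det_fin_two]⟩

theorem map_coe {R S : Type*} [CommRing R] [CommRing S] (f : R →+* S) (g : SL(2, R)) (i j : Fin 2) :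
    (Matrix.SpecialLinearGroup.map f g : Matrix (Fin 2) (Fin 2) S) i j = f ((g : Matrix (Fin 2) (Fin 2) R) i j) := rfl

theorem u3_coe (K : Type*) [Field K] : (u3 K : Matrix (Fin 2) (Fin 2) K) = !![0, -1; 1, -1] := rfl

theorem u3_inv_coe : ((u3 (ZMod 2))⁻¹).1 = !![-1, 1; -1, 0] := by
  rw [Matrix.SpecialLinearGroup.coe_inv]; decide

theorem normal_le_center {K : Type*} [Field K] [Finite K] (h3 : (3 : K) ≠ 0) (R : Subgroup SL(2, K)) [R.Normal]
    (hu : u3 K ∉ R) : R ≤ Subgroup.center SL(2, K) := by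
  classical
  by_cases h4 : 4 ≤ Nat.card K
  · rcases CfsgLib.Classical.normal_SL_le_center_or_eq_top
      (CfsgLib.Classical.SL_fin_commutator_eq_top 2 le_rfl fun _ => h4) R with h | h
    · exact h
    · exact absurd (h ▸ Subgroup.mem_top _) hu
  haveI := Fintype.ofFinite K
  have hcard : Nat.card K = 2 := by
    have h1 : 1 < Nat.card K := Finite.one_lt_card
    rcases (show Nat.card K = 2 ∨ Nat.card K = 3 by omega) with h | h
    · exact h
    · exfalso
      refine h3 ?_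
      have := FiniteField.cast_card_eq_zero K
      rw [← Nat.card_eq_fintype_card, h] at this
      simpa using this
  let e : ZMod 2 ≃+* K := ZMod.ringEquivOfPrime K Nat.prime_two (by rw [← Nat.card_eq_fintype_card, hcard])
  intro u hu'
  by_contra hc
  let f : SL(2, ZMod 2) →* SL(2, K) := Matrix.SpecialLinearGroup.map e.toRingHom
  obtain ⟨u', rfl⟩ : ∃ u', f u' = u := ⟨Matrix.SpecialLinearGroup.map e.symm.toRingHom u,
    Subtype.ext (Matrix.ext fun i j => e.apply_symm_apply _)⟩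
  have h2 : (-1 : K) = 1 := by rw [← map_one e, ← map_neg]; exact congrArg e (by decide)
  have hf : f (u3 (ZMod 2)) = u3 K :=
    Subtype.ext (Matrix.ext fun i j => by fin_cases i <;> fin_cases j <;> simp [f, u3_coe, map_coe, h2])
  have hf' : f (u3 (ZMod 2))⁻¹ = (u3 K)⁻¹ := by rw [map_inv, hf]
  have hne : u' ≠ 1 := fun h => hc (by rw [h, map_one]; exact one_mem _)
  obtain (h | h) | ⟨B, hB, h⟩ := exists_three_elt u'.1 u'.2 fun h => hne (Subtype.ext h)
  · exact hu (hf ▸ (Subtype.ext h : u' = u3 (ZMod 2)) ▸ hu')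
  · exact hu (inv_mem_iff.1 (hf' ▸ (Subtype.ext (h.trans u3_inv_coe.symm) : u' = (u3 (ZMod 2))⁻¹) ▸ hu'))
  obtain ⟨g, rfl⟩ : ∃ g : SL(2, ZMod 2), g.1 = B := ⟨⟨B, hB⟩, rfl⟩
  replace h : u' * g * u'⁻¹ * g⁻¹ = u3 (ZMod 2) ∨ u' * g * u'⁻¹ * g⁻¹ = (u3 (ZMod 2))⁻¹ :=
    h.imp (fun h => Subtype.ext h) (fun h => Subtype.ext (h.trans u3_inv_coe.symm))
  rcases h with h | h
  all_goals
    have hm : f (u' * g * u'⁻¹ * g⁻¹) ∈ R := by
      rw [map_mul, map_mul, map_mul, map_inv, map_inv, mul_assoc, mul_assoc, ← mul_assoc (f g)]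
      exact mul_mem hu' (‹R.Normal›.conj_mem _ (inv_mem hu') (f g))
  · exact hu (hf ▸ h ▸ hm)
  · exact hu (inv_mem_iff.1 (hf' ▸ h ▸ hm))

variable {F : Type*} [Field F] [Finite F]

theorem srho_zpow_fix {σ ρ : F ≃+* F} (hσ3 : σ ^ 3 = 1) {n : ℕ} (hn : n.Coprime 3) (hρn : ρ ^ n = 1)
    (h : ∀ a, σ a = a → ρ a = a) : ρ = 1 := by
  obtain ⟨i, rfl⟩ := Subgroup.mem_zpowers_iff.1 (CfsgLib.KnownB.PSpAut.mem_zpowers_of_fix σ ρ h)
  have h3 : (σ ^ i) ^ 3 = 1 := by
    rw [← zpow_natCast, ← _root_.zpow_mul, mul_comm, _root_.zpow_mul, zpow_natCast, hσ3, _root_.one_zpow]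
  have := pow_gcd_eq_one.2 ⟨hρn, h3⟩
  rwa [hn, pow_one] at this

theorem srho_pow (z : SAut F) (n : ℕ) : srho (z ^ n) = srho z ^ n := by
  induction n with
  | zero => rfl
  | succ k ih => rw [pow_succ, pow_succ, srho_mul, ih]

/-- The special linear group of the quaternions in the automorphisms. -/
noncomputable def lamHom (F : Type*) [Field F] [Finite F] : SL(2, F) →* SAut F :=
  MonoidHom.mk' (fun u => lam u.1 u.2) fun u w => saut_ext (by rw [srho_mul, srho_lam, srho_lam, srho_lam, one_mul])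
    fun v => by
      rw [sact_comp]
      refine ext_hAB ?_ ?_
      · rw [hA_lam, hA_lam, hA_lam, Matrix.SpecialLinearGroup.coe_mul, adjugate_mul_distrib]
        simp only [mul_assoc]
      · rw [hB_lam, hB_lam, hB_lam, Matrix.SpecialLinearGroup.coe_mul, adjugate_mul_distrib, mul_assoc]

theorem lamHom_A (u : SL(2, F)) (X : Matrix (Fin 2) (Fin 2) F) :
    sact (lamHom F u) (ofH X 0) = ofH (u.1 * X * u.1.adjugate) 0 := by
  refine ext_hAB ?_ ?_
  · exact (hA_lam u.1 u.2 _).trans (by rw [hA_ofH, hA_ofH])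
  · exact (hB_lam u.1 u.2 _).trans (by rw [hB_ofH, hB_ofH, zero_mul])

theorem act_lam_mem (u : SL(2, F)) : act F (lamHom F u) ∈ (pi0 F).range :=
  act_mem_range_pi0 (srho_lam _ u.2)

variable [NotThree F]

theorem lam_dS (u : SL(2, F)) : Commute (lamHom F u) (dS F) := by
  refine saut_ext (by rw [srho_mul, srho_mul, srho_dS, mul_one, one_mul]) fun v => ?_
  rw [sact_comp, sact_comp]
  refine ext_hAB ?_ ?_
  · rw [hA_dS]
    exact ((hA_lam u.1 u.2 _).trans (by rw [hA_dS])).trans (hA_lam u.1 u.2 _).symm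
  · rw [hB_dS]
    exact (hB_lam u.1 u.2 _).trans (by rw [hB_dS, mul_assoc]; exact congrArg _ (hB_lam u.1 u.2 _).symm)

theorem Ld_inv_tau : ∀ n : ℕ, (Ld F)⁻¹ ^ n * tau F = tau F * (act F (zS F))⁻¹ ^ n * (Ld F)⁻¹ ^ n := by
  have hc : Commute (Ld F) (act F (zS F)) := by rw [act_zS]; exact dg_comm _ _
  have h1 : (Ld F)⁻¹ * tau F = tau F * (act F (zS F))⁻¹ * (Ld F)⁻¹ := by
    rw [inv_mul_eq_iff_eq_mul, ← mul_assoc, ← mul_assoc, Ld_tau, mul_assoc (tau F), ← hc.eq, ← mul_assoc,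
      mul_inv_cancel_right, mul_inv_cancel_right]
  intro n
  induction n with
  | zero => simp
  | succ k ih =>
    rw [pow_succ', mul_assoc, ih, ← mul_assoc, ← mul_assoc, h1, mul_assoc (tau F * _) (Ld F)⁻¹,
      (hc.inv_inv.pow_right k).eq, pow_succ']
    simp only [mul_assoc]

/-- The element moving the second element of order three. -/
noncomputable def Wd (F : Type*) [Field F] [Finite F] [NotThree F] (e : ℕ) : MulAut (G8 F) :=
  (Ld F)⁻¹ ^ e * act F (wS F)

theorem wS_zS_conj : act F (wS F) * act F (zS F) * (act F (wS F))⁻¹ = act F (zS F) := by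
  rw [act_zS, wS_dg]; rfl

theorem wS_dS_conj : act F (wS F) * act F (dS F) * (act F (wS F))⁻¹ = act F (dS F) * act F (zS F) := by
  rw [act_dS, wS_dg, act_zS, ← map_mul]
  refine congrArg _ (Prod.ext (one_mul _).symm (funext fun i => ?_))
  fin_cases i
  · simp [tcyc]
  · simp [tcyc]
  · simp [tcyc, om1_mul3]

theorem Ld_inv_comm (e : ℕ) (p : T4 F) : Commute ((Ld F)⁻¹ ^ e) (dg F p) :=
  (dg_comm _ p).inv_left.pow_left e

theorem Wd_dS (e : ℕ) : Wd F e * act F (dS F) * (Wd F e)⁻¹ = act F (dS F) * act F (zS F) := by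
  have h : Commute ((Ld F)⁻¹ ^ e) (act F (dS F) * act F (zS F)) := by
    rw [act_dS, act_zS, ← map_mul]; exact Ld_inv_comm _ _
  rw [Wd, _root_.mul_inv_rev]
  calc _ = (Ld F)⁻¹ ^ e * (act F (wS F) * act F (dS F) * (act F (wS F))⁻¹) * ((Ld F)⁻¹ ^ e)⁻¹ := by group
    _ = _ := by rw [wS_dS_conj, h.eq, mul_inv_cancel_right]

theorem Wd_zS (e : ℕ) : Wd F e * act F (zS F) * (Wd F e)⁻¹ = act F (zS F) := by
  have h : Commute ((Ld F)⁻¹ ^ e) (act F (zS F)) := by rw [act_zS]; exact Ld_inv_comm _ _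
  rw [Wd, _root_.mul_inv_rev]
  calc _ = (Ld F)⁻¹ ^ e * (act F (wS F) * act F (zS F) * (act F (wS F))⁻¹) * ((Ld F)⁻¹ ^ e)⁻¹ := by group
    _ = _ := by rw [wS_zS_conj, h.eq, mul_inv_cancel_right]

theorem Wd_comm (e : ℕ) : Commute (Wd F e) (tau F * act F (dS F) ^ e) := by
  have hw : act F (wS F) * act F (dS F) ^ e = (act F (dS F) * act F (zS F)) ^ e * act F (wS F) := by
    rw [← mul_inv_eq_iff_eq_mul, ← wS_dS_conj, conj_pow]
  have hdz : Commute (act F (dS F)) (act F (zS F)) := by rw [act_dS, act_zS]; exact dg_comm _ _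
  have hLd : Commute ((Ld F)⁻¹ ^ e) (act F (dS F) ^ e) := by
    rw [act_dS]; exact (Ld_inv_comm e _).pow_right e
  have hLz : Commute ((Ld F)⁻¹ ^ e) (act F (zS F) ^ e) := by
    rw [act_zS]; exact (Ld_inv_comm e _).pow_right e
  rw [hdz.mul_pow] at hw
  have h1 := Ld_inv_tau (F := F) e
  rw [inv_pow (act F (zS F))] at h1
  have hbc := hdz.pow_pow e e
  have hwt := (tau_act (wS F)).eq
  rw [Wd]
  generalize (Ld F)⁻¹ ^ e = a at *
  generalize act F (dS F) ^ e = b at *
  generalize act F (zS F) ^ e = c at *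
  generalize act F (wS F) = w at *
  calc a * w * (tau F * b) = a * (w * tau F) * b := by simp only [mul_assoc]
    _ = a * tau F * (w * b) := by rw [← hwt]; simp only [mul_assoc]
    _ = tau F * c⁻¹ * (a * (b * c)) * w := by rw [hw, h1]; simp only [mul_assoc]
    _ = tau F * c⁻¹ * (c * b * a) * w := by rw [(hLd.mul_right hLz).eq, hbc.eq]
    _ = tau F * b * (a * w) := by simp only [mul_assoc, inv_mul_cancel_left]

theorem Wd_phi (e : ℕ) (σ : F ≃+* F) : Commute (Wd F e) (phi σ) :=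
  (((phi_Ld σ).symm).inv_left.pow_left e).mul_left (act_fldS σ ▸ (wS_fldS σ).map (act F))

theorem Wd_mem (e : ℕ) : Wd F e ∈ (pi0 F).range :=
  mul_mem (pow_mem (inv_mem (dg_mem_range_pi0 _)) e) (act_mem_range_pi0 srho_wS)

theorem Wd_act (e : ℕ) {z : SAut F} (h : sact z (eK (om F)) = eK (om F)) :
    Wd F e * act F z * (Wd F e)⁻¹ = act F (wS F * z * (wS F)⁻¹) := by
  have h' : sact (wS F * z * (wS F)⁻¹) (eK (om F)) = eK (om F) := by
    have hw : sact (wS F) (eK (om F)) = eK (om F) := by rw [eK, sact_wS]; rfl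
    have hw' : sact (wS F)⁻¹ (eK (om F)) = eK (om F) := by
      conv_lhs => rw [← hw, ← sact_comp, inv_mul_cancel]
      exact slAct_one _
    rw [sact_comp, sact_comp, hw', h, hw]
  rw [Wd, _root_.mul_inv_rev]
  calc _ = (Ld F)⁻¹ ^ e * (act F (wS F * z * (wS F)⁻¹)) * ((Ld F)⁻¹ ^ e)⁻¹ := by
        rw [map_mul, map_mul, map_inv]; group
    _ = _ := by rw [((act_Ld_comm h').inv_right.pow_right e).symm.eq, mul_inv_cancel_right]

section Lin

variable (σ : F ≃+* F) (e : ℕ) (M : Subgroup (MulAut (G8 F)))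

/-- The hypotheses on the group. -/
structure LinHyp : Prop where
  sigma : σ ^ 3 = 1
  card : (Nat.card M).Coprime 3
  tau_comm : ∀ y ∈ M, Commute y (tau F * act F (dS F) ^ e)
  phi_comm : ∀ y ∈ M, Commute y (phi σ)
  normal : ∀ g ∈ (pi0 F).range, Commute g (tau F * act F (dS F) ^ e) → Commute g (phi σ) →
    ∀ y ∈ M, g * y * g⁻¹ ∈ M

variable {σ e M}

omit [NotThree F] in
theorem coprime_orderOf {G : Type*} [Group G] {M : Subgroup G} {n : ℕ} (h : (Nat.card M).Coprime n) {y : G}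
    (hy : y ∈ M) : (orderOf y).Coprime n :=
  h.coprime_dvd_left ((Subgroup.orderOf_coe (⟨y, hy⟩ : M)).symm ▸ orderOf_dvd_natCard _)

theorem LinHyp.exists_act (H : LinHyp σ e M) {y : MulAut (G8 F)} (hy : y ∈ M) (hd : Commute y (act F (dS F))) :
    ∃ z : SAut F, act F z = y ∧ Commute z (dS F) ∧ Commute z (fldS σ) := by
  have hτ : Commute y (tau F) := by
    have := (H.tau_comm y hy).mul_right (hd.pow_right e).inv_right
    rwa [mul_inv_cancel_right] at this
  obtain ⟨t₀, ht₀⟩ := act_mem_range_pi0 (y := dS F ^ e) (by rw [srho_pow, srho_dS, one_pow])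
  have hc : Commute y (pi0 F t₀ * tau F * phi σ) := by
    rw [ht₀, map_pow]
    exact (((hd.pow_right e).mul_right hτ)).mul_right (H.phi_comm y hy)
  obtain ⟨t, ρ, rfl⟩ := exists_decomp (coprime_orderOf H.card hy) hc.eq
  obtain ⟨z, hz⟩ := exists_act_of_tau hτ
  refine ⟨z, hz, act_injective ?_, comm_phi σ (hz ▸ H.phi_comm _ hy)⟩
  rw [map_mul, map_mul, hz]; exact hd

theorem LinHyp.fix_a (H : LinHyp σ e M) {y : MulAut (G8 F)} (hy : y ∈ M) (hd : Commute y (act F (dS F))) :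
    ∃ z : SAut F, act F z = y ∧ srho z = 1 ∧ (∀ X, sact z (ofH X 0) = ofH X 0) ∧ Commute z (zS F) := by
  obtain ⟨z, hz, hzd, hzσ⟩ := H.exists_act hy hd
  -- the quaternion part
  let Zr : Matrix (Fin 2) (Fin 2) F → Matrix (Fin 2) (Fin 2) F := fun X => hA (sact z (ofH X 0))
  have hZ : ∀ X, sact z (ofH X 0) = ofH (Zr X) 0 := fun X => by
    refine ext_hAB (by rw [hA_ofH]) ?_
    rw [hB_ofH, ← dS_fix_iff, ← sact_comp, ← hzd.eq, sact_comp, (dS_fix_iff _).2 (hB_ofH _ _)]
  let S : Subgroup (SAut F) := (M ⊓ Subgroup.centralizer {act F (dS F)}).comap (act F)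
  have hS : ∀ w, w ∈ S ↔ act F w ∈ M ∧ Commute (act F w) (act F (dS F)) := fun w =>
    ⟨fun h => ⟨h.1, Subgroup.mem_centralizer_singleton_iff.1 h.2⟩,
      fun h => ⟨h.1, Subgroup.mem_centralizer_singleton_iff.2 h.2⟩⟩
  have hzS : z ∈ S := (hS z).2 (hz.symm ▸ ⟨hy, hd⟩)
  let K := RingHom.eqLocusField (σ : F →+* F) (RingHom.id F)
  haveI : Finite K := Finite.of_injective K.subtype K.subtype.injective
  let ι : SL(2, K) →* SL(2, F) := Matrix.SpecialLinearGroup.map K.subtype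
  have hισ : ∀ u : SL(2, K), (ι u).1.map σ = (ι u).1 := fun u => Matrix.ext fun i j => (u.1 i j).2
  have hnorm : ∀ u : SL(2, K), ∀ w ∈ S, lamHom F (ι u) * w * (lamHom F (ι u))⁻¹ ∈ S := by
    intro u w hw
    obtain ⟨h1, h2⟩ := (hS w).1 hw
    have hd' : Commute (act F (lamHom F (ι u))) (act F (dS F)) := (lam_dS _).map (act F)
    refine (hS _).2 ⟨?_, ?_⟩
    · rw [map_mul, map_mul, map_inv]
      exact H.normal _ (act_lam_mem _) ((tau_act _).symm.mul_right (hd'.pow_right e))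
        (act_fldS σ ▸ (lam_fldS σ (ι u).1 (ι u).2 (hισ u)).map (act F)) _ h1
    · rw [map_mul, map_mul, map_inv]
      exact (hd'.mul_left h2).mul_left hd'.inv_left
  let R : Subgroup SL(2, K) :=
    { carrier := {u | ∃ w ∈ S, ∀ X, sact w (ofH X 0) = sact (lamHom F (ι u)) (ofH X 0)}
      one_mem' := ⟨1, one_mem S, fun X => by rw [map_one ι, map_one]⟩
      mul_mem' := by
        rintro u u' ⟨w, hw, h⟩ ⟨w', hw', h'⟩
        refine ⟨w * w', mul_mem hw hw', fun X => ?_⟩
        rw [map_mul, map_mul, sact_comp, sact_comp, h', lamHom_A, h]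
      inv_mem' := by
        rintro u ⟨w, hw, h⟩
        refine ⟨w⁻¹, inv_mem hw, fun X => ?_⟩
        obtain ⟨Y, hY⟩ : ∃ Y, sact (lamHom F (ι u⁻¹)) (ofH X 0) = ofH Y 0 := ⟨_, lamHom_A _ _⟩
        rw [hY]
        have e1 : sact w (ofH Y 0) = ofH X 0 := by
          rw [h, ← hY, map_inv, map_inv, ← sact_comp, mul_inv_cancel]
          exact slAct_one _
        conv_lhs => rw [← e1, ← sact_comp, inv_mul_cancel]
        exact slAct_one _ }
  haveI hR : R.Normal := ⟨fun u hu g => by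
    obtain ⟨w, hw, h⟩ := hu
    refine ⟨_, hnorm g w hw, fun X => ?_⟩
    obtain ⟨Y, hY⟩ : ∃ Y, sact (lamHom F (ι g))⁻¹ (ofH X 0) = ofH Y 0 := ⟨_, by rw [← map_inv]; exact lamHom_A _ _⟩
    rw [sact_comp, sact_comp, hY, h, ← hY, map_mul, map_mul, map_mul, map_mul, map_inv, map_inv, sact_comp, sact_comp]⟩
  have h3 : (3 : K) ≠ 0 := fun h => three_ne (F := F) (by
    have := congrArg K.subtype h
    rwa [map_ofNat, map_zero] at this)
  have hu : u3 K ∉ R := by
    rintro ⟨w, hw, h⟩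
    obtain ⟨hwM, -⟩ := (hS w).1 hw
    have hk : ∀ k : ℕ, ∀ X, sact (w ^ k) (ofH X 0) = sact (lamHom F (ι (u3 K)) ^ k) (ofH X 0) := by
      intro k
      induction k with
      | zero => intro X; simp only [pow_zero]
      | succ k ih =>
        intro X
        rw [pow_succ, pow_succ, sact_comp, sact_comp, h, lamHom_A, ih]
    have hn : w ^ orderOf (act F w) = 1 := act_injective (by rw [map_pow, pow_orderOf_eq_one, map_one])
    have hcop := coprime_orderOf H.card hwM
    set u := (ι (u3 K)) with hu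
    have hu3 : u ^ 3 = 1 := by
      refine Subtype.ext (Matrix.ext fun i j => ?_)
      rw [hu, pow_three]
      fin_cases i <;> fin_cases j <;>
        simp [ι, u3_coe, map_coe, Matrix.mul_apply, Fin.sum_univ_two]
    have hmod : u ^ orderOf (act F w) = u ^ (orderOf (act F w) % 3) := by
      conv_lhs => rw [← Nat.mod_add_div (orderOf (act F w)) 3, pow_add, pow_mul, hu3, one_pow, mul_one]
    have hX := hk (orderOf (act F w)) !![1, 0; 0, 0]
    rw [hn, ← map_pow, hmod, lamHom_A] at hX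
    have hX' := congrArg hA ((slAct_one _).symm.trans hX)
    rw [hA_ofH, hA_ofH] at hX'
    have hne : orderOf (act F w) % 3 ≠ 0 := fun h0 => absurd
      (Nat.Coprime.eq_one_of_dvd (Nat.coprime_comm.1 hcop) (Nat.dvd_of_mod_eq_zero h0)) (by norm_num)
    have hlt : orderOf (act F w) % 3 < 3 := Nat.mod_lt _ (by norm_num)
    have h00 := congrFun (congrFun hX' 0) 0
    have h11 := congrFun (congrFun hX' 1) 1
    interval_cases hk' : orderOf (act F w) % 3
    · exact hne rfl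
    all_goals simp [hu, ι, u3_coe, map_coe, pow_two, Matrix.mul_apply, Fin.sum_univ_two, Matrix.adjugate_fin_two] at h00 h11
  have hcen := normal_le_center h3 R hu
  have hadd : ∀ A B, Zr (A + B) = Zr A + Zr B := fun A B => by
    show hA _ = _
    rw [show ofH (A + B) 0 = ofH A 0 + ofH B (0 : Matrix (Fin 2) (Fin 2) F) from
      ext_hAB (by rw [hA_add, hA_ofH, hA_ofH, hA_ofH]) (by rw [hB_add, hB_ofH, hB_ofH, hB_ofH, add_zero]),
      sact_add, hA_add]
  have hsmul : ∀ (a : F) A, Zr (a • A) = srho z a • Zr A := fun a A => by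
    show hA _ = _
    rw [show ofH (a • A) 0 = a • ofH A (0 : Matrix (Fin 2) (Fin 2) F) from
      ext_hAB (by rw [hA_smul, hA_ofH, hA_ofH]) (by rw [hB_smul, hB_ofH, hB_ofH, smul_zero]), sact_smul, hA_smul]
  have hmul : ∀ A B, Zr (A * B) = Zr A * Zr B := fun A B => by
    have : ofH (A * B) 0 = Oct.mul (ofH A 0) (ofH B (0 : Matrix (Fin 2) (Fin 2) F)) := by
      refine ext_hAB ?_ ?_
      · rw [hA_mul, hA_ofH, hA_ofH, hA_ofH, hB_ofH, hB_ofH]; simp
      · rw [hB_mul, hA_ofH, hA_ofH, hB_ofH, hB_ofH, hB_ofH]; simp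
    show hA _ = _
    rw [this, sact_mul, hA_mul, hZ, hZ, hB_ofH, hB_ofH, hA_ofH, hA_ofH]
    simp
  have hone : Zr 1 = 1 := by
    show hA _ = _
    rw [← map_one (toM F), ← eK_eq_ofH, eK_one, sact_one, ← eK_one, hA_eK]
  have hzero : Zr 0 = 0 := by simpa using hsmul 0 0
  -- the images of the special linear group
  have hsign : ∀ u : SL(2, K), ∃ r : F, r ^ 2 = 1 ∧ Zr (ι u).1 = r • (ι u).1 := by
    intro u
    have hQ : ∀ X : Matrix (Fin 2) (Fin 2) F, Q F (ofH X 0) = X.det := fun X => by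
      rw [Q_hAB, hA_ofH, hB_ofH]; simp
    have hfix : (Zr (ι u).1).map σ = Zr (ι u).1 := by
      show (hA _).map σ = _
      rw [← hA_fldS, ← sact_comp, ← hzσ.eq, sact_comp]
      congr 2
      exact ext_hAB (by rw [hA_fldS, hA_ofH, hισ]) (by rw [hB_fldS, hB_ofH]; ext; simp)
    have hdet : (Zr (ι u).1).det = 1 := by
      rw [← hQ, ← hZ, Q_sact, hQ, (ι u).2, map_one]
    obtain ⟨u', hu'⟩ : ∃ u' : SL(2, K), (ι u').1 = Zr (ι u).1 := by
      refine ⟨⟨Matrix.of fun i j => ⟨Zr (ι u).1 i j, congrFun (congrFun hfix i) j⟩, K.subtype.injective ?_⟩, rfl⟩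
      rw [RingHom.map_det, map_one]; exact hdet
    have hmem : u' * u⁻¹ ∈ R := by
      refine ⟨z * (lamHom F (ι u) * z⁻¹ * (lamHom F (ι u))⁻¹), mul_mem hzS (hnorm u _ (inv_mem hzS)), fun X => ?_⟩
      obtain ⟨Y, hY⟩ : ∃ Y, sact (lamHom F (ι u))⁻¹ (ofH X 0) = ofH Y 0 := ⟨_, by rw [← map_inv]; exact lamHom_A _ _⟩
      rw [map_mul, map_mul, map_inv, map_inv, ← mul_assoc, ← mul_assoc, sact_comp, sact_comp (lamHom F (ι u')),
        hY]
      obtain ⟨P, hP⟩ : ∃ P, sact z⁻¹ (ofH Y 0) = ofH P 0 := by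
        refine ⟨hA (sact z⁻¹ (ofH Y 0)), ext_hAB (by rw [hA_ofH]) ?_⟩
        rw [hB_ofH, ← dS_fix_iff, ← sact_comp, ← hzd.inv_left.eq, sact_comp, (dS_fix_iff _).2 (hB_ofH _ _)]
      rw [sact_comp, sact_comp, hP, lamHom_A, lamHom_A, hu']
      have hPY : sact z (ofH P 0) = ofH Y 0 := by
        rw [← hP, ← sact_comp, mul_inv_cancel]; exact slAct_one _
      have hm : ∀ A B : Matrix (Fin 2) (Fin 2) F, ofH (A * B) 0 = Oct.mul (ofH A 0) (ofH B 0) := fun A B => by
        refine ext_hAB ?_ ?_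
        · rw [hA_mul, hA_ofH, hA_ofH, hA_ofH, hB_ofH, hB_ofH]; simp
        · rw [hB_mul, hA_ofH, hA_ofH, hB_ofH, hB_ofH, hB_ofH]; simp
      have hadj : sact z (ofH (ι u).1.adjugate 0) = ofH (Zr (ι u).1).adjugate 0 := by
        rw [hZ]
        congr 1
        calc Zr (ι u).1.adjugate = ((Zr (ι u).1).adjugate * Zr (ι u).1) * Zr (ι u).1.adjugate := by
              rw [adjugate_mul, hdet, one_smul, one_mul]
          _ = _ := by rw [mul_assoc, ← hmul, mul_adjugate, (ι u).2, one_smul, hone, mul_one]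
      rw [hm, hm, sact_mul, sact_mul, hadj, hPY, hZ, ← hm, ← hm]
    obtain ⟨r, hr, hr'⟩ := Matrix.SpecialLinearGroup.mem_center_iff.1 (hcen hmem)
    refine ⟨(r : F), by simpa using congrArg K.subtype hr, ?_⟩
    have e' : (u'.1 : Matrix (Fin 2) (Fin 2) K) = r • u.1 := by
      have := congrArg (fun A => A * u.1) hr'
      simp only [Matrix.SpecialLinearGroup.coe_mul, mul_assoc, Matrix.scalar_apply] at this
      rw [← Matrix.SpecialLinearGroup.coe_mul u⁻¹ u, inv_mul_cancel, Matrix.SpecialLinearGroup.coe_one, mul_one,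
        ← smul_one_eq_diagonal, smul_one_mul] at this
      exact this.symm
    rw [← hu']
    refine Matrix.ext fun i j => ?_
    show (u'.1 i j : F) = _
    rw [e']
    rfl
  have htr : ∀ (i j : Fin 2), i ≠ j → ∀ a : K,
      Zr (Matrix.single i j (a : F)) = Matrix.single i j (a : F) := by
    intro i j hij a
    set N : Matrix (Fin 2) (Fin 2) F := Matrix.single i j (a : F) with hN
    let u : SL(2, K) := ⟨Matrix.transvection i j a, Matrix.det_transvection_of_ne i j hij a⟩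
    have hu : (ι u).1 = 1 + N := by
      show (Matrix.transvection i j a).map K.subtype = _
      rw [Matrix.transvection, Matrix.map_add _ (map_add _), Matrix.map_one _ (map_zero _) (map_one _), hN,
        Matrix.map_single]
      rfl
    obtain ⟨r, hr, h⟩ := hsign u
    rw [hu, hadd, hone, smul_add] at h
    have hN2 : N * N = 0 := by rw [hN, Matrix.single_mul_single_of_ne _ _ _ _ hij.symm]
    have h2 := hmul N N
    rw [hN2, hzero, eq_sub_of_add_eq' h] at h2
    have h00 := congrFun (congrFun h2 i) i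
    simp [hN, Matrix.mul_apply, Matrix.one_apply, Matrix.single_apply, Fin.sum_univ_two] at h00
    have hr1 : r = 1 := by
      fin_cases i <;> fin_cases j <;> simp at hij h00 <;> exact sub_eq_zero.1 h00
    rw [hr1, one_smul, one_smul] at h
    exact add_left_cancel h
  have hE : ∀ i j : Fin 2, Zr (Matrix.single i j (1 : F)) = Matrix.single i j (1 : F) := by
    intro i j
    by_cases hij : i = j
    · subst hij
      obtain ⟨k, hk⟩ : ∃ k, i ≠ k := ⟨i + 1, by fin_cases i <;> decide⟩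
      have e : Matrix.single i i (1 : F) = Matrix.single i k (1 : F) * Matrix.single k i (1 : F) := by
        rw [Matrix.single_mul_single_same, one_mul]
      have h1 := htr i k hk 1
      have h2 := htr k i hk.symm 1
      simp only [OneMemClass.coe_one] at h1 h2
      rw [e, hmul, h1, h2]
    · simpa using htr i j hij 1
  have hρK : ∀ a : F, σ a = a → srho z a = a := by
    intro a ha
    have := htr 0 1 (by decide) ⟨a, ha⟩
    rw [show Matrix.single (0 : Fin 2) (1 : Fin 2) (((⟨a, ha⟩ : K) : F)) = a • Matrix.single 0 1 (1 : F) by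
      rw [Matrix.smul_single, smul_eq_mul, mul_one], hsmul, hE] at this
    have h01 := congrFun (congrFun this 0) 1
    simpa using h01
  have hρ : srho z = 1 := by
    refine srho_zpow_fix H.sigma (coprime_orderOf H.card hy) ?_ hρK
    rw [← srho_pow, show z ^ orderOf y = 1 from act_injective (by rw [map_pow, hz, pow_orderOf_eq_one, map_one])]
    rfl
  have hid : ∀ X, sact z (ofH X 0) = ofH X 0 := fun X => by
    rw [hZ]
    congr 1
    conv_rhs => rw [Matrix.matrix_eq_sum_single X]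
    conv_lhs => rw [Matrix.matrix_eq_sum_single X]
    simp only [Fin.sum_univ_two, hadd]
    congr 1 <;> congr 1 <;>
      rw [← mul_one (X _ _), ← smul_eq_mul, ← Matrix.smul_single, hsmul, hE, hρ] <;> rfl
  refine ⟨z, hz, hρ, hid, ?_⟩
  refine saut_ext (by rw [srho_mul, srho_mul, hρ, srho_zS]) fun v => ?_
  have hvsplit : ∀ w : V F, w = ofH (hA w) 0 + ofH 0 (hB w) := fun w =>
    ext_hAB (by rw [hA_add, hA_ofH, hA_ofH, add_zero]) (by rw [hB_add, hB_ofH, hB_ofH, zero_add])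
  have hb : ∀ B, ∃ B', sact z (ofH 0 B) = ofH 0 B' := fun B => by
    obtain ⟨w, hw⟩ := isUnit_om_sub (F := F)
    refine ⟨hB (sact z (ofH 0 B)), ext_hAB ?_ (by rw [hB_ofH])⟩
    set b : V F := ofH 0 (toM F ((w⁻¹ : (KK F)ˣ) : KK F) * B)
    have e : sact (dS F) b - b = ofH 0 B := by
      refine ext_hAB ?_ ?_
      · rw [hA_sub, hA_dS, sub_self, hA_ofH]
      · rw [hB_sub, hB_dS, hB_ofH, hB_ofH, ← mul_assoc, ← map_mul, ← sub_mul, ← map_sub]
        rw [show om F * ((w⁻¹ : (KK F)ˣ) : KK F) - ((w⁻¹ : (KK F)ˣ) : KK F) = 1 by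
          rw [← sub_one_mul, ← hw, Units.mul_inv], map_one, one_mul]
    rw [← e, sact_sub, ← sact_comp, hzd.eq, sact_comp, hA_sub, hA_dS, sub_self, hA_ofH]
  have hz0 : ∀ A, hB (sact (zS F) (ofH A 0)) = 0 := fun A => by rw [hB_zS, hB_ofH, zero_mul]
  have hzb : ∀ B, sact (zS F) (ofH 0 B) = Oct.mul (eK (om F)) (ofH 0 B) := fun B => by
    rw [eK_eq_ofH, mul_a_b]
    obtain ⟨p, hp⟩ := (ofK F).surjective (ofH 0 B)
    have h0 : mkA p.1 (p.2 0) = 0 := by rw [← hA_ofK, hp, hA_ofH]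
    obtain ⟨hp1, hp2⟩ := mkA_eq_zero h0
    refine ext_hAB ?_ (by rw [hB_zS, hB_ofH, hB_ofH])
    rw [hA_ofH, ← hp, sact_zS, hA_ofK]
    simp [hp1, hp2, mkA]
  have hom : sact z (eK (om F)) = eK (om F) := by rw [eK_eq_ofH]; exact hid _
  have hA0 : ∀ A, sact z (sact (zS F) (ofH A 0)) = sact (zS F) (ofH A 0) := fun A => by
    rw [hvsplit (sact (zS F) (ofH A 0)), hz0, show ofH 0 (0 : Matrix (Fin 2) (Fin 2) F) = 0 from
      ext_hAB (by rw [hA_ofH, hA_zero]) (by rw [hB_ofH, hB_zero]), add_zero, hid]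
  obtain ⟨B', hB'⟩ := hb (hB v)
  rw [sact_comp, sact_comp, hvsplit v, sact_add, sact_add, sact_add, hid, hA0, hB', sact_add, hzb, hzb, sact_mul,
    hom, hB']

theorem LinHyp.trivial_of_dS (H : LinHyp σ e M) {y : MulAut (G8 F)} (hy : y ∈ M) (hd : Commute y (act F (dS F))) :
    y = 1 := by
  have step : ∀ y ∈ M, Commute y (act F (dS F)) →
      Wd F e * y * (Wd F e)⁻¹ ∈ M ∧ Commute (Wd F e * y * (Wd F e)⁻¹) (act F (dS F)) := by
    intro y hy hd
    obtain ⟨z, hz, -, -, hzz⟩ := H.fix_a hy hd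
    refine ⟨H.normal _ (Wd_mem e) (Wd_comm e) (Wd_phi e σ) y hy, ?_⟩
    have hyz : Commute y (act F (zS F)) := hz ▸ hzz.map (act F)
    have h1 : ∀ a, Commute y a → Commute (Wd F e * y * (Wd F e)⁻¹) (Wd F e * a * (Wd F e)⁻¹) := fun a ha =>
      ha.map (MulAut.conj (Wd F e)).toMonoidHom
    have h2 := (h1 _ hd).mul_right (h1 _ hyz).inv_right
    rwa [Wd_dS, Wd_zS, mul_inv_cancel_right] at h2
  obtain ⟨z, hz, hρ, hfix, hzz⟩ := H.fix_a hy hd
  obtain ⟨hy1, hd1⟩ := step y hy hd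
  obtain ⟨z1, hz1, hρ1, hfix1, hzz1⟩ := H.fix_a hy1 hd1
  obtain ⟨hy2, hd2⟩ := step _ hy1 hd1
  obtain ⟨z2, hz2, -, hfix2, -⟩ := H.fix_a hy2 hd2
  have e1 : z1 = wS F * z * (wS F)⁻¹ :=
    act_injective (by rw [hz1, ← hz, Wd_act e (fix_om hzz)])
  have e2 : z2 = wS F * z1 * (wS F)⁻¹ :=
    act_injective (by rw [hz2, ← hz1, Wd_act e (fix_om hzz1)])
  rw [← hz]
  refine (congrArg (act F) (saut_ext4 (y := z) (z := 1) hρ fun p => ?_)).trans (map_one _)
  rw [show sact (1 : SAut F) (ofK F p) = ofK F p from slAct_one _]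
  have hline : ∀ k l : KK F, ofK F (k, ![l, 0, 0]) = ofH (mkA k l) 0 := fun k l =>
    ext_hAB (by rw [hA_ofK, hA_ofH]; rfl) (by rw [hB_ofH, hB_eq_zero_iff]; exact ⟨rfl, rfl⟩)
  have hinj : ∀ a b, sact (wS F) a = sact (wS F) b → a = b := fun a b h => by
    have := congrArg (slAct (((wS F : semiSim ⇑(Q F)) : GammaL (Fin 4 ⊕ Fin 4) F))⁻¹) h
    rwa [slAct_inv_apply, slAct_inv_apply] at this
  have hw : ∀ (w : SAut F), (∀ X, sact (wS F * w * (wS F)⁻¹) (ofH X 0) = ofH X 0) → ∀ a b c : KK F, ∀ q : K4 F,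
      sact (wS F) (ofK F q) = ofK F (a, ![b, c, 0]) → c = 0 → sact w (ofK F q) = ofK F q := by
    intro w hfix a b c q hq hc
    subst hc
    have := hfix (mkA a b)
    rw [← hline, ← hq, sact_comp, sact_comp, ← sact_comp (wS F)⁻¹, inv_mul_cancel,
      show sact (1 : SAut F) (ofK F q) = ofK F q from slAct_one _] at this
    exact hinj _ _ this
  rw [e2] at hfix2
  rw [e1] at hfix1
  have c0 : sact z (ofK F (p.1, ![p.2 0, 0, 0])) = ofK F (p.1, ![p.2 0, 0, 0]) := by rw [hline]; exact hfix _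
  have c1 : sact z (ofK F (0, ![0, p.2 1, 0])) = ofK F (0, ![0, p.2 1, 0]) := by
    refine hw z hfix1 0 (p.2 1) 0 _ ?_ rfl
    rw [sact_wS]
    refine congrArg _ (Prod.ext rfl (funext fun i => ?_))
    fin_cases i <;> rfl
  have c2 : sact z (ofK F (0, ![0, 0, p.2 2])) = ofK F (0, ![0, 0, p.2 2]) := by
    have h1 : sact z1 (ofK F (0, ![0, p.2 2, 0])) = ofK F (0, ![0, p.2 2, 0]) := by
      refine hw z1 hfix2 0 (p.2 2) 0 _ ?_ rfl
      rw [sact_wS]
      refine congrArg _ (Prod.ext rfl (funext fun i => ?_))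
      fin_cases i <;> rfl
    have h2 : sact (wS F) (ofK F (0, ![0, 0, p.2 2])) = ofK F (0, ![0, p.2 2, 0]) := by
      rw [sact_wS]
      refine congrArg _ (Prod.ext rfl (funext fun i => ?_))
      fin_cases i <;> rfl
    rw [← h2, e1, sact_comp, sact_comp, ← sact_comp (wS F)⁻¹, inv_mul_cancel,
      show ∀ v, sact (1 : SAut F) v = v from slAct_one] at h1
    exact hinj _ _ h1
  have hp : ofK F p = ofK F (p.1, ![p.2 0, 0, 0]) + ofK F (0, ![0, p.2 1, 0]) + ofK F (0, ![0, 0, p.2 2]) := by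
    rw [← map_add, ← map_add]
    refine congrArg _ (Prod.ext (by simp) (funext fun i => ?_))
    fin_cases i <;> simp
  rw [hp, sact_add, sact_add, c0, c1, c2]

theorem LinHyp.comm_zS (H : LinHyp σ e M) {y : MulAut (G8 F)} (hy : y ∈ M) : Commute y (act F (zS F)) := by
  let S : Subgroup (T4 F) := Subgroup.closure {(1, ![1, om1 F, om1 F * om1 F]), (1, fun _ => om1 F)}
  let A : Subgroup (MulAut (G8 F)) := S.map (dg F)
  haveI : IsMulCommutative A := ⟨⟨fun a b => Subtype.ext (by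
    obtain ⟨p, -, hp⟩ := a.2
    obtain ⟨q, -, hq⟩ := b.2
    show a.1 * b.1 = b.1 * a.1
    rw [← hp, ← hq]; exact dg_comm p q)⟩⟩
  have hd : Commute (tau F * act F (dS F) ^ e) (act F (dS F)) :=
    (tau_act _).mul_left ((Commute.refl _).pow_left e)
  have hdz : Commute (act F (zS F)) (act F (dS F)) := by rw [act_zS, act_dS]; exact dg_comm _ _
  have hzc : Commute (tau F * act F (dS F) ^ e) (act F (zS F)) :=
    (tau_act _).mul_left (hdz.symm.pow_left e)
  have hAN : A ≤ Subgroup.normalizer (M : Set (MulAut (G8 F))) := by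
    rw [Subgroup.map_le_iff_le_comap, Subgroup.closure_le]
    have key : ∀ g ∈ (pi0 F).range, Commute g (tau F * act F (dS F) ^ e) → Commute g (phi σ) →
        g ∈ Subgroup.normalizer (M : Set (MulAut (G8 F))) := fun g h1 h2 h3 =>
      Subgroup.mem_normalizer_iff.2 fun n => ⟨fun hn => H.normal g h1 h2 h3 n hn, fun hn => by
        have := H.normal g⁻¹ (inv_mem h1) h2.inv_left h3.inv_left _ hn
        simpa [mul_assoc] using this⟩
    rintro p (rfl | rfl)
    · refine Subgroup.mem_comap.2 ?_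
      rw [← act_dS]
      exact key _ (act_mem_range_pi0 srho_dS) hd.symm (phi_dS σ).symm
    · refine Subgroup.mem_comap.2 ?_
      rw [← act_zS]
      exact key _ (act_mem_range_pi0 srho_zS) hzc.symm (phi_zS σ).symm
  have hA3 : (Nat.card A).Coprime (Nat.card M) := by
    haveI := Fact.mk Nat.prime_three
    have hp : IsPGroup 3 A := fun a => ⟨1, Subtype.ext (by
      obtain ⟨p, hp, he⟩ := a.2
      rw [pow_one, SubgroupClass.coe_pow, ← he, ← map_pow, OneMemClass.coe_one]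
      have hle : S ≤ (powMonoidHom 3 : T4 F →* T4 F).ker := by
        rw [Subgroup.closure_le]
        rintro q (rfl | rfl) <;> refine Prod.ext (one_pow 3) (funext fun i => ?_)
        · show (![1, om1 F, om1 F * om1 F] i) ^ 3 = 1
          fin_cases i <;> simp [mul_pow, om1_cube]
        · exact om1_cube
      rw [show p ^ 3 = 1 from MonoidHom.mem_ker.1 (hle hp), map_one])⟩
    obtain ⟨k, hk⟩ := IsPGroup.iff_card.1 hp
    rw [hk]
    exact H.card.symm.pow_left k
  have hzA : act F (zS F) ∈ A := ⟨_, Subgroup.subset_closure (Or.inr rfl), act_zS.symm⟩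
  have hdA : act F (dS F) ∈ A := ⟨_, Subgroup.subset_closure (Or.inl rfl), act_dS.symm⟩
  have hcube : ∀ p : T4 F, p ∈ ({(1, ![1, om1 F, om1 F * om1 F]), (1, fun _ => om1 F)} : Set (T4 F)) →
      (dg F p) ^ 3 ∈ Subgroup.centralizer (M : Set (MulAut (G8 F))) := by
    intro p hp
    have : p ^ 3 = 1 := by
      rcases hp with rfl | rfl <;> refine Prod.ext (one_pow 3) (funext fun i => ?_)
      · show (![1, om1 F, om1 F * om1 F] i) ^ 3 = 1
        fin_cases i <;> simp [mul_pow, om1_cube]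
      · exact om1_cube
    rw [← map_pow, this, map_one]
    exact one_mem _
  have hle := CfsgLib.Coprime.le_of_centralizer_le (R := Subgroup.centralizer {act F (zS F)}) Nat.prime_three hAN hA3
    H.card hdA hzA (by rw [act_dS]; exact hcube _ (Or.inl rfl)) (by rw [act_zS]; exact hcube _ (Or.inr rfl))
    inf_le_right (fun i _ => ?_)
  · exact Subgroup.mem_centralizer_singleton_iff.1 (hle hy)
  rintro n ⟨hn, hc⟩
  have hc' : Commute n (act F (dS F) * act F (zS F) ^ i) := Subgroup.mem_centralizer_singleton_iff.1 hc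
  have hpow : ∀ i : ℕ, ∀ n ∈ M, Commute n (act F (dS F) * act F (zS F) ^ i) → n = 1 := by
    intro i
    induction i with
    | zero => intro n hn h; exact H.trivial_of_dS hn (by simpa using h)
    | succ k ih =>
      intro n hn h
      have hW : ∀ g, g = (Wd F e)⁻¹ → g ∈ (pi0 F).range ∧ Commute g (tau F * act F (dS F) ^ e) ∧ Commute g (phi σ) :=
        fun g hg => hg ▸ ⟨inv_mem (Wd_mem e), (Wd_comm e).inv_left, (Wd_phi e σ).inv_left⟩
      obtain ⟨h1, h2, h3⟩ := hW _ rfl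
      have hn' := H.normal _ h1 h2 h3 n hn
      have h' : Commute ((Wd F e)⁻¹ * n * (Wd F e)⁻¹⁻¹) (act F (dS F) * act F (zS F) ^ k) := by
        have := h.map (MulAut.conj (Wd F e)⁻¹).toMonoidHom
        have e' : (Wd F e)⁻¹ * (act F (dS F) * act F (zS F) ^ (k + 1)) * (Wd F e)⁻¹⁻¹ =
            act F (dS F) * act F (zS F) ^ k := by
          have hz' : Commute (Wd F e) (act F (zS F)) := mul_inv_eq_iff_eq_mul.1 (Wd_zS e)
          rw [inv_inv, mul_assoc, inv_mul_eq_iff_eq_mul, ← mul_assoc (Wd F e), mul_inv_eq_iff_eq_mul.1 (Wd_dS e),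
            mul_assoc _ (Wd F e), (hz'.pow_right k).eq, pow_succ']
          simp only [mul_assoc]
        simpa only [MulEquiv.coe_toMonoidHom, MulAut.conj_apply, e'] using this
      exact conj_eq_one_iff.1 (ih _ hn' h')
  rw [hpow i n hn hc']
  exact one_mem _

end Lin

end CfsgLib.FgsC.LocalBalance.Tri
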