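import Cfsg.Agent.Lib.FgsC.LocalBalance.Triality.Classify

/-!
The core of the centraliser of an element of order three outside the semisimilarities.
-/

set_option autoImplicit false
set_option maxHeartbeats 2000000

namespace CfsgLib.FgsC.LocalBalance.Tri

open Matrix QuadraticMap CfsgLib.Geometry
open CfsgLib.Geometry.Oct (V G8 Q Sim ap Trip pi0 R8)
open scoped QuadraticAlgebra

variable {F : Type*} [Field F] [Finite F] [NotThree F]

omit [Finite F] [NotThree F] in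
theorem exists_cube_root_of_U (A : Type*) [CommGroup A] (u c w : A) (hw : w ^ 3 = u) :
    (w * w * c)⁻¹ * (w * w * c)⁻¹ * (w * w * c)⁻¹ * (u * c * c * (u * c)) = 1 := by
  subst hw
  rw [pow_three']
  refine Additive.ofMul.injective ?_
  simp only [ofMul_mul, ofMul_inv, ofMul_one]
  abel

/-- The normalising parameter. -/
theorem exists_b {σ : F ≃+* F} (hσ : σ ^ 3 = 1) {p : T4 F}
    (h : p.1 * k1 σ (UU p * p.1) * k1 σ (k1 σ (UU p * ((UU p * p.1)⁻¹) ^ 3 * (UU p * p.1))) = 1)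
    (hcube : σ = 1 → ∃ w, w ^ 3 = UU p) :
    ∃ b, b * k1 σ b * k1 σ (k1 σ b) * (UU p * p.1 * p.1 * k1 σ (UU p * p.1)) = 1 := by
  by_cases hσ1 : σ = 1
  · obtain ⟨w, hw⟩ := hcube hσ1
    subst hσ1
    refine ⟨(w * w * p.1)⁻¹, ?_⟩
    simp only [k1_one]
    exact exists_cube_root_of_U (K1 F) _ _ _ hw
  · obtain ⟨b, hb⟩ := exists_k1_norm hσ hσ1 (UU p * p.1 * p.1 * k1 σ (UU p * p.1))⁻¹ (by rw [map_inv, delta_spec hσ h])
    exact ⟨b, by rw [hb, inv_mul_cancel]⟩

theorem pow_conj_eq_one {g : MulAut (G8 F)} (α : MulAut (G8 F)) (h : g ^ 3 = 1) : (α * g * α⁻¹) ^ 3 = 1 := by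
  rw [conj_pow, h, mul_one, mul_inv_cancel]

/-- A diagonal element on a triality. -/
theorem std_zero {σ : F ≃+* F} (hσ : σ ^ 3 = 1) {p : T4 F} (hy : (dg F p * sA σ) ^ 3 = 1) :
    Std σ (dg F p * sA σ) := by
  have hord := order_eq (sA_dg σ) (sA_cube hσ) hy
  have h1 := congrArg Prod.fst hord
  rw [Prod.fst_mul, Prod.fst_mul, psi_fst, psi_fst, UU_psi, psi_fst, ← map_mul] at h1
  obtain ⟨b, hb⟩ := exists_b hσ h1 fun hσ1 => by
    subst hσ1
    refine ⟨p.2 0, ?_⟩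
    have h0 := congrFun (congrArg Prod.snd hord) 0
    rw [Prod.snd_mul, Prod.snd_mul, Pi.mul_apply, Pi.mul_apply, psi_snd, psi_snd, psi_snd, UU_psi, psi_fst] at h0
    simp only [k1_one] at h0
    change p.2 0 * (p.2 0 * (UU p * p.1)⁻¹) *
      (p.2 0 * (UU p * p.1)⁻¹ * (UU p * ((UU p * p.1)⁻¹) ^ 3 * (UU p * p.1))⁻¹) = 1 at h0
    rw [← mul_inv_eq_one, ← h0]
    generalize p.2 0 = a, UU p = u, p.1 = c
    simp only [pow_three']
    refine Additive.ofMul.injective ?_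
    simp only [ofMul_mul, ofMul_inv]
    abel
  obtain ⟨q, hq1, hq2⟩ := exists_normal_q p b hb
  refine Std.of_conj (dg F q) (conj_dg (sA_dg σ) p q) (std_diag hσ hq1 hq2 ?_)
  rw [← conj_dg (sA_dg σ) p q]
  exact pow_conj_eq_one _ hy

theorem std_one_cube {σ : F ≃+* F} (hσ : σ ^ 3 = 1) {p : T4 F} (hy : (dg F p * (wA F * sA σ)) ^ 3 = 1)
    (hcube : σ = 1 → ∃ w, w ^ 3 = UU p) : Std σ (dg F p * (wA F * sA σ)) := by
  have hcu : (wA F * sA σ) ^ 3 = 1 := by rw [(sA_wA σ).symm.mul_pow, wA_cube, sA_cube hσ, one_mul]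
  have hord := order_eq (wsA_dg σ) hcu hy
  have h1 := congrArg Prod.fst hord
  rw [Prod.fst_mul, Prod.fst_mul] at h1
  change p.1 * (psi σ p).1 * (psi σ (tcyc (psi σ p))).1 = 1 at h1
  rw [psi_fst, psi_fst, UU_tcyc, UU_psi] at h1
  change p.1 * k1 σ (UU p * p.1) * k1 σ (k1 σ (UU p * ((UU p * p.1)⁻¹) ^ 3) * (psi σ p).1) = 1 at h1
  rw [psi_fst, ← map_mul] at h1
  obtain ⟨b, hb⟩ := exists_b hσ h1 hcube
  obtain ⟨q, hq1, hq2⟩ := exists_normal_q p b hb
  have e : UU (q * p * tcyc (psi σ q⁻¹)) = UU (q * p * psi σ q⁻¹) := by rw [UU_mul, UU_tcyc, ← UU_mul]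
  refine Std.of_conj (dg F q) (conj_dg (wsA_dg σ) p q) (std_perm hσ hq1 (e.trans hq2) ?_)
  rw [← conj_dg (wsA_dg σ) p q]
  exact pow_conj_eq_one _ hy

theorem std_one {σ : F ≃+* F} (hσ : σ ^ 3 = 1) {p : T4 F} (hy : (dg F p * (wA F * sA σ)) ^ 3 = 1) :
    Std σ (dg F p * (wA F * sA σ)) := by
  by_cases hc : σ = 1 → ∃ w, w ^ 3 = UU p
  · exact std_one_cube hσ hy hc
  push Not at hc
  obtain ⟨hσ1, hU⟩ := hc
  subst hσ1
  obtain ⟨j, w, hw⟩ := exists_mul_pow_cube (U := UU p) (fun ⟨w, hw⟩ => hU w hw) (p.2 2 * p.1 * (p.2 0)⁻¹)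
  have hw' : (w * ((UU p) ^ (j / 3))⁻¹) ^ 3 = p.2 2 * p.1 * (p.2 0)⁻¹ * UU p ^ (j % 3) := by
    rw [mul_pow, hw, inv_pow, ← pow_mul, mul_inv_eq_iff_eq_mul]
    conv_lhs => rw [← Nat.mod_add_div j 3, pow_add]
    rw [mul_comm 3 (j / 3)]
    simp only [mul_assoc]
  set w1 := w * ((UU p) ^ (j / 3))⁻¹
  -- a shift with the right ratio
  obtain ⟨α, p', he, w2, hw2⟩ : ∃ α p', α * (dg F p * (wA F * sA (1 : F ≃+* F))) * α⁻¹ = dg F p' * (wA F * sA 1) ∧
      ∃ w2, w2 ^ 3 = p'.2 2 * p'.1 * (p'.2 0)⁻¹ := by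
    have hcyc : ∀ q : T4 F, wA F * (dg F q * (wA F * sA (1 : F ≃+* F))) * (wA F)⁻¹ = dg F (tcyc q) * (wA F * sA 1) := fun q => by
      rw [← mul_assoc, mul_inv_eq_iff_eq_mul.1 (wS_dg q), mul_assoc, mul_assoc (dg F (tcyc q))]
      congr 1
      rw [mul_assoc (wA F) (sA 1) (wA F)⁻¹, (sA_wA (1 : F ≃+* F)).inv_right.eq, mul_inv_cancel_left]
    have : j % 3 < 3 := Nat.mod_lt _ (by norm_num)
    interval_cases hj : j % 3
    · exact ⟨1, p, by simp, w1, by rw [hw', pow_zero, mul_one]⟩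
    · refine ⟨wA F * wA F, tcyc (tcyc p), ?_, w1 * p.2 0 * p.2 1 * (UU p)⁻¹, ?_⟩
      · rw [← hcyc, ← hcyc, _root_.mul_inv_rev]; simp only [mul_assoc]
      · show _ = p.2 1 * p.1 * (p.2 2)⁻¹
        rw [mul_pow, mul_pow, mul_pow, hw', pow_one, inv_pow]
        simp only [UU, pow_three']
        generalize p.2 0 = a, p.2 1 = b, p.2 2 = d, p.1 = c
        refine Additive.ofMul.injective ?_
        simp only [ofMul_mul, ofMul_inv]
        abel
    · refine ⟨wA F, tcyc p, hcyc p, w1 * p.2 0 * (UU p)⁻¹, ?_⟩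
      show _ = p.2 0 * p.1 * (p.2 1)⁻¹
      rw [mul_pow, mul_pow, hw', inv_pow]
      simp only [UU, pow_three', pow_two]
      generalize p.2 0 = a, p.2 1 = b, p.2 2 = d, p.1 = c
      refine Additive.ofMul.injective ?_
      simp only [ofMul_mul, ofMul_inv]
      abel
  obtain ⟨β, p'', he', hU''⟩ := exists_mix p' hw2
  rw [← sA_one] at he'
  refine Std.of_conj α he (Std.of_conj β he' (std_one_cube hσ ?_ fun _ => hU''))
  rw [← he', ← he]
  exact pow_conj_eq_one _ (pow_conj_eq_one _ hy)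

/-- Every triality element of order three is standard. -/
theorem std_of_form {σ : F ≃+* F} (hσ : σ ^ 3 = 1) (t : Trip F) (hy : (pi0 F t * tau F * phi σ) ^ 3 = 1) :
    Std σ (pi0 F t * tau F * phi σ) := by
  obtain ⟨α, p, i, he⟩ := exists_monomial hσ t hy
  have hy' := pow_conj_eq_one α hy
  rw [he] at hy'
  refine Std.of_conj α he ?_
  have hi : wA F ^ i = wA F ^ (i % 3) := by
    conv_lhs => rw [← Nat.mod_add_div i 3, pow_add, pow_mul, wA_cube, one_pow, mul_one]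
  rw [hi] at hy' ⊢
  have : i % 3 < 3 := Nat.mod_lt _ (by norm_num)
  interval_cases h : i % 3
  · rw [pow_zero, mul_one] at hy' ⊢; exact std_zero hσ hy'
  · rw [pow_one, mul_assoc] at hy' ⊢; exact std_one hσ hy'
  · have hs : Commute (act F (tS F)) (sA σ) :=
      (tau_act _).symm.mul_right (act_fldS σ ▸ (tS_fldS σ).map (act F))
    have e : act F (tS F) * (dg F p * wA F ^ 2 * sA σ) * (act F (tS F))⁻¹ =
        dg F (p.1, fun i => p.2 (-i)) * (wA F * sA σ) := by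
      have h2 : act F (tS F) * wA F ^ 2 * (act F (tS F))⁻¹ = wA F := by
        rw [← conj_pow, show wA F = act F (wS F) from rfl, tS_wS, ← pow_mul, show 2 * 2 = 3 + 1 from rfl, pow_add,
          wA_cube, one_mul, pow_one]
      calc _ = (act F (tS F) * dg F p * (act F (tS F))⁻¹) * (act F (tS F) * wA F ^ 2 * (act F (tS F))⁻¹) *
            (act F (tS F) * sA σ * (act F (tS F))⁻¹) := by group
        _ = _ := by rw [tS_dg, h2, hs.eq, mul_inv_cancel_right, mul_assoc]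
    refine Std.of_conj _ e (std_one hσ ?_)
    rw [← e]
    exact pow_conj_eq_one _ hy'

/-- The core is trivial at an element of order three outside the semisimilarities. -/
theorem core_triality {x : MulAut (G8 F)} (hx : x ∉ (autOmega ⇑(Q F)).range) (hord : orderOf x = 3)
    (A : Subgroup (MulAut (G8 F))) (hinn : ∀ k, MulAut.conj k ∈ A) :
    Cfsg.pPrimeCore 3 ↥(A ⊓ Subgroup.centralizer {x}) = ⊥ := by
  obtain ⟨t, σ, hσ, hform⟩ := exists_form hx hord
  have hcen : Subgroup.centralizer ({x} : Set (MulAut (G8 F))) = Subgroup.centralizer {pi0 F t * tau F * phi σ} := by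
    rcases hform with e | e <;> rw [e]
    ext g
    rw [Subgroup.mem_centralizer_singleton_iff, Subgroup.mem_centralizer_singleton_iff]
    exact ⟨fun h => (Commute.inv_right (show Commute g x from h)).eq, fun h => by
      have := (Commute.inv_right (show Commute g x⁻¹ from h)).eq
      rwa [inv_inv] at this⟩
  have hy : (pi0 F t * tau F * phi σ) ^ 3 = 1 := by
    rcases hform with e | e <;> rw [e, ← hord]
    · exact pow_orderOf_eq_one x
    · rw [inv_pow, pow_orderOf_eq_one, inv_one]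
  rw [hcen]
  obtain ⟨α, h | ⟨h1, h⟩⟩ := std_of_form hσ t hy
  · exact core_centralizer_conj α _ A 3 hinn fun A' hA' => by rw [h]; exact core_field_form hσ A' hA'
  · exact core_centralizer_conj α _ A 3 hinn fun A' hA' => by rw [h]; exact core_diag_form A' hA'

omit [NotThree F] in
/-- An element outside the semisimilarities is no conjugate of a field automorphism. -/
theorem conj_ne_phi {x : MulAut (G8 F)} (hx : x ∉ (autOmega ⇑(Q F)).range) (α : MulAut (G8 F)) (σ : F ≃+* F) :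
    α * x * α⁻¹ ≠ phi σ := by
  intro h
  obtain ⟨T, _, q, hr, hK, -⟩ := exists_triQuot F
  have hqφ : q (phi σ) = 1 := (hK _).2 ⟨1, one_mem _, σ, by rw [one_mul]; rfl⟩
  refine hx ((hr x).2 (Or.inl ?_))
  have hxe : x = α⁻¹ * phi σ * α := by rw [← h]; group
  rw [hxe, map_mul, map_mul, hqφ, mul_one, ← map_mul, inv_mul_cancel, map_one]

end CfsgLib.FgsC.LocalBalance.Tri
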