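import Cfsg.Agent.Lib.FgsC.LocalBalance.Triality.Moves

/-!
A conjugation mixing the four lines.
-/

set_option autoImplicit false
set_option maxHeartbeats 1000000

namespace CfsgLib.FgsC.LocalBalance.Tri

open Matrix QuadraticMap CfsgLib.Geometry
open CfsgLib.Geometry.Oct (V G8 Q Sim ap Trip pi0 R8)
open scoped QuadraticAlgebra

variable {F : Type*} [Field F]

/-- The difference of the two roots. -/
def cd (F : Type*) [Field F] : KK F := om F - star (om F)

theorem star_cd : star (cd F) = -cd F := by simp [cd]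

theorem norm_cd : QuadraticAlgebra.norm (cd F) = 3 := by
  rw [QuadraticAlgebra.norm_def, cd, om]
  simp
  ring

theorem cd_sq : cd F * cd F = -3 := by
  have h := mul_star_eq (cd F)
  rw [star_cd, norm_cd, mul_neg, map_ofNat] at h
  linear_combination -h

variable [Finite F] [NotThree F]

theorem act_wS_sim : act F (wS F) =
    simAut ⇑(Q F) (Oct.mkSim (suLin (wMat F)) 1 fun v => by
      rw [suLin_Q isSU_wMat, Units.val_one, one_mul]) := rfl

theorem mix_fst (q : K4 F) :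
    Oct.mul (Oct.mul (ofK F (0, ![cd F, 0, 0])) (Oct.mul (ofK F (0, ![0, 1, 0])) (ofK F q))) (ofK F (0, ![cd F, 0, 0])) =
      ofK F (3 * q.2 1, ![3 * q.2 2, 3 * star q.1, -(3 * star (q.2 0))]) := by
  rw [ofK_mul, ofK_mul, ofK_mul]
  have h := cd_sq (F := F)
  refine congrArg _ (Prod.ext ?_ (funext fun i => ?_))
  · simp [mul4, star_cd]
    linear_combination (-q.2 1) * h
  · fin_cases i
    · simp [mul4, star_cd]
      linear_combination (-q.2 2) * h
    · simp [mul4, star_cd]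
      linear_combination (-star q.1) * h
    · simp [mul4, star_cd]
      linear_combination star (q.2 0) * h

theorem mix_thd (q : K4 F) :
    Oct.conj (Oct.mul (Oct.mul (Oct.conj (ofK F (0, ![0, 1, 0]))) (Oct.conj (ofK F q))) (ofK F (0, ![cd F, 0, 0]))) =
      ofK F (-(cd F * q.2 2), ![cd F * star (q.2 1), -(cd F * q.2 0), cd F * star q.1]) := by
  rw [ofK_conj, ofK_conj, ofK_mul, ofK_mul, ofK_conj]
  refine congrArg _ (Prod.ext ?_ (funext fun i => ?_))
  · simp [mul4, conj4, star_cd] <;> ring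
  · fin_cases i
    · simp [mul4, conj4, star_cd] <;> ring
    · simp [mul4, conj4, star_cd] <;> ring
    · simp [mul4, conj4, star_cd] <;> ring

/-- The mixing move. -/
theorem exists_mix (p : T4 F) {w : K1 F} (hw : w ^ 3 = p.2 2 * p.1 * (p.2 0)⁻¹) :
    ∃ (α : MulAut (G8 F)) (p' : T4 F),
      α * (dg F p * (wA F * tau F)) * α⁻¹ = dg F p' * (wA F * tau F) ∧ ∃ w', w' ^ 3 = UU p' := by
  obtain ⟨z, hz⟩ := exists_hat p.1
  obtain ⟨cU, hcU⟩ := isUnit_of_norm (z := cd F) (by rw [norm_cd]; exact three_ne)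
  set u : V F := ofK F (0, ![cd F, 0, 0]) with hu
  set e : V F := ofK F (0, ![0, 1, 0]) with he
  have hQu : Q F u ≠ 0 := by rw [hu, Q_ofK]; simp [norm_cd]; exact three_ne
  have hQe : Q F e = 1 := by rw [he, Q_ofK]; simp
  have hQe' : Q F e ≠ 0 := by rw [hQe]; exact one_ne_zero
  have hQc : Q F ((Q F e)⁻¹ • Oct.conj e) ≠ 0 := by
    rw [hQe, inv_one, one_smul, Oct.Q8_conj]; exact hQe'
  set tM : Trip F := ⟨_, Oct.trip_mem u hQu⟩ * ⟨_, Oct.trip_left e hQe' hQc⟩
  set m1 := hat F cU with hm1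
  have hm : ((m1 : (KK F)ˣ) : KK F) = -1 := by
    have h := hat_mul_star cU
    rw [hcU, star_cd] at h
    refine cU.isUnit.mul_right_cancel ?_
    rw [hcU]
    linear_combination -h
  have hm3 : m1 ^ 3 = m1 := by
    refine Subtype.ext (Units.ext ?_)
    rw [SubmonoidClass.coe_pow, Units.val_pow_eq_pow_val, hm]
    ring
  let z' := cU * z * ((p.2 1 : K1 F) : (KK F)ˣ)
  let u' : Fin 3 → K1 F := ![p.2 2 * (p.2 1)⁻¹, m1 * (p.1 * p.2 1)⁻¹, (p.1 * p.2 0 * p.2 1)⁻¹]
  refine ⟨pi0 F tM, (hat F z', u'), ?_, m1 * w * (p.1 * p.2 1)⁻¹, ?_⟩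
  swap
  · rw [mul_pow, mul_pow, hm3, hw, inv_pow, pow_three']
    show _ = p.2 2 * (p.2 1)⁻¹ * (m1 * (p.1 * p.2 1)⁻¹) * (p.1 * p.2 0 * p.2 1)⁻¹
    generalize p.1 = c, p.2 0 = a, p.2 1 = b, p.2 2 = d
    refine Additive.ofMul.injective ?_
    simp only [ofMul_mul, ofMul_inv]
    abel
  -- the entries
  have hs : star (z : KK F) = (z : KK F) * star ((p.1 : (KK F)ˣ) : KK F) := by
    have h1 := hat_mul_star z
    rw [hz] at h1
    have h2 := K1_mul_star p.1
    linear_combination star ((p.1 : (KK F)ˣ) : KK F) * h1 - star (z : KK F) * h2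
  have hstar : ∀ a : K1 F, ((((a⁻¹ : K1 F) : (KK F)ˣ)) : KK F) = star ((a : (KK F)ˣ) : KK F) := fun a => by
    rw [← su_coe, su_K1]
  have z0 : (z' : KK F) * ((u' 0 : (KK F)ˣ) : KK F) = cd F * (z : KK F) * ((p.2 2 : (KK F)ˣ) : KK F) := by
    show ((cU * z * ((p.2 1 : K1 F) : (KK F)ˣ) : (KK F)ˣ) : KK F) * (((p.2 2 * (p.2 1)⁻¹ : K1 F) : (KK F)ˣ) : KK F) = _
    rw [Units.val_mul, Units.val_mul, Subgroup.coe_mul, Units.val_mul, hstar, hcU]
    linear_combination cd F * (z : KK F) * ((p.2 2 : (KK F)ˣ) : KK F) * K1_mul_star (p.2 1)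
  have z1 : (z' : KK F) * ((u' 1 : (KK F)ˣ) : KK F) = -(cd F * star (z : KK F)) := by
    show ((cU * z * ((p.2 1 : K1 F) : (KK F)ˣ) : (KK F)ˣ) : KK F) * (((m1 * (p.1 * p.2 1)⁻¹ : K1 F) : (KK F)ˣ) : KK F) = _
    rw [Units.val_mul, Units.val_mul, Subgroup.coe_mul, Units.val_mul, hstar, hcU, hm, Subgroup.coe_mul,
      Units.val_mul, star_mul', hs]
    linear_combination -(cd F * (z : KK F) * star ((p.1 : (KK F)ˣ) : KK F)) * K1_mul_star (p.2 1)
  have z2 : (z' : KK F) * ((u' 2 : (KK F)ˣ) : KK F) = cd F * star ((z : KK F) * ((p.2 0 : (KK F)ˣ) : KK F)) := by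
    show ((cU * z * ((p.2 1 : K1 F) : (KK F)ˣ) : (KK F)ˣ) : KK F) * ((((p.1 * p.2 0 * p.2 1)⁻¹ : K1 F) : (KK F)ˣ) : KK F) = _
    rw [Units.val_mul, Units.val_mul, hstar, hcU, Subgroup.coe_mul, Units.val_mul, Subgroup.coe_mul,
      Units.val_mul, star_mul', star_mul', star_mul', hs]
    linear_combination (cd F * (z : KK F) * star ((p.1 : (KK F)ˣ) : KK F) * star ((p.2 0 : (KK F)ˣ) : KK F)) * K1_mul_star (p.2 1)
  have hzc : (z' : KK F) = cd F * ((z : KK F) * ((p.2 1 : (KK F)ˣ) : KK F)) := by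
    show ((cU * z * ((p.2 1 : K1 F) : (KK F)ˣ) : (KK F)ˣ) : KK F) = _
    rw [Units.val_mul, Units.val_mul, hcU, mul_assoc]
  -- the equation
  have key : pi0 F tM * (dg F p * wA F) = dg F (hat F z', u') * (wA F * pi0 F (rot tM)) := by
    rw [show wA F = act F (wS F) from rfl, act_wS_sim, dg_eq hz, dg_eq (p := (hat F z', u')) (z := z') rfl]
    show simAut _ tM.1.1 * _ = _ * (_ * simAut _ (rot tM).1.1)
    simp only [← map_mul]
    refine congrArg (simAut _) (ext_ofK fun q => ?_)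
    have hg0 : ∀ v, ap tM.1.1 v = Oct.mul (Oct.mul u (Oct.mul e v)) u := fun v => by
      show ap (_ * _ * _) v = _
      rw [Oct.ap_mul, Oct.ap_mul, Oct.ap_rmul, Oct.ap_lmul, Oct.ap_lmul]
    have hg2 : ∀ v, ap tM.1.2.2 v = Oct.mul (Oct.mul (Oct.conj e) v) u := fun v => by
      show ap (_ * _) v = _
      rw [Oct.ap_mul, Oct.ap_rmul, Oct.ap_lmul, hQe, inv_one, one_smul]
    have hw' : ∀ r : K4 F, ap (Oct.mkSim (suLin (wMat F)) 1 fun v => by
        rw [suLin_Q isSU_wMat, Units.val_one, one_mul]) (ofK F r) = ofK F (r.1, fun i => r.2 (i + 1)) := fun r =>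
      (Oct.ap_mkSim _ _ _ _).trans ((sact_mkS _ (suLin_mul isSU_wMat) (suLin_Q isSU_wMat) _).symm.trans (sact_wS r))
    rw [Oct.ap_mul tM.1.1, Oct.ap_mul (dSim z p.2), hw', ap_dSim, hg0, Oct.ap_mul (dSim z' u'), Oct.ap_mul, rot_fst,
      ap_R8_conj, hg2, hu, he, mix_fst, mix_thd, hw', ap_dSim]
    have h := cd_sq (F := F)
    refine congrArg _ (Prod.ext ?_ (funext fun i => ?_))
    · simp only [hzc, Fin.reduceAdd]
      linear_combination ((z : KK F) * ((p.2 1 : (KK F)ˣ) : KK F) * q.2 2) * h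
    · fin_cases i
      · simp [z0]
        linear_combination ((z : KK F) * ((p.2 2 : (KK F)ˣ) : KK F) * q.2 0) * h
      · simp [z1]
        linear_combination (star (z : KK F) * star q.1) * h
      · simp [z2]
        linear_combination (-(star (z : KK F) * star ((p.2 0 : (KK F)ˣ) : KK F) * star (q.2 1))) * h
  calc pi0 F tM * (dg F p * (wA F * tau F)) * (pi0 F tM)⁻¹
      = pi0 F tM * (dg F p * wA F) * (tau F * (pi0 F tM)⁻¹) := by simp only [mul_assoc]
    _ = dg F (hat F z', u') * (wA F * (pi0 F (rot tM) * tau F * (pi0 F tM)⁻¹)) := by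
        rw [key]; simp only [mul_assoc]
    _ = _ := by rw [← tau_conj, inv_mul_cancel_right, mul_inv_cancel_right]

end CfsgLib.FgsC.LocalBalance.Tri
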