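import Cfsg.Agent.Lib.Geometry.D4Out
import Mathlib.Algebra.QuadraticAlgebra.Basic
import Mathlib.FieldTheory.Finite.Basic

/-!
The split octonions as four lines over the quadratic algebra of the cube roots of unity.
-/

set_option autoImplicit false
set_option maxHeartbeats 1000000

namespace CfsgLib.FgsC.LocalBalance.Tri

open Matrix QuadraticMap CfsgLib.Geometry
open scoped QuadraticAlgebra

variable {F : Type*} [Field F]

/-- The characteristic is not three. -/
class NotThree (F : Type*) [Field F] : Prop where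
  three_ne : (3 : F) ≠ 0

theorem three_ne [NotThree F] : (3 : F) ≠ 0 := NotThree.three_ne

/-- The algebra of the cube roots of unity. -/
abbrev KK (F : Type*) [Field F] := QuadraticAlgebra F (-1 : F) (-1 : F)

/-- The four lines. -/
abbrev K4 (F : Type*) [Field F] := KK F × (Fin 3 → KK F)

/-- The product in the four lines. -/
def mul4 (p q : K4 F) : K4 F :=
  (p.1 * q.1 - (p.2 0 * star (q.2 0) + p.2 1 * star (q.2 1) + p.2 2 * star (q.2 2)),
    fun i => p.1 * q.2 i + p.2 i * star q.1 + star (p.2 (i + 1) * q.2 (i + 2) - p.2 (i + 2) * q.2 (i + 1)))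

/-- The conjugation in the four lines. -/
def conj4 (p : K4 F) : K4 F := (star p.1, fun i => -p.2 i)

theorem exists_gb (F : Type*) [Field F] [Finite F] [NotThree F] :
    ∃ g b : F, g ^ 2 - g * b + b ^ 2 = -1 ∧ ∀ σ : F ≃+* F, σ g = g ∧ σ b = b := by
  obtain ⟨p, hp⟩ := CharP.exists F
  haveI : Fact p.Prime := ⟨CharP.char_is_prime F p⟩
  let e : ZMod p →+* F := ZMod.castHom dvd_rfl F
  suffices h : ∃ g b : ZMod p, g ^ 2 - g * b + b ^ 2 = -1 by
    obtain ⟨g, b, h⟩ := h
    refine ⟨e g, e b, by rw [← map_pow, ← map_pow, ← map_mul, ← map_sub, ← map_add, h, map_neg, map_one],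
      fun σ => ?_⟩
    have he : (σ : F →+* F).comp e = e := RingHom.ext_zmod _ _
    exact ⟨DFunLike.congr_fun he g, DFunLike.congr_fun he b⟩
  rcases (Fact.out : p.Prime).eq_two_or_odd' with rfl | hodd
  · exact ⟨1, 0, rfl⟩
  have hp2 : p ≠ 2 := fun h => by subst h; exact absurd hodd (by decide)
  have h2 : (2 : ZMod p) ≠ 0 := by
    intro h
    rw [show (2 : ZMod p) = ((2 : ℕ) : ZMod p) by norm_num, ZMod.natCast_eq_zero_iff] at h
    exact hp2 ((Nat.prime_dvd_prime_iff_eq Fact.out Nat.prime_two).1 h)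
  have h3 : (3 : ZMod p) ≠ 0 := fun h => three_ne (F := F) (by rw [← map_ofNat e 3, h, map_zero])
  open Polynomial in
  obtain ⟨u, v, h⟩ := FiniteField.exists_root_sum_quadratic (R := ZMod p) (f := X ^ 2)
    (g := C (3 : ZMod p) * X ^ 2 + C 4) (degree_X_pow 2) (by compute_degree!) (by
      rw [ZMod.card]; exact Nat.odd_iff.1 hodd)
  refine ⟨(u + v) / 2, v, ?_⟩
  simp only [Polynomial.eval_pow, Polynomial.eval_X, Polynomial.eval_add, Polynomial.eval_mul,
    Polynomial.eval_C] at h
  field_simp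
  linear_combination h

/-- The first coordinate of the anticommuting root. -/
noncomputable def jg (F : Type*) [Field F] [Finite F] [NotThree F] : F := (exists_gb F).choose

/-- The second coordinate of the anticommuting root. -/
noncomputable def jb (F : Type*) [Field F] [Finite F] [NotThree F] : F := (exists_gb F).choose_spec.choose

variable [Finite F] [NotThree F]

theorem jgb : jg F ^ 2 - jg F * jb F + jb F ^ 2 = -1 := (exists_gb F).choose_spec.choose_spec.1

theorem jg_fix (σ : F ≃+* F) : σ (jg F) = jg F := ((exists_gb F).choose_spec.choose_spec.2 σ).1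

theorem jb_fix (σ : F ≃+* F) : σ (jb F) = jb F := ((exists_gb F).choose_spec.choose_spec.2 σ).2

/-- The quadratic algebra inside the matrices. -/
def toM (F : Type*) [Field F] : KK F →+* Matrix (Fin 2) (Fin 2) F where
  toFun k := !![k.re, -k.im; k.im, k.re - k.im]
  map_one' := by ext i j; fin_cases i <;> fin_cases j <;> simp
  map_mul' x y := by ext i j; fin_cases i <;> fin_cases j <;> simp <;> ring
  map_zero' := by ext i j; fin_cases i <;> fin_cases j <;> simp
  map_add' x y := by ext i j; fin_cases i <;> fin_cases j <;> simp <;> ring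

/-- The anticommuting root. -/
noncomputable def jM (F : Type*) [Field F] [Finite F] [NotThree F] : Matrix (Fin 2) (Fin 2) F :=
  !![jg F - jb F, jb F; jg F, jb F - jg F]

theorem jM_sq : jM F * jM F = -1 := by
  have h := jgb (F := F)
  ext i j; fin_cases i <;> fin_cases j <;> simp [jM] <;> first | linear_combination h | ring1

theorem jM_toM (k : KK F) : jM F * toM F k = toM F (star k) * jM F := by
  ext i j; fin_cases i <;> fin_cases j <;> simp [jM, toM] <;> ring

omit [Finite F] [NotThree F] in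
theorem adj_toM (k : KK F) : (toM F k).adjugate = toM F (star k) := by
  ext i j; fin_cases i <;> fin_cases j <;> simp [toM, Matrix.adjugate_fin_two] <;> ring

theorem adj_jM : (jM F).adjugate = -jM F := by
  ext i j; fin_cases i <;> fin_cases j <;> simp [jM, Matrix.adjugate_fin_two]

/-- A quaternion from two coordinates. -/
noncomputable def mkA (k l : KK F) : Matrix (Fin 2) (Fin 2) F := toM F k + toM F l * jM F

theorem mkA_mul (k l k' l' : KK F) :
    mkA k l * mkA k' l' = mkA (k * k' - l * star l') (k * l' + l * star k') := by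
  have h1 : toM F l * jM F * toM F k' = toM F (l * star k') * jM F := by
    rw [mul_assoc, jM_toM, ← mul_assoc, ← map_mul]
  have h2 : toM F l * jM F * (toM F l' * jM F) = -toM F (l * star l') := by
    rw [mul_assoc, ← mul_assoc (jM F), jM_toM, mul_assoc, jM_sq, mul_neg_one, mul_neg, ← map_mul]
  have h3 : toM F k * (toM F l' * jM F) = toM F (k * l') * jM F := by rw [← mul_assoc, ← map_mul]
  rw [mkA, mkA, mkA, mul_add, add_mul, add_mul, h1, h2, h3, ← map_mul, map_sub, map_add, add_mul]
  abel

theorem mkA_adj (k l : KK F) : (mkA k l).adjugate = mkA (star k) (-l) := by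
  have h : ∀ A B : Matrix (Fin 2) (Fin 2) F, (A + B).adjugate = A.adjugate + B.adjugate := fun A B => by
    ext i j; fin_cases i <;> fin_cases j <;> simp [Matrix.adjugate_fin_two] <;> ring
  rw [mkA, h, adjugate_mul_distrib, adj_jM, adj_toM, adj_toM, neg_mul, jM_toM, star_star, mkA, map_neg, neg_mul]

theorem mkA_add (k l k' l' : KK F) : mkA (k + k') (l + l') = mkA k l + mkA k' l' := by
  simp only [mkA, map_add, add_mul]; abel

theorem mkA_sub (k l k' l' : KK F) : mkA (k - k') (l - l') = mkA k l - mkA k' l' := by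
  simp only [mkA, map_sub, sub_mul]; abel

omit [Finite F] [NotThree F] in
theorem toM_smul (c : F) (k : KK F) : toM F (c • k) = c • toM F k := by
  ext i j; fin_cases i <;> fin_cases j <;> simp [toM, mul_sub]

theorem mkA_smul (c : F) (k l : KK F) : mkA (c • k) (c • l) = c • mkA k l := by
  rw [mkA, mkA, toM_smul, toM_smul, smul_mul_assoc, smul_add]

/-- The first quaternion of an octonion. -/
def hA (x : Oct.V F) : Matrix (Fin 2) (Fin 2) F := !![x (.inl 0), x (.inl 1); -x (.inr 1), x (.inr 0)]

/-- The second quaternion of an octonion. -/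
def hB (x : Oct.V F) : Matrix (Fin 2) (Fin 2) F := !![x (.inl 2), -x (.inr 3); x (.inl 3), x (.inr 2)]

omit [Finite F] [NotThree F] in
theorem hA_mul (x y : Oct.V F) :
    hA (Oct.mul x y) = hA x * hA y - (hB y).adjugate * hB x := by
  ext i j; fin_cases i <;> fin_cases j <;> simp [hA, hB, Oct.mul, Matrix.adjugate_fin_two] <;> ring

omit [Finite F] [NotThree F] in
theorem hB_mul (x y : Oct.V F) :
    hB (Oct.mul x y) = hB y * hA x + hB x * (hA y).adjugate := by
  ext i j; fin_cases i <;> fin_cases j <;> simp [hA, hB, Oct.mul, Matrix.adjugate_fin_two] <;> ring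

/-- An octonion from two quaternions. -/
def ofH (a b : Matrix (Fin 2) (Fin 2) F) : Oct.V F :=
  Sum.elim ![a 0 0, a 0 1, b 0 0, b 1 0] ![a 1 1, -a 1 0, b 1 1, -b 0 1]

omit [Finite F] [NotThree F] in
theorem hA_ofH (a b : Matrix (Fin 2) (Fin 2) F) : hA (ofH a b) = a := by
  ext i j; fin_cases i <;> fin_cases j <;> simp [hA, ofH]

omit [Finite F] [NotThree F] in
theorem hB_ofH (a b : Matrix (Fin 2) (Fin 2) F) : hB (ofH a b) = b := by
  ext i j; fin_cases i <;> fin_cases j <;> simp [hB, ofH]

omit [Finite F] [NotThree F] in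
theorem ofH_hAB (x : Oct.V F) : ofH (hA x) (hB x) = x := by
  apply Oct.ext8 <;> simp [hA, hB, ofH]

omit [Finite F] [NotThree F] in
theorem ext_hAB {x y : Oct.V F} (h1 : hA x = hA y) (h2 : hB x = hB y) : x = y := by
  rw [← ofH_hAB x, ← ofH_hAB y, h1, h2]

/-- An octonion from the four lines, as a linear map. -/
noncomputable def ofKLin (F : Type*) [Field F] [Finite F] [NotThree F] : K4 F →ₗ[F] Oct.V F where
  toFun p := ofH (mkA p.1 (p.2 0)) (mkA (p.2 1) (star (p.2 2)))
  map_add' p q := by
    refine ext_hAB ?_ ?_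
    · rw [hA_ofH, show hA (ofH (mkA p.1 (p.2 0)) (mkA (p.2 1) (star (p.2 2))) +
        ofH (mkA q.1 (q.2 0)) (mkA (q.2 1) (star (q.2 2)))) = mkA p.1 (p.2 0) + mkA q.1 (q.2 0) by
        ext i j; fin_cases i <;> fin_cases j <;> simp [hA, ofH] <;> ring]
      exact mkA_add _ _ _ _
    · rw [hB_ofH, show hB (ofH (mkA p.1 (p.2 0)) (mkA (p.2 1) (star (p.2 2))) +
        ofH (mkA q.1 (q.2 0)) (mkA (q.2 1) (star (q.2 2)))) = mkA (p.2 1) (star (p.2 2)) + mkA (q.2 1) (star (q.2 2)) by
        ext i j; fin_cases i <;> fin_cases j <;> simp [hB, ofH] <;> ring, ← mkA_add, ← star_add]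
      rfl
  map_smul' c p := by
    have hs : star (c • p.2 2) = c • star (p.2 2) := by ext <;> simp <;> ring
    refine ext_hAB ?_ ?_
    · rw [hA_ofH, show hA ((RingHom.id F) c • ofH (mkA p.1 (p.2 0)) (mkA (p.2 1) (star (p.2 2)))) =
        c • mkA p.1 (p.2 0) by ext i j; fin_cases i <;> fin_cases j <;> simp [hA, ofH]]
      exact mkA_smul _ _ _
    · rw [hB_ofH, show hB ((RingHom.id F) c • ofH (mkA p.1 (p.2 0)) (mkA (p.2 1) (star (p.2 2)))) =
        c • mkA (p.2 1) (star (p.2 2)) by ext i j; fin_cases i <;> fin_cases j <;> simp [hB, ofH], ← mkA_smul, ← hs]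
      rfl

theorem mkA_eq_zero [NotThree F] {k l : KK F} (h : mkA k l = 0) : k = 0 ∧ l = 0 := by
  let w : KK F := ⟨0, 1⟩
  have e := congrArg₂ (· - ·) (congrArg (fun z => toM F w * z) h) (congrArg (fun z => z * toM F w) h)
  simp only [mul_zero, zero_mul, sub_zero, mkA, mul_add, add_mul] at e
  rw [← map_mul, ← map_mul, mul_comm w k, mul_assoc (toM F l), jM_toM, ← mul_assoc, ← mul_assoc, ← map_mul, ← map_mul,
    show toM F (k * w) + toM F (w * l) * jM F - (toM F (k * w) + toM F (l * star w) * jM F) =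
      toM F (w * l - l * star w) * jM F by rw [map_sub, sub_mul]; abel] at e
  have e2 := congrArg (fun z => z * jM F) e
  simp only [zero_mul, mul_assoc, jM_sq, mul_neg_one, neg_eq_zero] at e2
  have e3 : ∀ i j, toM F (w * l - l * star w) i j = 0 := fun i j => by rw [e2]; rfl
  have hr := e3 0 0
  have hi := e3 1 0
  simp [toM, w] at hr hi
  have hl : l = 0 := by
    have h3 := three_ne (F := F)
    have him : l.im = 0 := (mul_eq_zero.1 (show (3 : F) * l.im = 0 by linear_combination hi - 2 * hr)).resolve_left h3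
    have hre : l.re = 0 := (mul_eq_zero.1 (show (3 : F) * l.re = 0 by linear_combination 2 * hi - hr)).resolve_left h3
    ext <;> assumption
  subst hl
  refine ⟨?_, rfl⟩
  rw [mkA, map_zero, zero_mul, add_zero] at h
  ext
  · have := congrFun (congrFun h 0) 0; simpa [toM] using this
  · have := congrFun (congrFun h 1) 0; simpa [toM] using this

theorem ofKLin_injective : Function.Injective (ofKLin F) := by
  rw [← LinearMap.ker_eq_bot, LinearMap.ker_eq_bot']
  intro p h
  have h1 := congrArg hA h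
  have h2 := congrArg hB h
  rw [show ofKLin F p = ofH (mkA p.1 (p.2 0)) (mkA (p.2 1) (star (p.2 2))) from rfl] at h1 h2
  rw [hA_ofH, show hA (0 : Oct.V F) = 0 by ext i j; fin_cases i <;> fin_cases j <;> simp [hA]] at h1
  rw [hB_ofH, show hB (0 : Oct.V F) = 0 by ext i j; fin_cases i <;> fin_cases j <;> simp [hB]] at h2
  obtain ⟨h0, h1'⟩ := mkA_eq_zero h1
  obtain ⟨h2', h3⟩ := mkA_eq_zero h2
  have h3' : p.2 2 = 0 := by rw [← star_star (p.2 2), h3, star_zero]
  refine Prod.ext h0 (funext fun i => ?_)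
  fin_cases i <;> assumption

omit [Finite F] [NotThree F] in
theorem finrank_K4 : Module.finrank F (K4 F) = Module.finrank F (Oct.V F) := by
  rw [Module.finrank_prod, Module.finrank_pi_fintype, Module.finrank_fintype_fun_eq_card,
    QuadraticAlgebra.finrank_eq_two]
  simp

/-- The octonions as four lines. -/
noncomputable def ofK (F : Type*) [Field F] [Finite F] [NotThree F] : K4 F ≃ₗ[F] Oct.V F :=
  (ofKLin F).linearEquivOfInjective ofKLin_injective finrank_K4

theorem ofK_apply (p : K4 F) : ofK F p = ofH (mkA p.1 (p.2 0)) (mkA (p.2 1) (star (p.2 2))) :=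
  LinearMap.linearEquivOfInjective_apply (f := ofKLin F) ofKLin_injective finrank_K4 p

theorem ofK_mul (p q : K4 F) : Oct.mul (ofK F p) (ofK F q) = ofK F (mul4 p q) := by
  simp only [ofK_apply]
  refine ext_hAB ?_ ?_
  · rw [hA_mul, hA_ofH, hA_ofH, hA_ofH, hB_ofH, hB_ofH, mkA_adj, mkA_mul, mkA_mul, ← mkA_sub]
    simp only [mul4, show (0 : Fin 3) + 1 = 1 from rfl, show (0 : Fin 3) + 2 = 2 from rfl]
    congr 1 <;> simp only [star_star, star_sub, star_mul', star_neg, neg_mul, mul_neg] <;> ring
  · rw [hB_mul, hA_ofH, hA_ofH, hB_ofH, hB_ofH, hB_ofH, mkA_adj, mkA_mul, mkA_mul, ← mkA_add]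
    simp only [mul4, show (1 : Fin 3) + 1 = 2 from rfl, show (1 : Fin 3) + 2 = 0 from rfl,
      show (2 : Fin 3) + 1 = 0 from rfl, show (2 : Fin 3) + 2 = 1 from rfl]
    congr 1 <;> simp only [star_star, star_sub, star_add, star_mul', star_neg, neg_mul, mul_neg] <;> ring

theorem ofK_conj (p : K4 F) : Oct.conj (ofK F p) = ofK F (conj4 p) := by
  simp only [ofK_apply, conj4]
  refine ext_hAB ?_ ?_
  · rw [hA_ofH, show hA (Oct.conj (ofH (mkA p.1 (p.2 0)) (mkA (p.2 1) (star (p.2 2))))) =
      (mkA p.1 (p.2 0)).adjugate by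
      ext i j; fin_cases i <;> fin_cases j <;> simp [hA, ofH, Oct.conj, Matrix.adjugate_fin_two], mkA_adj]
  · rw [hB_ofH, show hB (Oct.conj (ofH (mkA p.1 (p.2 0)) (mkA (p.2 1) (star (p.2 2))))) =
      -mkA (p.2 1) (star (p.2 2)) by
      ext i j; fin_cases i <;> fin_cases j <;> simp [hB, ofH, Oct.conj], star_neg]
    simp [mkA, map_neg]; abel

theorem ofK_one : ofK F ((1 : KK F), (0 : Fin 3 → KK F)) = Oct.one := by
  rw [ofK_apply]
  apply Oct.ext8 <;> simp [ofH, mkA, toM, jM, Oct.one, Matrix.add_apply, Matrix.mul_apply, Fin.sum_univ_two]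

omit [Finite F] [NotThree F] in
theorem algMap_Q (x : Oct.V F) : Oct.mul x (Oct.conj x) = Oct.Q F x • Oct.one := by
  apply Oct.ext8 <;> simp [Oct.mul, Oct.conj, Oct.one, Oct.Q8_apply] <;> ring

/-- The norm in the four lines. -/
theorem Q_ofK (p : K4 F) :
    Oct.Q F (ofK F p) = QuadraticAlgebra.norm p.1 +
      (QuadraticAlgebra.norm (p.2 0) + QuadraticAlgebra.norm (p.2 1) + QuadraticAlgebra.norm (p.2 2)) := by
  have h := algMap_Q (ofK F p)
  rw [ofK_conj, ofK_mul, ← ofK_one, ← map_smul, (ofK F).injective.eq_iff] at h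
  have h1 := congrArg (fun z : K4 F => z.1.re) h
  simp [mul4, conj4, QuadraticAlgebra.norm_def] at h1 ⊢
  linear_combination -h1

end CfsgLib.FgsC.LocalBalance.Tri
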