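import Cfsg.Agent.Lib.FgsC.LocalBalance.Triality.Sylow
import Cfsg.Agent.Lib.FgsC.LocalBalance.Triality.Core
import Mathlib.Tactic.Module
import Mathlib.Tactic.LinearCombination

/-!
Conjugations of monomial triality elements.
-/

set_option autoImplicit false
set_option maxHeartbeats 1000000

namespace CfsgLib.FgsC.LocalBalance.Tri

open Matrix QuadraticMap CfsgLib.Geometry
open CfsgLib.Geometry.Oct (V G8 Q Sim ap Trip pi0 R8)
open scoped QuadraticAlgebra

variable {F : Type*} [Field F] [Finite F] [NotThree F]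

/-- The product of the three parameters. -/
def UU (p : T4 F) : K1 F := p.2 0 * p.2 1 * p.2 2

omit [Finite F] [NotThree F] in
theorem UU_mul (p q : T4 F) : UU (p * q) = UU p * UU q := by
  simp [UU, mul_assoc, mul_comm, mul_left_comm]

omit [Finite F] [NotThree F] in
theorem UU_tcyc (p : T4 F) : UU (tcyc p) = UU p := by
  show p.2 1 * p.2 2 * p.2 0 = _
  exact (mul_rotate _ _ _).symm

/-- The action of a triality with a field part on the parameters. -/
def psi (σ : F ≃+* F) (p : T4 F) : T4 F := trot (tmap σ p)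

/-- The triality with a field part. -/
noncomputable abbrev sA (σ : F ≃+* F) : MulAut (G8 F) := tau F * phi σ

omit [Finite F] [NotThree F] in
theorem UU_tmap (σ : F ≃+* F) (p : T4 F) : UU (tmap σ p) = k1 σ (UU p) := by simp [UU, tmap]

omit [Finite F] [NotThree F] in
theorem psi_fst (σ : F ≃+* F) (p : T4 F) : (psi σ p).1 = k1 σ (UU p * p.1) := by
  show UU (tmap σ p) * (tmap σ p).1 = _
  rw [UU_tmap, map_mul]; rfl

omit [Finite F] [NotThree F] in
theorem psi_snd (σ : F ≃+* F) (p : T4 F) (j : Fin 3) : (psi σ p).2 j = k1 σ (p.2 j * (UU p * p.1)⁻¹) := by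
  show (tmap σ p).2 j * (UU (tmap σ p) * (tmap σ p).1)⁻¹ = _
  rw [UU_tmap, map_mul, map_inv, map_mul]; rfl

omit [Finite F] [NotThree F] in
theorem UU_psi (σ : F ≃+* F) (p : T4 F) : UU (psi σ p) = k1 σ (UU p * ((UU p * p.1)⁻¹) ^ 3) := by
  rw [UU, psi_snd, psi_snd, psi_snd, ← map_mul, ← map_mul, pow_three']
  congr 1
  simp only [UU, mul_assoc, mul_comm, mul_left_comm]

theorem sA_cube {σ : F ≃+* F} (hσ : σ ^ 3 = 1) : sA σ ^ 3 = 1 := by
  rw [(tau_phi σ).mul_pow, tau_cube, one_mul, phi_cube hσ]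

theorem sA_wA (σ : F ≃+* F) : Commute (sA σ) (wA F) :=
  (tau_act _).mul_left (act_fldS σ ▸ (wS_fldS σ).symm.map (act F))

theorem sA_dg (σ : F ≃+* F) (p : T4 F) : sA σ * dg F p = dg F (psi σ p) * sA σ := by
  rw [← mul_inv_eq_iff_eq_mul]
  calc _ = tau F * (phi σ * dg F p * (phi σ)⁻¹) * (tau F)⁻¹ := by group
    _ = _ := by rw [phi_dg, tau_dg]; rfl

theorem wsA_dg (σ : F ≃+* F) (p : T4 F) :
    wA F * sA σ * dg F p = dg F (tcyc (psi σ p)) * (wA F * sA σ) := by
  rw [mul_assoc, sA_dg, ← mul_assoc, mul_inv_eq_iff_eq_mul.1 (wS_dg _), mul_assoc]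

theorem conj_dg {a : MulAut (G8 F)} {θ : T4 F → T4 F} (hθ : ∀ p, a * dg F p = dg F (θ p) * a) (p q : T4 F) :
    dg F q * (dg F p * a) * (dg F q)⁻¹ = dg F (q * p * θ q⁻¹) * a := by
  rw [← map_inv, mul_assoc, mul_assoc (dg F p), hθ, ← mul_assoc, ← mul_assoc, ← map_mul, ← map_mul]

theorem order_eq {a : MulAut (G8 F)} {θ : T4 F → T4 F} (hθ : ∀ p, a * dg F p = dg F (θ p) * a) (ha : a ^ 3 = 1)
    {p : T4 F} (h : (dg F p * a) ^ 3 = 1) : p * θ p * θ (θ p) = 1 := by
  refine dg_injective ?_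
  rw [map_one, map_mul, map_mul, ← h]
  calc dg F p * dg F (θ p) * dg F (θ (θ p))
      = dg F p * dg F (θ p) * dg F (θ (θ p)) * a ^ 3 := by rw [ha, mul_one]
    _ = dg F p * dg F (θ p) * (dg F (θ (θ p)) * a) * (a * a) := by rw [pow_three]; simp only [mul_assoc]
    _ = dg F p * (dg F (θ p) * a) * (dg F (θ p) * a) * a := by rw [← hθ]; simp only [mul_assoc]
    _ = dg F p * (a * dg F p) * (a * dg F p) * a := by rw [hθ]
    _ = _ := by rw [pow_three]; simp only [mul_assoc]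

omit [Finite F] [NotThree F] in
/-- The first consequence of order three. -/
theorem delta_fixed_add {A : Type*} [AddCommGroup A] (k : A →+ A) (h3 : ∀ z, k (k (k z)) = z) (c u : A)
    (h : c + k (u + c) + k (k (u + (-(u + c) + -(u + c) + -(u + c)) + (u + c))) = 0) :
    k (u + c + c + k (u + c)) = u + c + c + k (u + c) := by
  have h' := congrArg k h
  simp only [map_add, map_neg, map_zero, h3] at h h' ⊢
  linear_combination (norm := module) h'

omit [Finite F] [NotThree F] in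
theorem fix_calc {A : Type*} [AddCommGroup A] (k : A →+ A) (c u b : A)
    (hb : b + k b + k (k b) + (u + c + c + k (u + c)) = 0) :
    (k b + (u + c)) + b + c + k (((k b + (u + c)) + (k b + (u + c)) + b) + -((k b + (u + c)) + b)) = 0 ∧
    -((k b + (u + c)) + (k b + (u + c)) + b) + u +
      k (((k b + (u + c)) + (k b + (u + c)) + b) +
        (-(((k b + (u + c)) + (k b + (u + c)) + b) + -((k b + (u + c)) + b)) +
        -(((k b + (u + c)) + (k b + (u + c)) + b) + -((k b + (u + c)) + b)) +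
        -(((k b + (u + c)) + (k b + (u + c)) + b) + -((k b + (u + c)) + b)))) = 0 := by
  simp only [map_add, map_neg] at hb ⊢
  constructor
  · linear_combination (norm := module) hb
  · linear_combination (norm := module) (-1 : ℤ) • hb

omit [Finite F] [NotThree F] in
theorem delta_fixed_mul {A : Type*} [CommGroup A] (k : A →* A) (h3 : ∀ z, k (k (k z)) = z) (c u : A)
    (h : c * k (u * c) * k (k (u * ((u * c)⁻¹ * (u * c)⁻¹ * (u * c)⁻¹) * (u * c))) = 1) :
    k (u * c * c * k (u * c)) = u * c * c * k (u * c) :=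
  delta_fixed_add (MonoidHom.toAdditive k) (fun z => h3 z) (Additive.ofMul c) (Additive.ofMul u) h

omit [Finite F] [NotThree F] in
theorem fix_calc_mul {A : Type*} [CommGroup A] (k : A →* A) (c u b a : A) (ha : a = k b * (u * c))
    (hb : b * k b * k (k b) * (u * c * c * k (u * c)) = 1) :
    a * b * c * k (a * a * b * (a * b)⁻¹) = 1 ∧
    (a * a * b)⁻¹ * u *
      k (a * a * b * ((a * a * b * (a * b)⁻¹)⁻¹ * (a * a * b * (a * b)⁻¹)⁻¹ * (a * a * b * (a * b)⁻¹)⁻¹)) = 1 := by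
  subst ha
  exact fix_calc (MonoidHom.toAdditive k) (Additive.ofMul c) (Additive.ofMul u) (Additive.ofMul b) hb

omit [Finite F] in
/-- The obstruction to the normal form. -/
theorem delta_spec {σ : F ≃+* F} (hσ : σ ^ 3 = 1) {p : T4 F}
    (h : p.1 * k1 σ (UU p * p.1) * k1 σ (k1 σ (UU p * ((UU p * p.1)⁻¹) ^ 3 * (UU p * p.1))) = 1) :
    k1 σ (UU p * p.1 * p.1 * k1 σ (UU p * p.1)) = UU p * p.1 * p.1 * k1 σ (UU p * p.1) := by
  have h3 : ∀ z : K1 F, k1 σ (k1 σ (k1 σ z)) = z := fun z => by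
    rw [← k1_mul, ← k1_mul, ← pow_three' σ, hσ, k1_one]
  rw [pow_three'] at h
  exact delta_fixed_mul (k1 σ) h3 p.1 (UU p) h

/-- The parameters normalising a monomial element. -/
theorem exists_normal_q {σ : F ≃+* F} (p : T4 F) (b : K1 F)
    (hb : b * k1 σ b * k1 σ (k1 σ b) * (UU p * p.1 * p.1 * k1 σ (UU p * p.1)) = 1) :
    ∃ q : T4 F, (q * p * psi σ q⁻¹).1 = 1 ∧ UU (q * p * psi σ q⁻¹) = 1 := by
  obtain ⟨a, ha⟩ : ∃ a, a = k1 σ b * (UU p * p.1) := ⟨_, rfl⟩
  have key := fix_calc_mul (k1 σ) p.1 (UU p) b a ha hb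
  have h1 : UU ((a * b, ![(a * a * b)⁻¹, 1, 1]) : T4 F) = (a * a * b)⁻¹ := by simp [UU]
  have h2 : UU ((a * b, ![(a * a * b)⁻¹, 1, 1]) : T4 F)⁻¹ = a * a * b := by simp [UU]
  refine ⟨(a * b, ![(a * a * b)⁻¹, 1, 1]), ?_, ?_⟩
  · rw [Prod.fst_mul, Prod.fst_mul, psi_fst, h2, Prod.fst_inv]
    exact key.1
  · rw [UU_mul, UU_mul, UU_psi, h1, h2, Prod.fst_inv, pow_three']
    exact key.2

end CfsgLib.FgsC.LocalBalance.Tri
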