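import Cfsg.Agent.Lib.FgsC.LocalBalance.Triality.Gens
import Cfsg.Agent.Lib.Geometry.POmegaStd
import Cfsg.Agent.Lib.Classical.OrthStd
import Mathlib.GroupTheory.Perm.Cycle.Type

/-!
A triality element is conjugate to a monomial one.
-/

set_option autoImplicit false
set_option maxHeartbeats 1000000

namespace CfsgLib.FgsC.LocalBalance.Tri

open Matrix QuadraticMap CfsgLib.Geometry
open CfsgLib.Geometry.Oct (V G8 Q Sim ap Trip pi0 R8)
open scoped QuadraticAlgebra

variable {F : Type*} [Field F] [Finite F] [NotThree F]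

/-- The cyclic permutation of the lines as an automorphism. -/
noncomputable abbrev wA (F : Type*) [Field F] [Finite F] [NotThree F] : MulAut (G8 F) := act F (wS F)

theorem wA_cube : wA F ^ 3 = 1 := by rw [← map_pow, wS_cube, map_one]

theorem wA_dg_pow : ∀ (i : ℕ) (p : T4 F), wA F ^ i * dg F p = dg F (tcyc^[i] p) * wA F ^ i := by
  intro i
  induction i with
  | zero => intro p; simp
  | succ k ih =>
    intro p
    rw [pow_succ', mul_assoc, ih, ← mul_assoc, mul_inv_eq_iff_eq_mul.1 (wS_dg _), Function.iterate_succ_apply',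
      mul_assoc]

/-- The monomial group. -/
noncomputable def mon (F : Type*) [Field F] [Finite F] [NotThree F] : Subgroup (MulAut (G8 F)) where
  carrier := {g | ∃ p, ∃ i : ℕ, g = dg F p * wA F ^ i}
  one_mem' := ⟨1, 0, by simp⟩
  mul_mem' := by
    rintro _ _ ⟨p, i, rfl⟩ ⟨q, j, rfl⟩
    exact ⟨p * tcyc^[i] q, i + j, by
      rw [map_mul, pow_add, mul_assoc, ← mul_assoc (wA F ^ i), wA_dg_pow]; simp only [mul_assoc]⟩
  inv_mem' := by
    rintro _ ⟨p, i, rfl⟩
    refine ⟨tcyc^[2 * i] p⁻¹, 2 * i, ?_⟩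
    rw [← wA_dg_pow, _root_.mul_inv_rev, map_inv]
    congr 1
    refine inv_eq_of_mul_eq_one_left ?_
    rw [← pow_add, show 2 * i + i = 3 * i by ring, pow_mul, wA_cube, one_pow]

theorem card_mon : Nat.card (mon F) = 3 * Nat.card (K1 F) ^ 4 := by
  classical
  let f : T4 F × Fin 3 → mon F := fun x => ⟨dg F x.1 * wA F ^ (x.2 : ℕ), x.1, x.2, rfl⟩
  have hbij : Function.Bijective f := by
    refine ⟨?_, ?_⟩
    · rintro ⟨p, i⟩ ⟨q, j⟩ h
      have h' : dg F p * wA F ^ (i : ℕ) = dg F q * wA F ^ (j : ℕ) := congrArg Subtype.val h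
      set e0 : T4 F := (1, ![om1 F, 1, 1])
      have h1 : dg F (tcyc^[(i : ℕ)] e0) = dg F (tcyc^[(j : ℕ)] e0) := by
        have hi : (dg F p * wA F ^ (i : ℕ)) * dg F e0 * (dg F p * wA F ^ (i : ℕ))⁻¹ = dg F (tcyc^[(i : ℕ)] e0) := by
          rw [mul_assoc (dg F p), wA_dg_pow, _root_.mul_inv_rev, ← mul_assoc (dg F p), mul_assoc (_ * _) (wA F ^ _),
            mul_inv_cancel_left, (dg_comm p _).eq, mul_inv_cancel_right]
        rw [← hi, h', mul_assoc (dg F q), wA_dg_pow, _root_.mul_inv_rev, ← mul_assoc (dg F q),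
          mul_assoc (_ * _) (wA F ^ _), mul_inv_cancel_left, (dg_comm q _).eq, mul_inv_cancel_right]
      have h2 := congrArg Prod.snd (dg_injective h1)
      have hne : om1 F ≠ 1 := fun e => by
        have := congrArg (fun z : K1 F => ((z : (KK F)ˣ) : KK F).im) e
        simp [om1_coe, om] at this
      have hij : i = j := by
        fin_cases i <;> fin_cases j <;> first
          | rfl
          | (exfalso
             have a0 := congrFun h2 0
             have a1 := congrFun h2 1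
             have a2 := congrFun h2 2
             simp [tcyc, e0, hne, hne.symm] at a0 a1 a2)
      subst hij
      exact Prod.ext (dg_injective (mul_right_cancel h')) rfl
    · rintro ⟨_, p, i, rfl⟩
      refine ⟨(p, ⟨i % 3, Nat.mod_lt _ (by norm_num)⟩), Subtype.ext ?_⟩
      show dg F p * wA F ^ (i % 3) = dg F p * wA F ^ i
      conv_rhs => rw [← Nat.mod_add_div i 3, pow_add, pow_mul, wA_cube, one_pow, mul_one]
  rw [← Nat.card_eq_of_bijective f hbij, Nat.card_prod, Nat.card_prod, Nat.card_pi, Fin.prod_univ_three,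
    Nat.card_fin]
  ring

theorem mon_le : mon F ≤ (pi0 F).range := by
  rintro _ ⟨p, i, rfl⟩
  exact mul_mem (dg_mem_range_pi0 p) (pow_mem (act_mem_range_pi0 srho_wS) i)

theorem pow_three_dvd {k : ℕ} (h : 3 ^ k ∣ Nat.card (pi0 F).range) : 3 ^ k ∣ 3 * Nat.card (K1 F) ^ 4 := by
  classical
  haveI := Fintype.ofFinite F
  haveI := Fact.mk Nat.prime_three
  set I := (Cfsg.Inn (G8 F)).subgroupOf (pi0 F).range with hI
  haveI : I.Normal := (Cfsg.innNormal (G8 F)).subgroupOf _
  have hidx : ¬ 3 ∣ I.index := by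
    intro h3
    rw [Subgroup.index_eq_card] at h3
    obtain ⟨g, hg⟩ := exists_prime_orderOf_dvd_card' 3 h3
    obtain ⟨⟨_, t, rfl⟩, rfl⟩ := QuotientGroup.mk'_surjective I g
    have h2 : (QuotientGroup.mk' I ⟨pi0 F t, t, rfl⟩) ^ 2 = 1 := by
      rw [← map_pow]
      refine (QuotientGroup.eq_one_iff _).2 (Subgroup.mem_subgroupOf.2 ?_)
      refine (QuotientGroup.eq_one_iff _).1 ?_
      rw [SubgroupClass.coe_pow]
      show QuotientGroup.mk' (Cfsg.Inn (G8 F)) (pi0 F t ^ 2) = 1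
      rw [map_pow, pow_two]
      exact V8_sq _ (mk_pi0_mem t)
    have := orderOf_dvd_of_pow_eq_one h2
    rw [hg] at this
    exact absurd this (by norm_num)
  have hI : 3 ^ k ∣ Nat.card (G8 F) := by
    rw [← I.card_mul_index] at h
    have h' := (Nat.Coprime.pow_left k ((Nat.prime_three.coprime_iff_not_dvd).2 hidx)).dvd_of_dvd_mul_right h
    rw [Nat.card_congr (Subgroup.subgroupOfEquivOfLe (Oct.inn_le_range (F := F))).toEquiv] at h'
    exact h'.trans (Subgroup.card_range_dvd _)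
  have hdet := (Oct.evenHyp8 (F := F)).det_ne
  have hO : Nat.card (G8 F) ∣ Nat.card (Cfsg.isometryGroup F ⇑(Q F)) := by
    by_cases h2 : (2 : F) = 0
    · exact Dvd.intro_left _ (card_pOmega_char_two h2 (Oct.evenHyp8 (F := F)).five_le hdet)
    · exact Dvd.intro_left _ (card_pOmega_even_dim h2 (Oct.evenHyp8 (F := F)).five_le ⟨4, by simp⟩ hdet)
  have hc := CfsgLib.Classical.card_isometry_plus (F := F) 3
  have hQ : (⇑(Q F) : (Fin 4 ⊕ Fin 4 → F) → F) = Cfsg.quadFormPlus (3 + 1) F := coe_matQuad_plus _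
  rw [hQ, hc] at hO
  have hd := hI.trans hO
  simp only [Finset.prod_range_succ, Finset.prod_range_zero, one_mul] at hd
  norm_num at hd
  simp only [← Nat.card_eq_fintype_card] at hd
  set q := Nat.card F
  have hq3 : ¬ 3 ∣ q := by
    intro hq
    obtain ⟨r, hr⟩ := CharP.exists F
    obtain ⟨n, hp, hn⟩ := FiniteField.card F r
    have : 3 ∣ r := Nat.prime_three.dvd_of_dvd_pow (hn ▸ (by rwa [← Nat.card_eq_fintype_card]) : 3 ∣ r ^ (n : ℕ))
    rw [Nat.prime_dvd_prime_iff_eq Nat.prime_three hp] at this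
    subst this
    exact three_ne (F := F) (by exact_mod_cast CharP.cast_eq_zero F 3)
  obtain ⟨m, hm⟩ : ∃ m, q ^ 2 = 3 * m + 1 := by
    refine ⟨q ^ 2 / 3, ?_⟩
    have : q ^ 2 % 3 = 1 := by
      have := Nat.mod_lt q (show 3 > 0 by norm_num)
      rw [pow_two, Nat.mul_mod]
      interval_cases hq : q % 3
      · exact absurd (Nat.dvd_of_mod_eq_zero hq) hq3
      all_goals rfl
    omega
  have e4 : q ^ 4 = q ^ 2 * q ^ 2 := by ring
  have e6 : q ^ 6 = q ^ 2 * q ^ 2 * q ^ 2 := by ring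
  rw [e4, e6, hm] at hd
  have f4 : (3 * m + 1) * (3 * m + 1) - 1 = 3 * m * (3 * m + 2) :=
    Nat.sub_eq_of_eq_add (by ring)
  have f6 : (3 * m + 1) * (3 * m + 1) * (3 * m + 1) - 1 = 3 * m * (3 * (3 * m * m + 3 * m + 1)) :=
    Nat.sub_eq_of_eq_add (by ring)
  rw [f4, f6, Nat.add_sub_cancel] at hd
  obtain ⟨a, r, hr, hmr⟩ : ∃ a r, ¬ 3 ∣ r ∧ 3 * m = 3 ^ a * r := by
    refine Nat.exists_eq_pow_mul_and_not_dvd ?_ 3 (by norm_num)
    have : 1 < q := Finite.one_lt_card
    have : 4 ≤ q ^ 2 := by nlinarith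
    omega
  have hK := three_part (F := F) (k := a) (by rw [hm, Nat.add_sub_cancel, hmr]; exact Dvd.intro _ rfl)
  have hd' : 3 ^ k ∣ 3 ^ (4 * a + 1) * (2 * q ^ 12 * (r ^ 4 * ((3 * m + 2) * (3 * m + 2) * (3 * m * m + 3 * m + 1)))) := by
    refine hd.trans (dvd_of_eq ?_)
    rw [hmr]; ring
  have hcop : Nat.Coprime (3 ^ k) (2 * q ^ 12 * (r ^ 4 * ((3 * m + 2) * (3 * m + 2) * (3 * m * m + 3 * m + 1)))) := by
    refine Nat.Coprime.pow_left _ ((Nat.prime_three.coprime_iff_not_dvd).2 fun h => ?_)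
    have hp := Nat.prime_three
    rcases hp.dvd_mul.1 h with h | h
    · rcases hp.dvd_mul.1 h with h | h
      · norm_num at h
      · exact hq3 (hp.dvd_of_dvd_pow h)
    · rcases hp.dvd_mul.1 h with h | h
      · exact hr (hp.dvd_of_dvd_pow h)
      · have h5 : (3 * m * m + 3 * m + 1) % 3 = 1 := by
          rw [show 3 * m * m + 3 * m + 1 = 1 + 3 * (m * m + m) by ring, Nat.add_mul_mod_self_left]
        rcases hp.dvd_mul.1 h with h | h
        · rcases hp.dvd_mul.1 h with h | h <;> omega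
        · omega
  refine (hcop.dvd_of_dvd_mul_right hd').trans ?_
  rw [pow_succ', mul_comm 4 a, pow_mul]
  exact mul_dvd_mul_left 3 (pow_dvd_pow_of_dvd hK 4)

set_option maxHeartbeats 6000000 in
/-- A triality element of order three is conjugate to a monomial one. -/
theorem exists_monomial {σ : F ≃+* F} (hσ : σ ^ 3 = 1) (t : Trip F) (hy : (pi0 F t * tau F * phi σ) ^ 3 = 1) :
    ∃ α p, ∃ i : ℕ, α * (pi0 F t * tau F * phi σ) * α⁻¹ = dg F p * wA F ^ i * (tau F * phi σ) := by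
  classical
  haveI := Fact.mk Nat.prime_three
  rw [mul_assoc (pi0 F t)] at hy ⊢
  set s := tau F * phi σ with hs
  set G := (pi0 F).range with hG
  haveI hN : G.Normal := pi0_normal
  set H := (mon F).subgroupOf G with hH
  haveI : Finite G := inferInstance
  have hs3 : s ^ 3 = 1 := by
    rw [hs, (tau_phi σ).mul_pow, tau_cube, one_mul, pow_three, ← phi_mul, ← phi_mul, ← pow_three, hσ, phi_one]
  have hsH : ∀ h ∈ mon F, s * h * s⁻¹ ∈ mon F := by
    rintro _ ⟨p, i, rfl⟩
    refine ⟨trot (tmap σ p), i, ?_⟩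
    have hw : Commute s (wA F) :=
      (tau_act _).mul_left (act_fldS σ ▸ (wS_fldS σ).symm.map (act F))
    have e : s * dg F p * s⁻¹ = dg F (trot (tmap σ p)) := by
      calc _ = tau F * (phi σ * dg F p * (phi σ)⁻¹) * (tau F)⁻¹ := by rw [hs]; group
        _ = _ := by rw [phi_dg, tau_dg]
    rw [← e, ← mul_assoc s, mul_assoc (s * dg F p) _ s⁻¹, ← ((hw.pow_right i).inv_left).eq, ← mul_assoc]
  let g : G → G := fun a => ⟨pi0 F t * s * a * s⁻¹, by
    rw [mul_assoc (pi0 F t), mul_assoc (pi0 F t)]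
    exact mul_mem ⟨t, rfl⟩ (hN.conj_mem _ a.2 s)⟩
  let f : G ⧸ H → G ⧸ H := Quotient.map' g fun a b hab => by
    rw [QuotientGroup.leftRel_apply, Subgroup.mem_subgroupOf] at hab ⊢
    have := hsH _ hab
    simp only [g, Subgroup.coe_mul, Subgroup.coe_inv]
    refine (congrArg (· ∈ mon F) ?_).mp this
    simp only [Subgroup.coe_mul, Subgroup.coe_inv]; group
  have hf : ∀ a : G, f a = (g a : G ⧸ H) := fun a => rfl
  have hf3 : ∀ v, f (f (f v)) = v := by
    intro v
    induction v using QuotientGroup.induction_on with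
    | H a =>
      rw [hf, hf, hf]
      refine congrArg _ (Subtype.ext ?_)
      show pi0 F t * s * (pi0 F t * s * (pi0 F t * s * a * s⁻¹) * s⁻¹) * s⁻¹ = a
      have e1 : pi0 F t * s * (pi0 F t * s) * (pi0 F t * s) = 1 := by rw [← hy, pow_three']
      have e2 : s⁻¹ * s⁻¹ * s⁻¹ = 1 := by rw [← pow_three', inv_pow, hs3, inv_one]
      calc _ = (pi0 F t * s * (pi0 F t * s) * (pi0 F t * s)) * a * (s⁻¹ * s⁻¹ * s⁻¹) := by simp only [mul_assoc]
        _ = _ := by rw [e1, e2, one_mul, mul_one]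
  let e : Equiv.Perm (G ⧸ H) := ⟨f, fun v => f (f v), hf3, hf3⟩
  haveI := Fintype.ofFinite (G ⧸ H)
  have hndvd : ¬ 3 ∣ Fintype.card (G ⧸ H) := by
    rw [← Nat.card_eq_fintype_card, ← Subgroup.index_eq_card]
    intro h3
    have hcH : Nat.card H = 3 * Nat.card (K1 F) ^ 4 := by
      rw [Nat.card_congr (Subgroup.subgroupOfEquivOfLe (mon_le (F := F))).toEquiv, card_mon]
    obtain ⟨k, r, hr, hcr⟩ := Nat.exists_eq_pow_mul_and_not_dvd (Nat.card_pos (α := H)).ne' 3 (by norm_num)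
    have hall : 3 ^ (k + 1) ∣ Nat.card G := by
      rw [← H.card_mul_index, pow_succ]
      exact mul_dvd_mul (hcr ▸ Dvd.intro r rfl) h3
    have h4 := pow_three_dvd hall
    rw [← hcH, hcr, pow_succ] at h4
    exact hr (Nat.dvd_of_mul_dvd_mul_left (by positivity) h4)
  obtain ⟨v, hv⟩ := Equiv.Perm.exists_fixed_point_of_prime (p := 3) (n := 1) hndvd (σ := e) (by
    refine Equiv.ext fun v => ?_
    rw [pow_one, pow_three]
    exact hf3 v)
  obtain ⟨a, rfl⟩ := QuotientGroup.mk_surjective v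
  change f a = _ at hv
  rw [hf, eq_comm, QuotientGroup.eq, Subgroup.mem_subgroupOf] at hv
  obtain ⟨p, i, hp⟩ := hv
  refine ⟨(a : MulAut (G8 F))⁻¹, p, i, ?_⟩
  rw [← hp]
  simp only [g, Subgroup.coe_mul, Subgroup.coe_inv]
  group

end CfsgLib.FgsC.LocalBalance.Tri
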